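import Cfsg.Agent.ResidualFour.Even.Defs
import Cfsg.Agent.AutPSp.Graph

/-!
No short root involutions in the residual class of Sp_4(q), q even: the exceptional endomorphism carries the
perfect socle preimage to a group of the same kind, and a short root involution to a transvection.
-/

set_option autoImplicit false

namespace Cfsg.Agent.ResidualFour.Even

open Matrix Cfsg.Geo Cfsg.Agent.AutPSp

variable {F : Type*} [Field F]

namespace Short

/-- Symplectic matrices inside the general linear group. -/
noncomputable def ofSp : Spm 2 F →* Matrix.GeneralLinearGroup I F :=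
  (Submonoid.subtype (Matrix.symplecticGroup (Fin 2) F)).toHomUnits

theorem ofSp_val (s : Spm 2 F) : (ofSp s : Matrix I I F) = mat s := rfl

theorem ofSp_injective : Function.Injective (ofSp (F := F)) := fun a b h =>
  sp_ext (by rw [← ofSp_val, ← ofSp_val, h])

theorem mem_spGL_iff (g : Matrix.GeneralLinearGroup I F) :
    g ∈ Cfsg.spGL 2 F ↔ (g : Matrix I I F) ∈ Matrix.symplecticGroup (Fin 2) F := by
  rw [Classical.mem_symplectic_iff]
  constructor
  · intro h u v
    rw [Classical.sympB_apply, Classical.sympB_apply]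
    exact h u v
  · intro h u v
    have := h u v
    rw [Classical.sympB_apply, Classical.sympB_apply] at this
    exact this

theorem ofSp_mem (s : Spm 2 F) : ofSp s ∈ Cfsg.spGL 2 F := (mem_spGL_iff _).2 s.2

/-- The symplectic matrix of an element of the symplectic group. -/
def toSp : ↥(Cfsg.spGL 2 F) →* Spm 2 F where
  toFun g := ⟨(g.1 : Matrix I I F), (mem_spGL_iff g.1).1 g.2⟩
  map_one' := rfl
  map_mul' _ _ := rfl

theorem mat_toSp (g : ↥(Cfsg.spGL 2 F)) : mat (toSp g) = (g.1 : Matrix I I F) := rfl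

theorem T_eq (v : I → F) : T v = ofSp (tvS v 1) := by
  refine Units.ext (Matrix.ext_of_mulVec_single fun j => ?_)
  rw [ofSp_val, tvS_mulVec]
  show ((ClassicalMax.glEquiv I F).symm _ : Matrix I I F) *ᵥ _ = _
  rw [ClassicalMax.symm_mulVec, Classical.Alt.tv_apply]

variable [CharP F 2]

/-- The centre of the transvection that a short root involution goes to. -/
def shortCentre (M : Matrix I I F) : I → F :=
  Sum.elim ![M (Sum.inl 0) (Sum.inr 1), M (Sum.inl 0) (Sum.inl 1)]
    ![M (Sum.inr 0) (Sum.inl 1), M (Sum.inr 0) (Sum.inr 1)]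

/-- A short root involution goes to a transvection. -/
theorem phiHom_short (s : Spm 2 F) (hs : s * s = 1) (hf : ∀ x : I → F, fB 2 F x (mat s *ᵥ x) = 0) :
    Graph.phiHom s = tvS (shortCentre (mat s)) 1 := by
  have hd := fun a : I => hf (Pi.single a 1)
  simp only [Graph.fB_two, Matrix.mulVec_single_one, Matrix.col_apply] at hd
  have hp : ∀ a b : I, fB 2 F (Pi.single a 1) (mat s *ᵥ Pi.single b 1) + fB 2 F (Pi.single b 1) (mat s *ᵥ Pi.single a 1) = 0 :=
    fun a b => by
      have h := hf (Pi.single a 1 + Pi.single b 1)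
      simp only [Matrix.mulVec_add, map_add, LinearMap.add_apply, hf] at h
      simpa [add_comm] using h
  have e1 := hd (Sum.inl 0)
  have e2 := hd (Sum.inl 1)
  have e3 := hd (Sum.inr 0)
  have e4 := hd (Sum.inr 1)
  have p1 := hp (Sum.inl 0) (Sum.inl 1)
  have p2 := hp (Sum.inl 0) (Sum.inr 0)
  have p3 := hp (Sum.inl 0) (Sum.inr 1)
  have p4 := hp (Sum.inl 1) (Sum.inr 0)
  have p5 := hp (Sum.inl 1) (Sum.inr 1)
  have p6 := hp (Sum.inr 0) (Sum.inr 1)
  simp [Graph.fB_two] at e1 e2 e3 e4 p1 p2 p3 p4 p5 p6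
  have hq : mat s * mat s = 1 := congrArg Subtype.val hs
  have q0 := congrFun (congrFun hq (Sum.inl 0)) (Sum.inl 0)
  have q1 := congrFun (congrFun hq (Sum.inl 1)) (Sum.inl 1)
  simp [Matrix.mul_apply, Fintype.sum_sum_type, Fin.sum_univ_two] at q0 q1
  have had : mat s (Sum.inl 0) (Sum.inl 0) = mat s (Sum.inl 1) (Sum.inl 1) := by
    refine CharTwo.add_eq_zero.1 (eq_zero_of_pow_eq_zero (n := 2) ?_)
    grind
  refine sp_ext (Matrix.ext fun A B => ?_)
  rw [Graph.mat_phiHom, Graph.minors_apply, Graph.mat_tvS]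
  rcases A with i | i <;> rcases B with j | j <;> fin_cases i <;> fin_cases j <;>
    simp [Graph.pr, shortCentre, Matrix.one_apply] <;> grind

/-- Traces of products of two transvections. -/
theorem trace_tvS_mul (a b : I → F) : Matrix.trace (mat (tvS a 1 * tvS b 1)) = fB 2 F a b ^ 2 := by
  show Matrix.trace (mat (tvS a 1) * mat (tvS b 1)) = _
  simp [Matrix.trace, Matrix.mul_apply, Fintype.sum_sum_type, Fin.sum_univ_two, Graph.mat_tvS, Graph.fB_two,
    Matrix.one_apply]
  grind

/-- The isotropic Plücker coordinates of a pair of vectors. -/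
def wedge (a : I → F) : (I → F) →ₗ[F] (I → F) where
  toFun b A := a (Graph.pr A).1 * b (Graph.pr A).2 + a (Graph.pr A).2 * b (Graph.pr A).1
  map_add' b c := by
    funext A
    simp only [Pi.add_apply]
    ring
  map_smul' t b := by
    funext A
    simp only [Pi.smul_apply, smul_eq_mul, RingHom.id_apply]
    ring

theorem wedge_apply (a b : I → F) (A : I) :
    wedge a b A = a (Graph.pr A).1 * b (Graph.pr A).2 + a (Graph.pr A).2 * b (Graph.pr A).1 := rfl

theorem wedge_self (a : I → F) : wedge a a = 0 := funext fun A => by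
  rw [wedge_apply, mul_comm (a (Graph.pr A).2)]
  exact CharTwo.add_self_eq_zero _

theorem minors_wedge (s : Spm 2 F) (a b : I → F) (h : fB 2 F a b = 0) :
    mat (Graph.phiHom s) *ᵥ wedge a b = wedge (mat s *ᵥ a) (mat s *ᵥ b) := by
  funext A
  have h1 := Graph.fB_row s A
  rw [Graph.fB_two] at h h1
  rw [Graph.mat_phiHom, Matrix.mulVec, dotProduct, wedge_apply]
  simp only [Graph.minors_apply, wedge_apply, Matrix.mulVec, dotProduct, Fintype.sum_sum_type, Fin.sum_univ_two]
  simp only [Graph.pr, Sum.elim_inl, Sum.elim_inr, Matrix.cons_val_zero, Matrix.cons_val_one] at *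
  grind

theorem mem_span_of_wedge {a b : I → F} (ha : a ≠ 0) (h : fB 2 F a b = 0) (hw : wedge a b = 0) :
    b ∈ Submodule.span F {a} := by
  rw [Graph.fB_two] at h
  have w1 := congrFun hw (Sum.inl 0)
  have w2 := congrFun hw (Sum.inl 1)
  have w3 := congrFun hw (Sum.inr 0)
  have w4 := congrFun hw (Sum.inr 1)
  simp [wedge_apply, Graph.pr] at w1 w2 w3 w4
  have h02 : a (Sum.inl 0) * b (Sum.inr 0) + a (Sum.inr 0) * b (Sum.inl 0) = 0 :=
    eq_zero_of_pow_eq_zero (n := 2) (by grind)
  have hall : ∀ i j : I, a i * b j = a j * b i := by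
    intro i j
    rcases i with i | i <;> rcases j with j | j <;> fin_cases i <;> fin_cases j <;> simp <;> grind
  obtain ⟨k, hk⟩ := Function.ne_iff.1 ha
  refine Submodule.mem_span_singleton.2 ⟨b k / a k, funext fun i => ?_⟩
  rw [Pi.smul_apply, smul_eq_mul, div_mul_eq_mul_div, div_eq_iff hk]
  linear_combination hall i k

/-- The span of the isotropic lines through a vector, transported. -/
noncomputable def lines (u : I → F) : Submodule F (I → F) := (LinearMap.ker (fB 2 F u)).map (wedge u)

theorem lines_ne_top {u : I → F} (hu : u ≠ 0) : lines u ≠ ⊤ := fun h => by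
  have hs : Function.Surjective (wedge u) := fun y => by
    obtain ⟨x, -, hx⟩ := (h ▸ Submodule.mem_top : y ∈ lines u)
    exact ⟨x, hx⟩
  exact hu (LinearMap.injective_iff_surjective.2 hs ((wedge_self u).trans (map_zero _).symm))

theorem lines_ne_bot {u : I → F} (hu : u ≠ 0) : lines u ≠ ⊥ := fun h => by
  have hle : LinearMap.ker (fB 2 F u) ≤ Submodule.span F {u} := fun w hw => by
    refine mem_span_of_wedge hu (LinearMap.mem_ker.1 hw) ?_
    exact (Submodule.mem_bot F).1 (h ▸ Submodule.mem_map_of_mem hw)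
  have h1 := Submodule.finrank_mono hle
  rw [finrank_span_singleton hu] at h1
  have h2 := LinearMap.finrank_range_add_finrank_ker (fB 2 F u)
  have h3 := Submodule.finrank_le (LinearMap.range (fB 2 F u))
  rw [Module.finrank_self] at h3
  rw [Module.finrank_fintype_fun_eq_card, Fintype.card_sum, Fintype.card_fin] at h2
  omega

theorem lines_invariant {u : I → F} (s : Spm 2 F) (hs : mat s *ᵥ u = u) {x : I → F} (hx : x ∈ lines u) :
    mat (Graph.phiHom s) *ᵥ x ∈ lines u := by
  obtain ⟨w, hw, rfl⟩ := hx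
  have hw' : fB 2 F u w = 0 := hw
  rw [minors_wedge s u w hw', hs]
  refine Submodule.mem_map_of_mem (LinearMap.mem_ker.2 ?_)
  conv_lhs => rw [← hs]
  rw [fB_mat, hw']

theorem fB_single (i : I) (y : I → F) : fB 2 F (Pi.single (Sum.swap i) 1) y = y i := by
  rw [Graph.fB_two]
  rcases i with i | i <;> fin_cases i <;> simp

theorem fB_comm (a b : I → F) : fB 2 F b a = fB 2 F a b := by
  rw [fB_neg a b, CharTwo.neg_eq]

theorem mem_of_sq [Finite F] (F₀ : Subfield F) {x : F} (h : x ^ 2 ∈ F₀) : x ∈ F₀ := by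
  obtain ⟨y, hy⟩ : ∃ y : F₀, y ^ 2 = ⟨x ^ 2, h⟩ := by
    refine (Finite.injective_iff_surjective (f := fun y : F₀ => y ^ 2)).1 (fun a b hab => Subtype.ext ?_) _
    exact frobenius_inj F 2 (congrArg Subtype.val hab)
  have : y.1 = x := frobenius_inj F 2 (congrArg Subtype.val hy)
  exact this ▸ y.2

section Image

variable {P : Subgroup (Matrix.GeneralLinearGroup I F)}

/-- The exceptional endomorphism on a subgroup. -/
noncomputable def image (hP : Core P) : ↥P →* Matrix.GeneralLinearGroup I F :=
  ofSp.comp (Graph.phiHom.comp (toSp.comp (Subgroup.inclusion hP.le)))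

theorem image_val (hP : Core P) (x : P) :
    (image hP x : Matrix I I F) = mat (Graph.phiHom (toSp (Subgroup.inclusion hP.le x))) := rfl

theorem image_injective (hP : Core P) : Function.Injective (image hP) := fun a b h => by
  have h1 : (Subgroup.inclusion hP.le a).1 = (Subgroup.inclusion hP.le b).1 :=
    Units.ext (congrArg Subtype.val (Graph.phiHom_injective (ofSp_injective h)))
  exact Subtype.ext h1

/-- The image of a perfect socle preimage containing a transvection is again one. -/
theorem core_image [Fintype F] (hP : Core P) {v : I → F} (hv : v ≠ 0) {g : P}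
    (hg : Graph.phiHom (toSp (Subgroup.inclusion hP.le g)) = tvS v 1) : Core (image hP).range := by
  let σ : P →* Spm 2 F := toSp.comp (Subgroup.inclusion hP.le)
  let κ : P →* Spm 2 F := Graph.phiHom.comp σ
  have hκg : κ g = tvS v 1 := hg
  have hfrob : ∀ (x : P), mat (Graph.phiHom (κ x)) = (x.1 : Matrix I I F).map (frobenius F 2) :=
    fun x => Graph.phiHom_phiHom (σ x)
  have hmem : ∀ x : P, mat (κ x) ∈ matrixSet (image hP).range := fun x => ⟨image hP x, ⟨x, rfl⟩, rfl⟩
  have hof : ∀ s ∈ matrixSet (image hP).range, ∃ x : P, s = mat (κ x) := by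
    rintro s ⟨y, ⟨x, rfl⟩, rfl⟩
    exact ⟨x, rfl⟩
  have hbij := Finite.injective_iff_bijective.1 (frobenius_inj F 2)
  let σE : F ≃+* F := Graph.frobE F
  have hσE : ∀ a, σE a = a ^ 2 := fun _ => rfl
  have := hP.simple
  -- irreducibility
  have hirr : ActsIrreducibly (matrixSet (image hP).range) := by
    intro W hW
    by_contra hc
    push Not at hc
    obtain ⟨hW0, hW1⟩ := hc
    have hWi : ∀ (x : P) (w : I → F), w ∈ W → mat (κ x) *ᵥ w ∈ W := fun x w hw => by
      have := hW _ (hmem x) (Submodule.mem_map_of_mem hw)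
      rwa [Matrix.toLin'_apply] at this
    obtain ⟨U, hU0, hUi, hUg⟩ : ∃ U : Submodule F (I → F), U ≠ ⊥ ∧ (∀ (x : P), ∀ w ∈ U, mat (κ x) *ᵥ w ∈ U) ∧
        ∀ w ∈ U, mat (κ g) *ᵥ w = w := by
      by_cases hvW : v ∈ W
      · refine ⟨(fB 2 F).orthogonal W, fun h => ?_, fun x w hw => ?_, fun w hw => ?_⟩
        · apply hW1
          have h1 := LinearMap.BilinForm.orthogonal_orthogonal (B := fB 2 F) Classical.sympB_nondeg
            (Classical.sympB_isAlt (F := F) (m := 2)).isRefl W
          rw [h] at h1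
          rw [← h1]
          refine eq_top_iff.2 fun y _ => ?_
          exact (LinearMap.BilinForm.mem_orthogonal_iff).2 fun n hn => by
            rw [(Submodule.mem_bot F).1 hn]
            simp
        · refine LinearMap.BilinForm.mem_orthogonal_iff.2 fun n hn => ?_
          show fB 2 F n (mat (κ x) *ᵥ w) = 0
          rw [← fB_mat (κ x⁻¹), map_inv, mat_inv_mulVec]
          refine LinearMap.BilinForm.mem_orthogonal_iff.1 hw _ ?_
          rw [← map_inv]
          exact hWi x⁻¹ n hn
        · rw [hκg, tvS_mulVec]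
          have : fB 2 F v w = 0 := LinearMap.BilinForm.mem_orthogonal_iff.1 hw v hvW
          rw [fB_comm v w, this, mul_zero, zero_smul, add_zero]
      · refine ⟨W, hW0, hWi, fun w hw => ?_⟩
        have h1 := W.sub_mem (hWi g w hw) hw
        rw [hκg, tvS_mulVec, one_mul, add_sub_cancel_left] at h1
        rcases eq_or_ne (fB 2 F w v) 0 with h0 | h0
        · rw [hκg, tvS_mulVec, h0, mul_zero, zero_smul, add_zero]
        · exact absurd ((W.smul_mem_iff h0).1 h1) hvW
    let K : Subgroup P :=
      { carrier := {x | ∀ w ∈ U, mat (κ x) *ᵥ w = w}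
        one_mem' := fun w _ => by rw [map_one]; exact Matrix.one_mulVec w
        mul_mem' := fun {a b} ha hb w hw => by rw [map_mul, mat_mul_mulVec, hb w hw, ha w hw]
        inv_mem' := fun {a} ha w hw => by
          conv_lhs => rw [← ha w hw]
          rw [map_inv, mat_inv_mulVec] }
    have hKn : K.Normal := ⟨fun a ha b w hw => by
      rw [map_mul, map_mul, mat_mul_mulVec, mat_mul_mulVec, ha _ (hUi b⁻¹ w hw), map_inv, mat_mulVec_inv]⟩
    have hK : K = ⊤ := by
      refine (hKn.eq_bot_or_eq_top).resolve_left fun hb => ?_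
      have hgK : g ∈ K := hUg
      rw [hb, Subgroup.mem_bot] at hgK
      rw [hgK, map_one] at hκg
      exact one_ne_zero ((tvS_eq_one_iff hv).1 hκg.symm)
    obtain ⟨u, huU, hu⟩ := Submodule.exists_mem_ne_zero_of_ne_bot hU0
    have hfix : ∀ x : P, mat (κ x) *ᵥ u = u := fun x => (hK ▸ Subgroup.mem_top x : x ∈ K) u huU
    let W2 : Submodule F (I → F) :=
      { carrier := {y | (fun i => σE (y i)) ∈ lines u}
        add_mem' := fun {a b} ha hb => by
          simp only [Set.mem_setOf_eq, Pi.add_apply, map_add] at *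
          exact (lines u).add_mem ha hb
        zero_mem' := by
          simp only [Set.mem_setOf_eq, Pi.zero_apply, map_zero]
          exact (lines u).zero_mem
        smul_mem' := fun c a ha => by
          simp only [Set.mem_setOf_eq, Pi.smul_apply, smul_eq_mul, map_mul] at *
          exact (lines u).smul_mem (σE c) ha }
    have hmemW2 : ∀ y, y ∈ lines u → (fun i => σE.symm (y i)) ∈ W2 := fun y hy => by
      show (fun i => σE (σE.symm (y i))) ∈ lines u
      simpa using hy
    rcases hP.absIrred.1 W2 (by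
        rintro s ⟨x, hx, rfl⟩ y hy
        obtain ⟨y, hy, rfl⟩ := hy
        rw [Matrix.toLin'_apply]
        show (fun i => σE (((x : Matrix I I F) *ᵥ y) i)) ∈ lines u
        have h1 := lines_invariant (κ ⟨x, hx⟩) (hfix _) hy
        rw [hfrob] at h1
        have h2 : (fun i => σE (((x : Matrix I I F) *ᵥ y) i)) =
            (x : Matrix I I F).map (frobenius F 2) *ᵥ fun i => σE (y i) :=
          funext fun i => RingHom.map_mulVec (frobenius F 2) _ y i
        rw [h2]
        exact h1) with hb | ht
    · apply lines_ne_bot hu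
      refine (Submodule.eq_bot_iff _).2 fun y hy => funext fun i => ?_
      have := congrFun ((Submodule.eq_bot_iff _).1 hb _ (hmemW2 y hy)) i
      simpa using this
    · apply lines_ne_top hu
      refine eq_top_iff.2 fun y _ => ?_
      have h1 : (fun i => σE.symm (y i)) ∈ W2 := ht ▸ Submodule.mem_top
      have h2 : (fun i => σE (σE.symm (y i))) ∈ lines u := h1
      simpa using h2
  refine ⟨?_, ?_, ?_, ?_, ⟨hirr, ?_⟩, ?_⟩
  · rintro _ ⟨x, rfl⟩
    exact ofSp_mem _
  · intro he
    apply hP.ne_sp
    refine Subgroup.eq_of_le_of_card_ge hP.le (le_of_eq ?_)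
    rw [← he]
    exact (Nat.card_congr (MonoidHom.ofInjective (image_injective hP)).toEquiv).symm
  · exact (MonoidHom.ofInjective (image_injective hP)).symm.isSimpleGroup
  · intro hcomm
    apply hP.nonab
    refine ⟨⟨fun a b => image_injective hP ?_⟩⟩
    have h := hcomm.is_comm.comm (⟨image hP a, a, rfl⟩ : (image hP).range) ⟨image hP b, b, rfl⟩
    rw [map_mul, map_mul]
    exact congrArg Subtype.val h
  · intro A hA
    obtain ⟨z, hz⟩ : ∃ z, fB 2 F z v = 1 := by
      obtain ⟨z, hz⟩ := exists_fB_one hv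
      exact ⟨z, by rw [fB_comm, hz]⟩
    have hAt := congrArg (fun M => M *ᵥ z) (hA _ (hmem g))
    simp only [← Matrix.mulVec_mulVec, hκg, tvS_mulVec, hz, one_mul, one_smul, Matrix.mulVec_add] at hAt
    rw [add_right_inj] at hAt
    refine ⟨fB 2 F (A *ᵥ z) v, ?_⟩
    let L : Submodule F (I → F) :=
      LinearMap.ker (Matrix.toLin' A - fB 2 F (A *ᵥ z) v • LinearMap.id)
    have hL : ∀ y, y ∈ L ↔ A *ᵥ y = fB 2 F (A *ᵥ z) v • y := fun y => by
      simp [L, sub_eq_zero]
    rcases hirr L (by
        rintro s hs y ⟨y, hy, rfl⟩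
        obtain ⟨x, rfl⟩ := hof s hs
        rw [Matrix.toLin'_apply, hL, Matrix.mulVec_mulVec, hA _ (hmem x), ← Matrix.mulVec_mulVec, (hL y).1 hy,
          Matrix.mulVec_smul]) with hb | ht
    · exact absurd ((Submodule.eq_bot_iff _).1 hb v ((hL v).2 hAt)) hv
    · refine Matrix.ext_of_mulVec_single fun j => ?_
      rw [(hL _).1 (ht ▸ Submodule.mem_top), Matrix.smul_mulVec, Matrix.one_mulVec]
  · rintro F₀ hF₀ ⟨B, hB⟩
    apply hP.no_subfield F₀ hF₀
    have htr : ∀ x : P, Matrix.trace (mat (κ x)) ∈ F₀ := fun x => by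
      have h1 := hB _ (hmem x)
      rw [← Matrix.trace_units_conj B (mat (κ x))]
      exact sum_mem fun i _ => h1 i i
    let O : Set (I → F) := Set.range fun x : P => mat (κ x) *ᵥ v
    have hOi : ∀ (x : P), ∀ o ∈ O, mat (κ x) *ᵥ o ∈ O := by
      rintro x o ⟨y, rfl⟩
      exact ⟨x * y, by show mat (κ (x * y)) *ᵥ v = _; rw [map_mul, mat_mul_mulVec]⟩
    have hvO : v ∈ O := ⟨1, by show mat (κ 1) *ᵥ v = v; rw [map_one]; exact Matrix.one_mulVec v⟩
    have hff : ∀ a ∈ O, ∀ b ∈ O, fB 2 F a b ∈ F₀ := by
      rintro a ⟨x, rfl⟩ b ⟨y, rfl⟩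
      refine mem_of_sq F₀ ?_
      rw [← trace_tvS_mul]
      have hx : κ (x * g * x⁻¹) = tvS (mat (κ x) *ᵥ v) 1 := by
        rw [map_mul, map_mul, map_inv, hκg, conj_tvS]
      have hy : κ (y * g * y⁻¹) = tvS (mat (κ y) *ᵥ v) 1 := by
        rw [map_mul, map_mul, map_inv, hκg, conj_tvS]
      rw [← hx, ← hy, ← map_mul]
      exact htr _
    have hspan : Submodule.span F O = ⊤ := by
      refine (hirr _ ?_).resolve_left fun hb => hv ((Submodule.eq_bot_iff _).1 hb v (Submodule.subset_span hvO))
      intro s hs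
      obtain ⟨x, rfl⟩ := hof s hs
      rw [Submodule.map_span, Submodule.span_le]
      rintro _ ⟨o, ho, rfl⟩
      rw [Matrix.toLin'_apply]
      exact Submodule.subset_span (hOi x o ho)
    have hsep : ∀ a : I → F, a ≠ 0 → ∃ o ∈ O, fB 2 F a o ≠ 0 := fun a ha => by
      by_contra hc
      push Not at hc
      exact ha (eq_zero_of_fB fun y => by
        have hy : y ∈ Submodule.span F O := hspan ▸ Submodule.mem_top
        induction hy using Submodule.span_induction with
        | mem o ho => exact hc o ho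
        | zero => rw [map_zero]
        | add p q _ _ hp hq => rw [map_add, hp, hq, add_zero]
        | smul t p _ hp => rw [map_smul, hp, smul_zero])
    let L := Submodule.span F₀ O
    have hLs : ∀ {t : F}, t ∈ F₀ → ∀ {a : I → F}, a ∈ L → t • a ∈ L := fun {t} ht {a} ha => L.smul_mem ⟨t, ht⟩ ha
    have hLo : ∀ a ∈ L, ∀ o ∈ O, fB 2 F a o ∈ F₀ := fun a ha o ho => by
      induction ha using Submodule.span_induction with
      | mem p hp => exact hff p hp o ho
      | zero => simp
      | add p q _ _ hp hq => rw [map_add, LinearMap.add_apply]; exact add_mem hp hq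
      | smul t p _ hp =>
        show fB 2 F ((t : F) • p) o ∈ F₀
        rw [map_smul, LinearMap.smul_apply, smul_eq_mul]
        exact mul_mem t.2 hp
    have hLL : ∀ a ∈ L, ∀ b ∈ L, fB 2 F a b ∈ F₀ := fun a ha b hb => by
      induction hb using Submodule.span_induction with
      | mem p hp => exact hLo a ha p hp
      | zero => simp
      | add p q _ _ hp hq => rw [map_add]; exact add_mem hp hq
      | smul t p _ hp =>
        show fB 2 F a ((t : F) • p) ∈ F₀
        rw [map_smul, smul_eq_mul]
        exact mul_mem t.2 hp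
    have hLi : ∀ (x : P), ∀ a ∈ L, mat (κ x) *ᵥ a ∈ L := fun x a ha => by
      induction ha using Submodule.span_induction with
      | mem p hp => exact Submodule.subset_span (hOi x p hp)
      | zero => rw [Matrix.mulVec_zero]; exact L.zero_mem
      | add p q _ _ hp hq => rw [Matrix.mulVec_add]; exact L.add_mem hp hq
      | smul t p _ hp =>
        show mat (κ x) *ᵥ ((t : F) • p) ∈ L
        rw [Matrix.mulVec_smul]
        exact hLs t.2 hp
    have hvL : v ∈ L := Submodule.subset_span hvO
    obtain ⟨o₁, ho₁, hne₁⟩ := hsep v hv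
    obtain ⟨f, hf⟩ : ∃ f : I → F, f = (fB 2 F v o₁)⁻¹ • o₁ := ⟨_, rfl⟩
    have hfL : f ∈ L := hf ▸ hLs (inv_mem (hff v hvO o₁ ho₁)) (Submodule.subset_span ho₁)
    have hvf : fB 2 F v f = 1 := by rw [hf, map_smul, smul_eq_mul, inv_mul_cancel₀ hne₁]
    have hfv : fB 2 F f v = 1 := by rw [fB_comm, hvf]
    let proj : (I → F) → (I → F) := fun y => y + fB 2 F y f • v + fB 2 F y v • f
    have hpL : ∀ y ∈ L, proj y ∈ L := fun y hy =>
      L.add_mem (L.add_mem hy (hLs (hLL y hy f hfL) hvL)) (hLs (hLL y hy v hvL) hfL)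
    have hpv : ∀ y, fB 2 F (proj y) v = 0 := fun y => by
      simp only [proj, map_add, map_smul, LinearMap.add_apply, LinearMap.smul_apply, smul_eq_mul, fB_self, hfv,
        mul_zero, mul_one, add_zero]
      exact CharTwo.add_self_eq_zero _
    have hpf : ∀ y, fB 2 F (proj y) f = 0 := fun y => by
      simp only [proj, map_add, map_smul, LinearMap.add_apply, LinearMap.smul_apply, smul_eq_mul, fB_self, hvf,
        mul_zero, mul_one, add_zero]
      exact CharTwo.add_self_eq_zero _
    obtain ⟨o₂, ho₂, ha0⟩ : ∃ o ∈ O, proj o ≠ 0 := by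
      by_contra hc
      push Not at hc
      have hle : (⊤ : Submodule F (I → F)) ≤ Submodule.span F ({v, f} : Set (I → F)) := by
        rw [← hspan, Submodule.span_le]
        intro o ho
        have h0 := hc o ho
        simp only [proj, add_assoc] at h0
        rw [SetLike.mem_coe, CharTwo.add_eq_zero.1 h0] at *
        exact Submodule.add_mem _ (Submodule.smul_mem _ _ (Submodule.subset_span (by simp)))
          (Submodule.smul_mem _ _ (Submodule.subset_span (by simp)))
      have h1 := Submodule.finrank_mono hle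
      have h2 : Module.finrank F (Submodule.span F ({v, f} : Set (I → F))) ≤ 2 := by
        classical
        refine (finrank_span_le_card ({v, f} : Set (I → F))).trans ?_
        rw [Set.toFinset_insert, Set.toFinset_singleton]
        exact Finset.card_le_two
      rw [finrank_top, Module.finrank_fintype_fun_eq_card, Fintype.card_sum, Fintype.card_fin] at h1
      omega
    obtain ⟨a, ha⟩ : ∃ a, a = proj o₂ := ⟨_, rfl⟩
    rw [← ha] at ha0
    have haL : a ∈ L := ha ▸ hpL _ (Submodule.subset_span ho₂)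
    have hav : fB 2 F a v = 0 := ha ▸ hpv o₂
    have haf : fB 2 F a f = 0 := ha ▸ hpf o₂
    obtain ⟨o₃, ho₃, hne₃⟩ := hsep a ha0
    obtain ⟨b, hb⟩ : ∃ b : I → F, b = (fB 2 F a o₃)⁻¹ • proj o₃ := ⟨_, rfl⟩
    have hbL : b ∈ L := hb ▸ hLs (inv_mem (hLL a haL o₃ (Submodule.subset_span ho₃))) (hpL _ (Submodule.subset_span ho₃))
    have hab : fB 2 F a b = 1 := by
      simp only [hb, proj, map_smul, map_add, smul_eq_mul, hav, haf, mul_zero, add_zero]
      exact inv_mul_cancel₀ hne₃
    have hbv : fB 2 F b v = 0 := by rw [hb, map_smul, LinearMap.smul_apply, hpv, smul_zero]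
    have hbf : fB 2 F b f = 0 := by rw [hb, map_smul, LinearMap.smul_apply, hpf, smul_zero]
    let c : I → I → F := Sum.elim ![v, a] ![f, b]
    have hcL : ∀ i, c i ∈ L := by
      rintro (i | i) <;> fin_cases i <;> assumption
    let M : Matrix I I F := Matrix.of fun i j => c j i
    have hMc : ∀ j, M *ᵥ Pi.single j 1 = c j := fun j => by
      rw [Matrix.mulVec_single_one]
      rfl
    have hM : M ∈ Matrix.symplecticGroup (Fin 2) F := by
      rw [Classical.mem_symplectic_iff]
      have he : (fB 2 F).comp (Matrix.toLin' M) (Matrix.toLin' M) = fB 2 F := by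
        refine LinearMap.BilinForm.ext_basis (Pi.basisFun F I) fun i j => ?_
        simp only [LinearMap.BilinForm.comp_apply, Matrix.toLin'_apply, Pi.basisFun_apply, hMc]
        rw [Graph.fB_two (Pi.single i 1)]
        have hva : fB 2 F v a = 0 := by rw [fB_comm, hav]
        have hvb : fB 2 F v b = 0 := by rw [fB_comm, hbv]
        have hfa : fB 2 F f a = 0 := by rw [fB_comm, haf]
        have hfb : fB 2 F f b = 0 := by rw [fB_comm, hbf]
        have hba : fB 2 F b a = 1 := by rw [fB_comm, hab]
        rcases i with i | i <;> rcases j with j | j <;> fin_cases i <;> fin_cases j <;>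
          simp [c, hva, hvb, hfa, hfb, hba, hav, haf, hbv, hbf, hab, hvf, hfv, fB_self]
      intro x y
      exact congrArg (fun B : LinearMap.BilinForm F (I → F) => B x y) he
    let S : Spm 2 F := ⟨M, hM⟩
    have hent : ∀ (x : P) (i j : I), mat (S⁻¹ * κ x * S) i j ∈ F₀ := fun x i j => by
      have h1 : mat (S⁻¹ * κ x * S) i j = (mat (S⁻¹ * κ x * S) *ᵥ Pi.single j 1) i := by
        rw [Matrix.mulVec_single_one]
        rfl
      rw [h1, ← fB_single i (mat (S⁻¹ * κ x * S) *ᵥ Pi.single j 1), ← fB_mat S, mat_mul_mulVec, mat_mul_mulVec, mat_mulVec_inv]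
      show fB 2 F (M *ᵥ _) (_ *ᵥ (M *ᵥ _)) ∈ F₀
      rw [hMc, hMc]
      exact hLL _ (hcL _) _ (hLi x _ (hcL _))
    refine ⟨Matrix.GeneralLinearGroup.map σE.symm.toRingHom (ofSp (Graph.phiHom S)⁻¹), ?_⟩
    rintro s ⟨x, hx, rfl⟩ i j
    refine mem_of_sq F₀ ?_
    set B₀ := Matrix.GeneralLinearGroup.map σE.symm.toRingHom (ofSp (Graph.phiHom S)⁻¹) with hB₀
    have hcoe : (B₀ : Matrix I I F).map σE = mat (Graph.phiHom S)⁻¹ := by
      refine Matrix.ext fun p q => ?_
      exact σE.apply_symm_apply _
    have hcoe' : ((B₀⁻¹ : Matrix.GeneralLinearGroup I F) : Matrix I I F).map σE = mat (Graph.phiHom S) := by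
      rw [hB₀, ← map_inv, ← map_inv, inv_inv]
      refine Matrix.ext fun p q => ?_
      exact σE.apply_symm_apply _
    have hx' : (x : Matrix I I F).map σE = mat (Graph.phiHom (κ ⟨x, hx⟩)) := (hfrob ⟨x, hx⟩).symm
    have h2 : (((B₀ : Matrix I I F) * (x : Matrix I I F) * ((B₀⁻¹ : Matrix.GeneralLinearGroup I F) : Matrix I I F)).map
        σE.toRingHom) i j = mat (Graph.phiHom (S⁻¹ * κ ⟨x, hx⟩ * S)) i j := by
      rw [Matrix.map_mul, Matrix.map_mul, map_mul, map_mul, map_inv]
      show (((B₀ : Matrix I I F).map σE) * ((x : Matrix I I F).map σE) *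
        (((B₀⁻¹ : Matrix.GeneralLinearGroup I F) : Matrix I I F).map σE)) i j = _
      rw [hcoe, hcoe', hx']
      rfl
    rw [Matrix.map_apply] at h2
    rw [← hσE]
    refine h2 ▸ ?_
    rw [Graph.mat_phiHom, Graph.minors_apply]
    exact add_mem (mul_mem (hent _ _ _) (hent _ _ _)) (mul_mem (hent _ _ _) (hent _ _ _))

end Image

end Short

/-- If no group satisfying `Core` has a transvection, then none has a short root involution. -/
theorem no_short [Fintype F] [CharP F 2]
    (htv : ∀ P : Subgroup (Matrix.GeneralLinearGroup I F), Core P → NoTv P)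
    {P : Subgroup (Matrix.GeneralLinearGroup I F)} (hP : Core P) : NoShort P := by
  intro g hg hg2 hg1
  by_contra hc
  push Not at hc
  let x : ↥P := ⟨g, hg⟩
  let s : Spm 2 F := Short.toSp (Subgroup.inclusion hP.le x)
  have hs : s * s = 1 := by
    rw [← map_mul, ← map_mul, show x * x = 1 from Subtype.ext hg2, map_one, map_one]
  have hf : ∀ y : I → F, fB 2 F y (mat s *ᵥ y) = 0 := fun y => by
    rw [Classical.sympB_apply]
    exact hc y
  have hphi := Short.phiHom_short s hs hf
  set v := Short.shortCentre (mat s) with hvdef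
  have hv : v ≠ 0 := fun h0 => by
    apply hg1
    have h1 : Graph.phiHom s = 1 := by
      rw [hphi, h0]
      refine sp_ext_mulVec fun y => ?_
      rw [tvS_mulVec, smul_zero, add_zero]
      exact (Matrix.one_mulVec y).symm
    have h2 : s = 1 := Graph.phiHom_injective (h1.trans (map_one _).symm)
    exact Units.ext (congrArg Subtype.val h2)
  refine htv _ (Short.core_image hP hv (g := x) hphi) v hv ⟨x, ?_⟩
  rw [Short.T_eq]
  exact congrArg Short.ofSp hphi

end Cfsg.Agent.ResidualFour.Even
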