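import Cfsg.Agent.ResidualFour.Even.TvTriangle
import Cfsg.Agent.S0111
import Cfsg.Agent.S0215

/-!
No transvections in a simple irreducible group over a non-prime field.
-/

set_option autoImplicit false

namespace Cfsg.Agent.ResidualFour.Even

open Module Cfsg.Agent.Classical Cfsg.Agent.RootSub.Dickson
open scoped MatrixGroups

variable {F V : Type*} [Field F] [AddCommGroup V] [Module F V] {B : LinearMap.BilinForm F V}
variable {hA : B.IsAlt} {G : Subgroup (V ≃ₗ[F] V)}

/-- The affine condition on three vectors. -/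
def Aff (u v w : V) : Prop := ∃ t : F, w + u = t • (v + u)

variable [CharP F 2]

omit [Field F] [Module F V] in
theorem add_self_vec [Field F] [CharP F 2] [Module F V] (x : V) : x + x = 0 := by
  rw [← two_smul F x, CharP.ofNat_eq_zero F 2, zero_smul]

theorem Aff.swap {u v w : V} (hne : w ≠ u) (h : Aff (F := F) u v w) : Aff (F := F) u w v := by
  obtain ⟨t, ht⟩ := h
  have h2 : (2 : F) = 0 := CharP.ofNat_eq_zero F 2
  have ht0 : t ≠ 0 := fun e => hne (by
    rw [e, zero_smul] at ht
    calc w = w + (u + u) := by rw [add_self_vec (F := F), add_zero]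
      _ = u := by rw [← add_assoc, ht, zero_add])
  exact ⟨t⁻¹, by rw [ht, inv_smul_smul₀ ht0]⟩

theorem Aff.flip {u v w : V} (h : Aff (F := F) u v w) : Aff (F := F) v u w := by
  obtain ⟨t, ht⟩ := h
  refine ⟨t + 1, ?_⟩
  have e : w + v = (w + u) + (v + u) := by
    calc w + v = w + v + (u + u) := by rw [add_self_vec (F := F), add_zero]
      _ = _ := by abel
  rw [e, ht, add_smul, one_smul, add_comm u v]

omit [CharP F 2] in
theorem exists_dual_one_two [Algebra (ZMod 2) F] : ∃ ψ : F →ₗ[ZMod 2] ZMod 2, ψ 1 = 1 ∧ True := by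
  obtain ⟨φ, hφ⟩ := LinearMap.exists_extend (LinearEquiv.toSpanNonzeroSingleton (ZMod 2) F 1 one_ne_zero).symm.toLinearMap
  refine ⟨φ, ?_, trivial⟩
  have := LinearMap.congr_fun hφ ⟨1, Submodule.mem_span_singleton_self 1⟩
  rw [LinearMap.comp_apply] at this
  refine this.trans ?_
  rw [LinearEquiv.coe_coe, LinearEquiv.symm_apply_eq]
  exact Subtype.ext (by simp)

theorem zmod_two_cases : ∀ a : ZMod 2, a = 0 ∨ a = 1 := by decide

namespace Setting

variable [Fintype F]

/-- The affine condition from one partner separating two of the centres. -/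
theorem aff_of_ratio (hS : Setting hA G) (hC : ∀ v ∈ D hA G, ∀ s : F, s • v ∈ D hA G → s = 1) {u v w d : V}
    (hu : u ∈ D hA G) (hv : v ∈ D hA G) (hw : w ∈ D hA G) (hwu : w ≠ u) (huv : B u v = 0)
    {α β : F} (hab : w = α • u + β • v) (hd : d ∈ D hA G) (hdu : B d u ≠ 0) (hdv : B d v ≠ 0)
    (hne : B d v ≠ B d u) : Aff (F := F) u v w := by
  have h2 : (2 : F) = 0 := CharP.ofNat_eq_zero F 2
  set q := B d v / B d u with hq
  have hq0 : q ≠ 0 := div_ne_zero hdv hdu
  have hq1 : q ≠ 1 := fun e => hne ((div_eq_one_iff_eq hdu).1 e)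
  obtain ⟨r, hvr, hru, hrd⟩ : ∃ r, v = q • u + r ∧ B r u = 0 ∧ B r d = 0 := by
    refine ⟨v + q • u, ?_, ?_, ?_⟩
    · rw [add_comm v, ← add_assoc, add_self_vec (F := F), zero_add]
    · simp [hA u, symm_B hA v u, huv]
    · simp only [map_add, map_smul, LinearMap.add_apply, LinearMap.smul_apply, smul_eq_mul]
      rw [symm_B hA v d, symm_B hA u d, hq, div_mul_cancel₀ _ hdu, CharTwo.add_self_eq_zero]
  have hr : r ≠ 0 := fun e => hq1 (hC u hu q (by rw [e, add_zero] at hvr; exact hvr ▸ hv))
  obtain ⟨hker, hρ⟩ := hS.plane_data hC hu hd hdu hr hru hrd (p := q) (hvr ▸ hv) hq0 hq1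
  set q' := α + β * q with hq'
  have hwr : w = q' • u + β • r := by rw [hab, hvr, hq', smul_add, smul_smul, add_smul]; abel
  have hsum : α + β = 1 := by
    have hq1' : (1 + q) ≠ 0 := fun e => hq1 (CharTwo.add_eq_zero.1 e).symm
    have hβ : q' ≠ 1 := fun e => by
      rw [e, one_smul] at hwr
      have := hker β (hwr ▸ hw)
      rw [this, zero_smul, add_zero] at hwr
      exact hwu hwr
    by_cases hq'0 : q' = 0
    · rw [hq'0, zero_smul, zero_add] at hwr
      have := hC _ hρ (β * (1 + q)) (by rw [smul_smul, mul_assoc, mul_inv_cancel₀ hq1', mul_one, ← hwr]; exact hw)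
      rw [hq'] at hq'0
      grind
    · have hβ0 : β ≠ 0 := fun e => by
        rw [e, zero_smul, add_zero] at hwr
        exact hβ (hC u hu q' (hwr ▸ hw))
      have hβr : β • r ≠ 0 := smul_ne_zero hβ0 hr
      obtain ⟨-, hρ'⟩ := hS.plane_data hC hu hd hdu hβr (by rw [map_smul, LinearMap.smul_apply, hru, smul_zero])
        (by rw [map_smul, LinearMap.smul_apply, hrd, smul_zero]) (p := q') (hwr ▸ hw) hq'0 hβ
      rw [smul_smul] at hρ'
      have hq2 : (1 + q') ≠ 0 := fun e => hβ (CharTwo.add_eq_zero.1 e).symm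
      have := hC _ hρ ((1 + q')⁻¹ * β * (1 + q)) (by
        rw [smul_smul, mul_assoc _ (1 + q), mul_inv_cancel₀ hq1', mul_one]; exact hρ')
      rw [mul_assoc, inv_mul_eq_iff_eq_mul₀ hq2, mul_one, hq'] at this
      grind
  refine ⟨β, ?_⟩
  rw [hab, show α = 1 + β by grind, add_smul, one_smul, smul_add]
  calc u + β • u + β • v + u = (u + u) + (β • v + β • u) := by abel
    _ = β • v + β • u := by rw [add_self_vec (F := F), zero_add]

/-- No partner has the same irrational value at two centres and vanishes at the third. -/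
theorem no_pattern (hS : Setting hA G) (h4 : 4 ≤ Nat.card F) {x y z : V}
    (hx : x ∈ D hA G) (hy : y ∈ D hA G) (hz : z ∈ D hA G) (hxy : B x y = 0) (hxz : B x z = 0) (hyz : B y z = 0)
    (hagree : ∀ e ∈ D hA G, (B e x ≠ 0 → B e z ≠ 0 → B e z = B e x) ∧ (B e y ≠ 0 → B e z ≠ 0 → B e z = B e y))
    (hzero : ∀ e ∈ D hA G, B e x = 0 → B e y = 0 → B e z = 0)
    {d : V} (hd : d ∈ D hA G) (l0 : B d x ≠ 0) (l1 : B d x ≠ 1) (hdy : B d y = B d x) (hdz : B d z = 0) : False := by
  have h2 : (2 : F) = 0 := CharP.ofNat_eq_zero F 2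
  set l := B d x with hl
  obtain ⟨e, he, m0, m1⟩ := hS.exists_nonint h4 hz
  set m := B e z with hm
  have hex : B e x = 0 ∨ B e x = m := by
    by_cases h : B e x = 0
    · exact Or.inl h
    · exact Or.inr ((hagree e he).1 h m0).symm
  have hey : B e y = 0 ∨ B e y = m := by
    by_cases h : B e y = 0
    · exact Or.inl h
    · exact Or.inr ((hagree e he).2 h m0).symm
  -- moving `e` by a vector with the pattern of `d` restricts the value between them
  have hkap : ∀ a ∈ D hA G, B a x = l → B a z = 0 → B a e * l = 0 ∨ B a e * l = m := by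
    intro a ha ax az
    have he' := hS.move_mem ha he
    have h' := (hagree _ he').1
    simp only [map_add, map_smul, LinearMap.add_apply, LinearMap.smul_apply, ax, az, smul_eq_mul, mul_zero, add_zero,
      symm_B hA e a, ← hm] at h'
    by_cases h : B e x + B a e * l = 0
    · rcases hex with h0 | h0 <;> grind
    · have := h' h m0
      rcases hex with h0 | h0 <;> grind
  have hll : l * l ≠ 1 := fun h => l1 (CharTwo.sq_injective (show l ^ 2 = 1 ^ 2 by rw [pow_two, h, one_pow]))
  have hk1 := hkap d hd rfl hdz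
  rcases hey with ey | ey
  · have exm : B e x = m := hex.resolve_left fun h => m0 (hzero e he h ey)
    have hd2 := hS.move_mem hx hd
    have hk2 := hkap _ hd2 (by simp [hA x, hl]) (by simp [hxz, hdz])
    simp only [map_add, map_smul, LinearMap.add_apply, LinearMap.smul_apply, smul_eq_mul, ← hl, symm_B hA x e, exm] at hk2
    rcases hk1 with k1 | k1 <;> rcases hk2 with k2 | k2 <;> grind
  · have hd2 := hS.move_mem hy hd
    have hk2 := hkap _ hd2 (by simp [symm_B hA y x, hxy, hl]) (by simp [hyz, hdz])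
    simp only [map_add, map_smul, LinearMap.add_apply, LinearMap.smul_apply, smul_eq_mul, hdy, symm_B hA y e, ey] at hk2
    rcases hk1 with k1 | k1 <;> rcases hk2 with k2 | k2 <;> grind

/-- Three commuting centres are affinely collinear. -/
theorem affine (hS : Setting hA G) (h4 : 4 ≤ Nat.card F) (hC : ∀ v ∈ D hA G, ∀ s : F, s • v ∈ D hA G → s = 1)
    {u v w : V} (hu : u ∈ D hA G) (hv : v ∈ D hA G) (hw : w ∈ D hA G) (hwu : w ≠ u) (hwv : w ≠ v) (hvu : v ≠ u)
    (huv : B u v = 0) {α β : F} (hab : w = α • u + β • v) : Aff (F := F) u v w := by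
  have h2 : (2 : F) = 0 := CharP.ofNat_eq_zero F 2
  have hα : α ≠ 0 := fun e => by
    rw [e, zero_smul, zero_add] at hab
    have := hC v hv β (hab ▸ hw)
    rw [this, one_smul] at hab
    exact hwv hab
  have hβ : β ≠ 0 := fun e => by
    rw [e, zero_smul, add_zero] at hab
    have := hC u hu α (hab ▸ hw)
    rw [this, one_smul] at hab
    exact hwu hab
  have huw : B u w = 0 := by rw [hab, map_add, map_smul, map_smul, hA u, huv, smul_zero, smul_zero, add_zero]
  have hvw : B v w = 0 := by rw [hab, map_add, map_smul, map_smul, hA v, symm_B hA v u, huv, smul_zero, smul_zero, add_zero]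
  have ev : v = (β⁻¹ * α) • u + β⁻¹ • w := by
    rw [hab, smul_add, smul_smul, inv_smul_smul₀ hβ, ← add_assoc, add_self_vec (F := F), zero_add]
  have eu : u = (α⁻¹ * β) • v + α⁻¹ • w := by
    rw [hab, smul_add, inv_smul_smul₀ hα, smul_smul, add_left_comm, add_self_vec (F := F), add_zero]
  by_cases h1 : ∃ d ∈ D hA G, (B d u ≠ 0 ∧ B d v ≠ 0 ∧ B d v ≠ B d u) ∨ (B d u ≠ 0 ∧ B d w ≠ 0 ∧ B d w ≠ B d u) ∨
      (B d v ≠ 0 ∧ B d w ≠ 0 ∧ B d w ≠ B d v)
  · obtain ⟨d, hd, ⟨a, b, c⟩ | ⟨a, b, c⟩ | ⟨a, b, c⟩⟩ := h1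
    · exact hS.aff_of_ratio hC hu hv hw hwu huv hab hd a b c
    · exact (hS.aff_of_ratio hC hu hw hv hvu huw ev hd a b c).swap hvu
    · exact ((hS.aff_of_ratio hC hv hw hu hvu.symm hvw eu hd a b c).swap hvu.symm).flip
  push Not at h1
  by_cases hsum : α + β = 1
  · refine ⟨β, ?_⟩
    rw [hab, show α = 1 + β by grind, add_smul, one_smul, smul_add]
    calc u + β • u + β • v + u = (u + u) + (β • v + β • u) := by abel
      _ = β • v + β • u := by rw [add_self_vec (F := F), zero_add]
  exfalso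
  have hval : ∀ x, B x w = α * B x u + β * B x v := fun x => by
    rw [hab, map_add, map_smul, map_smul, smul_eq_mul, smul_eq_mul]
  obtain ⟨d, hd, l0, l1⟩ := hS.exists_nonint h4 hu
  obtain ⟨huv', huw', hvw'⟩ := h1 d hd
  by_cases hdv : B d v = 0
  · by_cases hdw : B d w = 0
    · rw [hval, hdv, mul_zero, add_zero] at hdw
      exact mul_ne_zero hα l0 hdw
    · refine hS.no_pattern h4 hu hw hv huw huv (by rw [symm_B hA, hvw]) (fun e he => ⟨fun a b => (h1 e he).1 a b,
        fun a b => ((h1 e he).2.2 b a).symm⟩) (fun e he a b => ?_) hd l0 l1 (huw' l0 hdw) hdv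
      rw [hval, a, mul_zero, zero_add] at b
      exact (mul_eq_zero.1 b).resolve_left hβ
  · by_cases hdw : B d w = 0
    · exact hS.no_pattern h4 hu hv hw huv huw hvw (fun e he => ⟨(h1 e he).2.1, (h1 e he).2.2⟩)
        (fun e he a b => by rw [hval, a, b, mul_zero, mul_zero, add_zero]) hd l0 l1 (huv' l0 hdv) hdw
    · apply hsum
      have e1 := huw' l0 hdw
      rw [hval, huv' l0 hdv, ← add_mul] at e1
      exact mul_right_cancel₀ l0 (by rw [e1, one_mul])

/-- Transvections in a two-subgroup commute. -/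
theorem perp_of_isPGroup (hS : Setting hA G) {P : Subgroup G} (hP : IsPGroup 2 P) {u v : V} (hu : u ≠ 0)
    (hgu : ∃ g ∈ P, (g : V ≃ₗ[F] V) = Alt.tv hA u 1) (hgv : ∃ g ∈ P, (g : V ≃ₗ[F] V) = Alt.tv hA v 1) : B u v = 0 := by
  by_contra h
  obtain ⟨a, ha, ea⟩ := hgu
  obtain ⟨b, hb, eb⟩ := hgv
  obtain ⟨f, hef, hvf⟩ : ∃ f, B u f = 1 ∧ v = B u v • f + (0 : V) :=
    ⟨(B u v)⁻¹ • v, by rw [map_smul, smul_eq_mul, inv_mul_cancel₀ h], by rw [add_zero, smul_inv_smul₀ h]⟩
  have hR : ∀ r ∈ (⊥ : Submodule F V), B r u = 0 ∧ B r f = 0 ∧ ∀ t ∈ (⊥ : Submodule F V), B r t = 0 := fun r hr => by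
    rw [(Submodule.mem_bot F).1 hr]; simp
  have hA1 : Acts u f ⊥ (upR (1 : F)) (Alt.tv hA u 1) := by
    have := acts_tv_upper (hA := hA) hef hR 1 (zero_mem _)
    rwa [one_pow, one_smul, add_zero] at this
  have hA2 : Acts u f ⊥ (lowR (B u v ^ 2)) (Alt.tv hA v 1) := by
    have := acts_tv_lower (hA := hA) hef hR (B u v) (zero_mem _)
    rwa [← hvf] at this
  set g := Alt.tv hA u 1 * Alt.tv hA v 1 with hg
  set A := upR (1 : F) * lowR (B u v ^ 2) with hAdef
  have hp : ∀ n : ℕ, Acts u f ⊥ (A ^ n) (g ^ n) := fun n => by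
    induction n with
    | zero => rw [pow_zero, pow_zero]; exact acts_one u f ⊥
    | succ n ih => rw [pow_succ, pow_succ]; exact acts_mul ih (acts_mul hA1 hA2)
  obtain ⟨k, hk⟩ := hP ⟨a * b, mul_mem ha hb⟩
  have hgk : g ^ 2 ^ k = 1 := by
    have := congrArg (fun x : P => ((x : G) : V ≃ₗ[F] V)) hk
    simp only [SubmonoidClass.coe_pow, Subgroup.coe_mul, OneMemClass.coe_one, ea, eb] at this
    exact this
  obtain ⟨h0, h1, -⟩ := hgk ▸ hp (2 ^ k)
  rw [Submodule.mem_bot, sub_eq_zero] at h0 h1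
  have ku : ∀ x y : F, x • u + y • f = 0 → x = 0 ∧ y = 0 := fun x y hxy => by
    have hfu : B f u = 1 := by rw [symm_B hA, hef]
    have e1 := congrArg (fun z => B z f) hxy
    have e2 := congrArg (fun z => B z u) hxy
    simp [hA u, hA f, hef, hfu] at e1 e2
    exact ⟨e1, e2⟩
  set M := A ^ 2 ^ k
  have h00 := ku (M.1 0 0 + 1) (M.1 1 0) (by
    rw [add_smul, one_smul, add_right_comm, ← h0]
    exact add_self_vec (F := F) u)
  have h11 := ku (M.1 0 1) (M.1 1 1 + 1) (by
    rw [add_smul, one_smul, ← add_assoc, ← h1]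
    exact add_self_vec (F := F) f)
  have hM' : M.1 = 1 := by
    ext i j
    fin_cases i <;> fin_cases j
    · simpa using CharTwo.add_eq_zero.1 h00.1
    · simpa using h11.1
    · simpa using h00.2
    · simpa using CharTwo.add_eq_zero.1 h11.2
  have hM : A.1 ^ 2 ^ k = 1 := by rw [← Matrix.SpecialLinearGroup.coe_pow]; exact hM'
  have hdet : ((A.1 + 1) ^ 2 ^ k).det = 0 := by
    rw [add_pow_char_pow_of_commute 2 k (Commute.one_right A.1), one_pow, hM]
    simp [CharTwo.add_self_eq_zero, Matrix.det_fin_two]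
  rw [Matrix.det_pow] at hdet
  have := eq_zero_of_pow_eq_zero hdet
  rw [hAdef, Matrix.SpecialLinearGroup.coe_mul, coe_upR, coe_lowR, Matrix.det_fin_two] at this
  simp [Matrix.mul_apply, Fin.sum_univ_two, CharTwo.add_self_eq_zero] at this
  have h2 : (2 : F) = 0 := CharP.ofNat_eq_zero F 2
  exact h (by grind)

/-- There are no transvections at all. -/
theorem no_tv (hS : Setting hA G) (h4 : 4 ≤ Nat.card F) {u : V} (hu : u ∈ D hA G) : False := by
  classical
  haveI : FiniteDimensional F V := FiniteDimensional.of_finrank_pos (by rw [hS.dim]; omega)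
  haveI : Finite V := Module.finite_of_finite F
  haveI : Finite (V ≃ₗ[F] V) := Finite.of_injective (fun g : V ≃ₗ[F] V => (g : V → V)) DFunLike.coe_injective
  haveI := hS.simple
  haveI : Fact (Nat.Prime 2) := ⟨Nat.prime_two⟩
  have hC : ∀ v ∈ D hA G, ∀ s : F, s • v ∈ D hA G → s = 1 := fun v hv s hs => hS.no_pair h4 hv hs
  let el : ∀ v ∈ D hA G, G := fun v hv => ⟨Alt.tv hA v 1, hv.2⟩
  have hord : ∀ v (hv : v ∈ D hA G), orderOf (el v hv) = 2 := fun v hv => by
    refine orderOf_eq_prime ?_ fun e => ?_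
    · rw [pow_two]
      exact Subtype.ext (show Alt.tv hA v 1 * Alt.tv hA v 1 = 1 by
        rw [Alt.tv_add, CharTwo.add_self_eq_zero, Alt.tv_zero])
    · obtain ⟨x, hx⟩ := exists_pairing hS.nondeg hv.1
      have := LinearEquiv.congr_fun (congrArg Subtype.val e) x
      rw [show ((el v hv : G) : V ≃ₗ[F] V) = Alt.tv hA v 1 from rfl, tv1_apply, hx, one_smul] at this
      exact hv.1 (add_left_cancel (this.trans (add_zero x).symm))
  have hconj : ∀ (g : G) v (hv : v ∈ D hA G), g * el v hv * g⁻¹ = el _ (hS.map_mem g.2 hv) := fun g v hv =>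
    Subtype.ext (Alt.conj_tv hA (hS.le g.2) v 1)
  -- no element of the group is isolated
  obtain ⟨P, hPu⟩ := IsPGroup.exists_le_sylow (show IsPGroup 2 (Subgroup.zpowers (el u hu)) from
    IsPGroup.of_card (n := 1) (by rw [Nat.card_zpowers, hord u hu, pow_one]))
  have huP : el u hu ∈ P := hPu (Subgroup.mem_zpowers _)
  obtain ⟨g0, hg0P, hg0⟩ : ∃ g : G, g * el u hu * g⁻¹ ∈ P ∧ g * el u hu * g⁻¹ ≠ el u hu := by
    by_contra hcon
    push Not at hcon
    obtain ⟨N, hN, hodd, hcomm⟩ := Cfsg.Agent.S0215.result P _ (hord u hu) huP hcon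
    rcases hS.simple.eq_bot_or_eq_top_of_normal N hN with rfl | rfl
    · have hc : el u hu ∈ Subgroup.center G := Subgroup.mem_center_iff.2 fun g => by
        have := Subgroup.mem_bot.1 (hcomm g)
        rw [mul_inv_eq_one, mul_inv_eq_iff_eq_mul] at this
        exact this.symm
      rcases hS.simple.eq_bot_or_eq_top_of_normal (Subgroup.center G) inferInstance with h | h
      · rw [h, Subgroup.mem_bot] at hc
        exact absurd (hc ▸ hord u hu) (by simp)
      · exact hS.nonab ⟨⟨fun a b => (Subgroup.mem_center_iff.1 (h ▸ Subgroup.mem_top b : b ∈ Subgroup.center G)) a⟩⟩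
    · rw [Subgroup.card_top] at hodd
      have : 2 ∣ Nat.card G := hord u hu ▸ orderOf_dvd_natCard _
      exact absurd (even_iff_two_dvd.2 this) (Nat.not_even_iff_odd.2 hodd)
  set u' := (g0 : V ≃ₗ[F] V) u
  have hu' : u' ∈ D hA G := hS.map_mem g0.2 hu
  have hu'P : el u' hu' ∈ P := hconj g0 u hu ▸ hg0P
  have hne : u' ≠ u := fun e => hg0 (by rw [hconj _ u hu]; exact Subtype.ext (by show Alt.tv hA u' 1 = _; rw [e]))
  have hperp : ∀ v w, ∀ hv : v ∈ D hA G, ∀ hw : w ∈ D hA G, el v hv ∈ P → el w hw ∈ P → B v w = 0 :=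
    fun v w hv hw hvP hwP => hS.perp_of_isPGroup P.isPGroup' hv.1 ⟨_, hvP, rfl⟩ ⟨_, hwP, rfl⟩
  have huu' : B u u' = 0 := hperp u u' hu hu' huP hu'P
  set r := u' + u with hr
  have hr0 : r ≠ 0 := fun e => hne (by
    calc u' = u' + (u + u) := by rw [add_self_vec (F := F), add_zero]
      _ = u := by rw [← add_assoc, ← hr, e, zero_add])
  have hur : B u r = 0 := by rw [hr, map_add, huu', hA u, add_zero]
  have hru : B r u = 0 := by rw [symm_B hA, hur]
  -- the linear conditions cutting out the line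
  set W := Submodule.span F (Set.range ![u, u']) with hW
  have hli : LinearIndependent F ![u, u'] := by
    refine LinearIndependent.pair_iff.2 fun a b hab => ?_
    by_cases hb : b = 0
    · rw [hb, zero_smul, add_zero] at hab
      exact ⟨(smul_eq_zero.1 hab).resolve_right hu.1, hb⟩
    · exfalso
      have e : u' = (b⁻¹ * a) • u := by
        calc u' = b⁻¹ • (b • u') := (inv_smul_smul₀ hb u').symm
          _ = b⁻¹ • (a • u) := by
            congr 1
            calc b • u' = b • u' + (a • u + a • u) := by rw [add_self_vec (F := F), add_zero]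
              _ = (a • u + b • u') + a • u := by abel
              _ = a • u := by rw [hab, zero_add]
          _ = _ := smul_smul _ _ _
      exact hne (e.trans (by rw [hC u hu (b⁻¹ * a) (by rw [← e]; exact hu'), one_smul]))
  have hWfin : finrank F W = 2 := by rw [hW, finrank_span_eq_card hli, Fintype.card_fin]
  have hWperp : W = B.orthogonal W := by
    refine Submodule.eq_of_le_of_finrank_le ?_ ?_
    · refine Submodule.span_le.2 ?_
      rintro _ ⟨i, rfl⟩
      refine LinearMap.BilinForm.mem_orthogonal_iff.2 fun n hn => ?_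
      have hle : W ≤ LinearMap.ker (B.flip (![u, u'] i)) := Submodule.span_le.2 (by
        rintro _ ⟨j, rfl⟩
        fin_cases i <;> fin_cases j <;> simp [hA u, hA u', huu', symm_B hA u' u])
      exact hle hn
    · rw [LinearMap.BilinForm.finrank_orthogonal hS.nondeg, hS.dim, hWfin]
  have hmemW : ∀ x, B u x = 0 → B u' x = 0 → x ∈ W := fun x h1 h2 => by
    rw [hWperp]
    refine LinearMap.BilinForm.mem_orthogonal_iff.2 fun n hn => ?_
    have hle : W ≤ LinearMap.ker (B.flip x) := Submodule.span_le.2 (by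
      rintro _ ⟨j, rfl⟩
      fin_cases j <;> simp [h1, h2])
    exact hle hn
  have hcoord : ∀ x ∈ W, ∃ α β : F, x = α • u + β • u' := fun x hx => by
    rw [hW, Matrix.range_cons, Matrix.range_cons, Matrix.range_empty, Set.union_empty, Set.singleton_union] at hx
    obtain ⟨α, β, e⟩ := Submodule.mem_span_pair.1 hx
    exact ⟨α, β, e.symm⟩
  have hline : ∀ v (hv : v ∈ D hA G), el v hv ∈ P → ∃ t : F, v = u + t • r := by
    intro v hv hvP
    obtain ⟨α, β, hab⟩ := hcoord v (hmemW v (hperp u v hu hv huP hvP) (hperp u' v hu' hv hu'P hvP))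
    by_cases h1 : v = u
    · exact ⟨0, by rw [h1, zero_smul, add_zero]⟩
    by_cases h2 : v = u'
    · exact ⟨1, by rw [h2, one_smul, hr, add_left_comm, add_self_vec (F := F), add_zero]⟩
    obtain ⟨t, ht⟩ := hS.affine h4 hC hu hu' hv h1 h2 hne huu' hab
    refine ⟨t, ?_⟩
    calc v = v + (u + u) := by rw [add_self_vec (F := F), add_zero]
      _ = u + (v + u) := by abel
      _ = _ := by rw [ht]
  have hfix : ∀ g : P, ∀ v (hv : v ∈ D hA G), el v hv ∈ P → el _ (hS.map_mem (g : G).2 hv) ∈ P := fun g v hv hvP => by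
    rw [← hconj _ v hv]
    exact mul_mem (mul_mem g.2 hvP) (inv_mem g.2)
  let act : P → (V ≃ₗ[F] V) := fun g => ((g : G) : V ≃ₗ[F] V)
  have hgu : ∀ g : P, (∃ a : F, act g u = u + a • r) ∧ act g r = r := by
    intro g
    obtain ⟨a, ha⟩ := hline _ (hS.map_mem (g : G).2 hu) (hfix g u hu huP)
    obtain ⟨b, hb⟩ := hline _ (hS.map_mem (g : G).2 hu') (hfix g u' hu' hu'P)
    refine ⟨⟨a, ha⟩, ?_⟩
    have e : act g r = (a + b) • r := by
      show ((g : G) : V ≃ₗ[F] V) r = _
      rw [hr, map_add, ha, hb, add_smul, add_add_add_comm, add_self_vec (F := F), zero_add, add_comm]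
    obtain ⟨k, hk⟩ := P.isPGroup' g
    have hpow : ∀ n : ℕ, (act g ^ n : V ≃ₗ[F] V) r = ((a + b) ^ n) • r := fun n => by
      induction n with
      | zero => rw [pow_zero, pow_zero, one_smul]; rfl
      | succ n ih => rw [pow_succ', LinearEquiv.mul_apply, ih, map_smul, e, smul_smul, ← pow_succ]
    have h := hpow (2 ^ k)
    have hgk : act g ^ 2 ^ k = 1 := by
      have := congrArg (fun x : P => ((x : G) : V ≃ₗ[F] V)) hk
      simpa [act, SubmonoidClass.coe_pow] using this
    rw [hgk] at h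
    have h1 : (a + b) ^ 2 ^ k = 1 := by
      have : ((1 : F) - (a + b) ^ 2 ^ k) • r = 0 := by
        rw [sub_smul, one_smul, sub_eq_zero]; exact h
      exact (sub_eq_zero.1 ((smul_eq_zero.1 this).resolve_right hr0)).symm
    have h11 : a + b = 1 := iterateFrobenius_inj F 2 k (show (a + b) ^ 2 ^ k = 1 ^ 2 ^ k by rw [h1, one_pow])
    rw [e, h11, one_smul]
  obtain ⟨x', hux', hrx'⟩ : ∃ x, B u x = 1 ∧ B r x = 0 := by
    obtain ⟨y, hy⟩ := exists_pairing hS.nondeg hr0
    rw [symm_B hA] at hy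
    obtain ⟨z, hz1, hz2⟩ : ∃ z, B r z = 0 ∧ B u z ≠ 0 := by
      by_contra hcon
      push Not at hcon
      have e : u = B u y • r := sub_eq_zero.1 (hS.nondeg.1 _ fun x => by
        have := hcon (x - B r x • y) (by rw [map_sub, map_smul, hy, smul_eq_mul, mul_one, sub_self])
        rw [map_sub, map_smul, smul_eq_mul] at this
        rw [map_sub, map_smul, LinearMap.sub_apply, LinearMap.smul_apply, smul_eq_mul, mul_comm, this])
      rw [hr, smul_add] at e
      have h := LinearIndependent.pair_iff.1 hli (B u y + 1) (B u y) (by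
        rw [add_smul, one_smul]
        calc B u y • u + u + B u y • u' = (B u y • u' + B u y • u) + u := by abel
          _ = u + u := by rw [← e]
          _ = 0 := add_self_vec (F := F) u)
      rw [h.2, zero_add] at h
      exact one_ne_zero h.1
    exact ⟨(B u z)⁻¹ • z, by rw [map_smul, smul_eq_mul, inv_mul_cancel₀ hz2], by rw [map_smul, hz1, smul_zero]⟩
  have hBinv : ∀ (g : P) x y, B (act g x) (act g y) = B x y := fun g x y => hS.le (g : G).2 x y
  have hW' : ∀ g : P, act g x' + x' ∈ W := by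
    intro g
    obtain ⟨⟨a, ha⟩, hgr⟩ := hgu g
    have h1 : B r (act g x') = 0 := by
      conv_lhs => rw [← hgr]
      rw [hBinv, hrx']
    have h2 : B u (act g x') = 1 := by
      have := hBinv g u x'
      rwa [ha, map_add, map_smul, LinearMap.add_apply, LinearMap.smul_apply, h1, smul_zero, add_zero, hux'] at this
    have h3 : B u' (act g x') = 1 := by
      rw [show u' = r + u by rw [hr, add_assoc, add_self_vec (F := F), add_zero], map_add, LinearMap.add_apply, h1, h2, zero_add]
    have h4' : B u' x' = 1 := by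
      rw [show u' = r + u by rw [hr, add_assoc, add_self_vec (F := F), add_zero], map_add, LinearMap.add_apply, hrx', hux', zero_add]
    exact hmemW _ (by rw [map_add, h2, hux', CharTwo.add_self_eq_zero]) (by rw [map_add, h3, h4', CharTwo.add_self_eq_zero])
  -- the homomorphism
  let Af : P → F := fun g => B (act g x') x'
  have hAmul : ∀ g h : P, Af (g * h) = Af g + Af h := by
    intro g h
    show B (act g (act h x')) x' = B (act g x') x' + B (act h x') x'
    have e1 : act h x' = (act h x' + x') + x' := by rw [add_assoc, add_self_vec (F := F), add_zero]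
    have hd : ∀ y ∈ W, ∀ z ∈ W, B y z = 0 := fun y hy z hz =>
      LinearMap.BilinForm.mem_orthogonal_iff.1 (hWperp ▸ hz) y hy
    have h2 : B (act g (act h x' + x')) x' = B (act h x' + x') x' := by
      have e2 : x' = act g (act g⁻¹ x') := by
        show x' = ((g : G) : V ≃ₗ[F] V) (((g : G) : V ≃ₗ[F] V)⁻¹ x')
        rw [Alt.apply_inv_self]
      conv_lhs => arg 2; rw [e2]
      rw [hBinv, show act g⁻¹ x' = (act g⁻¹ x' + x') + x' by rw [add_assoc, add_self_vec (F := F), add_zero],
        map_add, hd _ (hW' h) _ (hW' g⁻¹), zero_add]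
    conv_lhs => rw [e1, map_add, map_add, LinearMap.add_apply, h2, map_add, LinearMap.add_apply, hA x', add_zero]
    rw [add_comm]
  have hAtv : ∀ v (hv : v ∈ D hA G) (hvP : el v hv ∈ P), Af ⟨el v hv, hvP⟩ = 1 := by
    intro v hv hvP
    obtain ⟨t, rfl⟩ := hline v hv hvP
    show B (Alt.tv hA (u + t • r) 1 x') x' = 1
    have e : B x' (u + t • r) = 1 := by
      rw [map_add, map_smul, symm_B hA x' u, symm_B hA x' r, hux', hrx', smul_zero, add_zero]
    rw [tv1_apply, e, one_smul, map_add, LinearMap.add_apply, hA x', zero_add, symm_B hA, e]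
  letI : Algebra (ZMod 2) F := ZMod.algebra F 2
  obtain ⟨ψ, hψ, -⟩ := exists_dual_one_two (F := F)
  let Q : Subgroup P :=
    { carrier := {g | ψ (Af g) = 0}
      one_mem' := by
        show ψ (B (act 1 x') x') = 0
        rw [show act 1 x' = x' from rfl, hA x', map_zero]
      mul_mem' := fun {g h} (hg : ψ (Af g) = 0) (hh : ψ (Af h) = 0) => by
        show ψ (Af (g * h)) = 0
        rw [hAmul, map_add, hg, hh, add_zero]
      inv_mem' := fun {g} (hg : ψ (Af g) = 0) => by
        show ψ (Af g⁻¹) = 0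
        have h := hAmul g⁻¹ g
        rw [inv_mul_cancel, show Af 1 = 0 from hA x'] at h
        rw [← CharTwo.add_eq_zero.1 h.symm] at hg
        exact hg }
  have huQ : (⟨el u hu, huP⟩ : P) ∉ Q := fun h => by
    have h' : ψ (Af ⟨el u hu, huP⟩) = 0 := h
    rw [hAtv u hu, hψ] at h'
    exact one_ne_zero h'
  have hidx : Q.index = 2 := by
    rw [Subgroup.index_eq_two_iff]
    refine ⟨⟨el u hu, huP⟩, fun b => ?_⟩
    show Xor' (ψ (Af (b * _)) = 0) (ψ (Af b) = 0)
    rw [hAmul, map_add, hAtv u hu, hψ]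
    rcases zmod_two_cases (ψ (Af b)) with h | h <;> rw [h] <;> simp [CharTwo.add_self_eq_zero] <;> exact (by simp [Xor'])
  rcases Cfsg.Agent.S0111.result P (Q.map (P : Subgroup G).subtype) (Subgroup.map_subtype_le Q)
      (by rw [Subgroup.relIndex, Subgroup.subgroupOf, Subgroup.comap_map_eq_self_of_injective (Subgroup.subtype_injective _)]; exact hidx)
      _ (hord u hu) huP (fun h => by
        obtain ⟨q, hq, e⟩ := Subgroup.mem_map.1 h
        rw [show q = ⟨el u hu, huP⟩ from Subtype.ext e] at hq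
        exact huQ hq) with ⟨M, hM, hMi, huM⟩ | ⟨g, hg⟩
  · rcases hS.simple.eq_bot_or_eq_top_of_normal M hM with rfl | rfl
    · rw [Subgroup.index_bot] at hMi
      haveI := isCyclic_of_prime_card (p := 2) hMi
      exact hS.nonab IsCyclic.isMulCommutative
    · rw [Subgroup.index_top] at hMi
      omega
  · rw [hconj g u hu] at hg
    obtain ⟨q, hq, e⟩ := Subgroup.mem_map.1 hg
    have hqP : el _ (hS.map_mem g.2 hu) ∈ P := by rw [← e]; exact q.2
    rw [show q = ⟨_, hqP⟩ from Subtype.ext e] at hq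
    have h' : ψ (Af ⟨_, hqP⟩) = 0 := hq
    rw [hAtv _ (hS.map_mem g.2 hu), hψ] at h'
    exact one_ne_zero h'

end Setting

end Cfsg.Agent.ResidualFour.Even
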