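import Cfsg.Agent.ResidualFour.Even.Defs
import Cfsg.Agent.ResidualFour.Even.TvTransfer

/-!
A perfect socle in Sp_4(2^e) has no transvection.
-/

set_option autoImplicit false

namespace Cfsg.Agent.ResidualFour.Even

open Module Cfsg.Geo Cfsg.Agent.Classical Cfsg.Agent.ClassicalMax

variable {F : Type*} [Field F] [Fintype F] [CharP F 2]

/-- The index equivalence. -/
def eI : I ≃ Fin 4 := (finSumFinEquiv : Fin 2 ⊕ Fin 2 ≃ Fin (2 + 2))

theorem exists_mat_of_basis (b : Basis (Fin 4) F (I → F)) :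
    ∃ Bm : Matrix.GeneralLinearGroup I F, ∀ (g : Matrix.GeneralLinearGroup I F) (i j : I),
      ((Bm : Matrix I I F) * (g : Matrix I I F) * ((Bm⁻¹ : Matrix.GeneralLinearGroup I F) : Matrix I I F)) i j =
        b.repr (glEquiv I F g (b (eI j))) (eI i) := by
  let b' : Basis I F (I → F) := b.reindex eI.symm
  let e : (I → F) ≃ₗ[F] (I → F) := b'.equivFun
  refine ⟨(glEquiv I F).symm e, fun g i j => ?_⟩
  have h : ∀ v, (((glEquiv I F).symm e : Matrix.GeneralLinearGroup I F) : Matrix I I F).mulVec v = e v := fun v =>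
    symm_mulVec e v
  rw [← mul_apply_single ((((glEquiv I F).symm e : Matrix.GeneralLinearGroup I F) : Matrix I I F) * (g : Matrix I I F) *
    ((((glEquiv I F).symm e)⁻¹ : Matrix.GeneralLinearGroup I F) : Matrix I I F)) i j]
  rw [← Matrix.mulVec_mulVec, ← Matrix.mulVec_mulVec, ← map_inv]
  simp only [symm_mulVec]
  have he : e⁻¹ (Pi.single j (1 : F)) = b (eI j) := by
    show e.symm _ = _
    rw [LinearEquiv.symm_apply_eq]
    funext k
    simp [e, b', Basis.equivFun_apply, Finsupp.single_apply, Pi.single_apply, eq_comm]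
  rw [he, ← glEquiv_apply]
  simp [e, b', Basis.equivFun_apply]
where
  mul_apply_single {m : Type} [Fintype m] [DecidableEq m] (M : Matrix m m F) (i j : m) :
      M.mulVec (Pi.single j 1) i = M i j := by simp

theorem Core.setting {P : Subgroup (Matrix.GeneralLinearGroup I F)} (hP : Core P) :
    Setting (sympB_isAlt (F := F) (m := 2)) (P.map (glEquiv I F).toMonoidHom) := by
  set e := glEquiv I F
  have eP : P ≃* P.map e.toMonoidHom := P.equivMapOfInjective _ e.injective
  refine ⟨sympB_nondeg, by simp, ?_, ?_, ?_, fun U hU => ?_, fun K hK => ?_, fun hle => ?_⟩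
  · rintro _ ⟨g, hg, rfl⟩
    exact (glEquiv_mem_iso_iff g).2 (hP.le hg)
  · haveI := hP.simple
    haveI : Nontrivial (P.map e.toMonoidHom) := eP.symm.nontrivial
    exact IsSimpleGroup.isSimpleGroup_of_surjective eP.toMonoidHom eP.surjective
  · intro hc
    exact hP.nonab ⟨⟨fun a b => eP.injective (by rw [map_mul, map_mul]; exact hc.is_comm.comm _ _)⟩⟩
  · refine hP.absIrred.1 U ?_
    rintro _ ⟨g, hg, rfl⟩
    rintro _ ⟨u, hu, rfl⟩
    rw [Matrix.toLin'_apply, ← glEquiv_apply]
    exact hU _ (Subgroup.mem_map_of_mem _ hg) u hu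
  · rintro ⟨b, hb⟩
    obtain ⟨Bm, hBm⟩ := exists_mat_of_basis b
    refine hP.no_subfield K hK ⟨Bm, ?_⟩
    rintro _ ⟨g, hg, rfl⟩ i j
    rw [hBm g i j]
    exact hb _ (Subgroup.mem_map_of_mem _ hg) _ _
  · refine hP.ne_sp (le_antisymm hP.le fun g hg => ?_)
    obtain ⟨g', hg', he⟩ := hle ((glEquiv_mem_iso_iff g).2 hg)
    exact e.injective he ▸ hg'

/-- No transvection. -/
theorem Core.no_tv (h4 : 4 ≤ Fintype.card F) {P : Subgroup (Matrix.GeneralLinearGroup I F)} (hP : Core P) : NoTv P := by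
  intro v hv hT
  refine hP.setting.no_tv (by rwa [Nat.card_eq_fintype_card]) (u := v) ⟨hv, ?_⟩
  have h := Subgroup.mem_map_of_mem (glEquiv I F).toMonoidHom hT
  rwa [MulEquiv.coe_toMonoidHom, T, MulEquiv.apply_symm_apply] at h

end Cfsg.Agent.ResidualFour.Even
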