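import Cfsg.Agent.ResidualFour.Even.Defs
import Cfsg.Agent.ResidualFour.Even.NoTv
import Cfsg.Agent.ResidualFour.Even.NoShort

/-!
From the residual class of Sp_4(2^e) to the core.
-/

set_option autoImplicit false

namespace Cfsg.Agent.ResidualFour.Even

open Module Cfsg.Geo Cfsg.Agent.Classical Cfsg.Agent.ClassicalMax

variable {F : Type*} [Field F] [Fintype F]

omit [Fintype F] in
theorem scalars_inf_sp [CharP F 2] {g : Matrix.GeneralLinearGroup I F} (hg : g ∈ scalars I F)
    (hs : g ∈ Cfsg.spGL 2 F) : g = 1 := by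
  obtain ⟨c, hc⟩ := (mem_scalars_iff g).1 hg
  obtain ⟨x, hx⟩ := exists_pairing (sympB_nondeg (F := F) (m := 2)) (v := Pi.single (Sum.inl 0) 1) (by
    intro e
    simpa using congrFun e (Sum.inl 0))
  have h := (glEquiv_mem_iso_iff g).2 hs x (Pi.single (Sum.inl 0) 1)
  have happ : ∀ v, glEquiv I F g v = (c : F) • v := fun v => by
    rw [glEquiv_apply, hc, Matrix.smul_mulVec, Matrix.one_mulVec]
  simp only [happ, map_smul, LinearMap.smul_apply, hx, smul_eq_mul, mul_one] at h
  have h1 : (c : F) = 1 := CharTwo.sq_injective (show (c : F) ^ 2 = 1 ^ 2 by rw [pow_two, h, one_pow])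
  exact Units.ext (by rw [hc, h1, one_smul]; rfl)

theorem charP_two (heven : ¬ Odd (Fintype.card F)) : CharP F 2 := by
  obtain ⟨p, hp⟩ := CharP.exists F
  haveI : Fact p.Prime := ⟨CharP.char_is_prime F p⟩
  obtain ⟨n, hp', hn⟩ := FiniteField.card F p
  rcases hp'.eq_two_or_odd' with h | h
  · exact h ▸ hp
  · exact absurd (hn ▸ h.pow) heven

/-- The residual core in Sp_4(2^e) satisfies `Core`, and its image modulo scalars is itself. -/
theorem core_of_residual [CharP F 2] {H P : Subgroup (Matrix.GeneralLinearGroup I F)}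
    (hH : IsMaximalIn (Cfsg.spGL 2 F) H) (hR : IsResidualCore H P) :
    Core P ∧ Nonempty ((P ⧸ (scalars I F).subgroupOf P) ≃* P) := by
  have hle : P ≤ Cfsg.spGL 2 F := hR.le.trans hH.1.le
  have hbot : (scalars I F).subgroupOf P = ⊥ := (Subgroup.eq_bot_iff_forall _).2 fun g hg =>
    Subtype.ext (scalars_inf_sp hg (hle g.2))
  let e : (P ⧸ (scalars I F).subgroupOf P) ≃* P :=
    (QuotientGroup.quotientMulEquivOfEq hbot).trans QuotientGroup.quotientBot
  haveI := hR.simple
  refine ⟨⟨hle, fun h => hH.1.not_ge (h ▸ hR.le), ?_, ?_, hR.absIrred, hR.no_subfield⟩, ⟨e⟩⟩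
  · haveI : Nontrivial P := e.symm.nontrivial
    exact IsSimpleGroup.isSimpleGroup_of_surjective e.toMonoidHom e.surjective
  · intro hc
    exact hR.nonabelian ⟨⟨fun a b => e.injective (by rw [map_mul, map_mul]; exact hc.is_comm.comm _ _)⟩⟩

theorem core_no_short [CharP F 2] (h4 : 4 ≤ Fintype.card F) {P : Subgroup (Matrix.GeneralLinearGroup I F)}
    (hP : Core P) : NoShort P :=
  no_short (fun _ h => h.no_tv h4) hP

end Cfsg.Agent.ResidualFour.Even
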