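import Cfsg.Agent.ResidualFour.Even.Descend
import Cfsg.Agent.ResidualFour.Even.NoShort
import Cfsg.Agent.SmallOrder.Order360
import Cfsg.Agent.CITSolv.L27

/-!
# The small CIT groups are not socles of the residual class of Sp_4(q), q even

`L_2(p)`, `p ≥ 7`, and `L_3(4)` have an element of odd prime order with too many eigenvalues.
For `L_2(9) ≅ A_6` one of the two classes of three-elements is fixed point free, hence so are the
five-elements, and all traces lie in the prime field.
-/

set_option autoImplicit false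

namespace Cfsg.Agent.ResidualFour.Even

open Matrix Module Cfsg.Geo
open Cfsg.Agent.PrimeDim (mat)
open scoped MatrixGroups Polynomial

variable {F : Type*} [Field F]

theorem mat_inv {g : GL I F} (hg : g ∈ Cfsg.spGL 2 F) :
    mat g⁻¹ = -Matrix.J (Fin 2) F * (mat g)ᵀ * Matrix.J (Fin 2) F := by
  have h := (Short.mem_spGL_iff g).1 hg
  have e := SymplecticGroup.inv_left_mul_aux h
  have h1 : mat g * mat g⁻¹ = 1 := by
    show ((g : Matrix I I F) * (g⁻¹ : GL I F)) = 1
    rw [← Units.val_mul, mul_inv_cancel, Units.val_one]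
  exact (left_inv_eq_right_inv (by rw [← e]; noncomm_ring) h1).symm

theorem charpoly_inv {g : GL I F} (hg : g ∈ Cfsg.spGL 2 F) :
    (mat g⁻¹).charpoly = (mat g).charpoly := by
  let u : (Matrix I I F)ˣ := ⟨-Matrix.J (Fin 2) F, Matrix.J (Fin 2) F,
    by rw [Matrix.neg_mul, Matrix.J_squared, neg_neg], by rw [Matrix.mul_neg, Matrix.J_squared, neg_neg]⟩
  rw [mat_inv hg, ← Matrix.charpoly_transpose (mat g)]
  have h := Matrix.charpoly_units_conj u (mat g)ᵀ
  rw [← Matrix.coe_units_inv, show (↑u⁻¹ : Matrix I I F) = Matrix.J (Fin 2) F from rfl, show (↑u : Matrix I I F) = -Matrix.J (Fin 2) F from rfl] at h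
  exact h

theorem charpoly_conj (g h : GL I F) : (mat (g * h * g⁻¹)).charpoly = (mat h).charpoly := by
  have e := Matrix.charpoly_units_conj g (mat h)
  rw [← Matrix.coe_units_inv] at e
  rw [mat_mul_gl, mat_mul_gl]
  exact e

theorem trace_eq_half {g : GL I F} (hg : g ∈ Cfsg.spGL 2 F) :
    (mat g).trace = ∑ i : Fin 2, (mat g (Sum.inl i) (Sum.inl i) + mat g⁻¹ (Sum.inl i) (Sum.inl i)) := by
  have h : ∀ i : Fin 2, mat g⁻¹ (Sum.inl i) (Sum.inl i) = mat g (Sum.inr i) (Sum.inr i) := by
    intro i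
    rw [mat_inv hg]
    simp [Matrix.mul_apply, Matrix.J, Matrix.one_apply, Fintype.sum_sum_type]
  rw [Finset.sum_add_distrib, Finset.sum_congr rfl fun i _ => h i]
  simp [Matrix.trace, Fintype.sum_sum_type]

theorem sympForm_self (v : I → F) : Cfsg.sympForm 2 F v v = 0 := by
  rw [← Classical.sympB_apply]; exact Classical.sympB_isAlt v

/-- Fixed vectors. -/
def fixSpace (g : GL I F) : Submodule F (I → F) := LinearMap.ker (Matrix.toLin' (mat g - 1))

theorem mem_fixSpace {g : GL I F} {v : I → F} : v ∈ fixSpace g ↔ mat g *ᵥ v = v := by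
  rw [fixSpace, LinearMap.mem_ker, Matrix.toLin'_apply, Matrix.sub_mulVec, Matrix.one_mulVec, sub_eq_zero]

theorem mulVec_mul (g h : GL I F) (v : I → F) : mat (g * h) *ᵥ v = mat g *ᵥ (mat h *ᵥ v) := by
  rw [mat_mul_gl, Matrix.mulVec_mulVec]

theorem one_mulVec' (v : I → F) : mat (1 : GL I F) *ᵥ v = v := by
  show (((1 : GL I F)) : Matrix I I F) *ᵥ v = v
  rw [Units.val_one, Matrix.one_mulVec]

section Three

variable [Fintype F] [CharP F 2]

/-- The sum over the group of order three. -/
noncomputable def proj (g : GL I F) : (I → F) →ₗ[F] (I → F) :=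
  Matrix.toLin' (1 + mat g + mat (g * g))

omit [Fintype F] [CharP F 2] in
theorem proj_apply (g : GL I F) (v : I → F) :
    proj g v = v + mat g *ᵥ v + mat g *ᵥ (mat g *ᵥ v) := by
  rw [proj, Matrix.toLin'_apply, Matrix.add_mulVec, Matrix.add_mulVec, Matrix.one_mulVec, mulVec_mul]

variable {g : GL I F}

omit [Fintype F] [CharP F 2] in
theorem pow_three_mulVec (h3 : g * g * g = 1) (v : I → F) :
    mat g *ᵥ (mat g *ᵥ (mat g *ᵥ v)) = v := by
  rw [← mulVec_mul, ← mulVec_mul, h3, one_mulVec']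

omit [Fintype F] [CharP F 2] in
theorem proj_mem (h3 : g * g * g = 1) (v : I → F) : proj g v ∈ fixSpace g := by
  rw [mem_fixSpace, proj_apply, Matrix.mulVec_add, Matrix.mulVec_add, pow_three_mulVec h3]
  abel

omit [Fintype F] in
theorem proj_of_fixed {v : I → F} (hv : v ∈ fixSpace g) : proj g v = v := by
  rw [mem_fixSpace] at hv
  rw [proj_apply, hv, hv]
  funext i
  have h2 : (2 : F) = 0 := CharP.ofNat_eq_zero F 2
  simp only [Pi.add_apply]
  linear_combination (v i) * h2

omit [Fintype F] [CharP F 2] in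
theorem sympForm_adjoint (hg : g ∈ Cfsg.spGL 2 F) (h3 : g * g * g = 1) (w y : I → F) :
    Cfsg.sympForm 2 F w (proj g y) = Cfsg.sympForm 2 F (proj g w) y := by
  have a : ∀ u z : I → F, Cfsg.sympForm 2 F (mat g *ᵥ u) (mat g *ᵥ z) = Cfsg.sympForm 2 F u z :=
    fun u z => hg u z
  have e1 : Cfsg.sympForm 2 F w (mat g *ᵥ y) = Cfsg.sympForm 2 F (mat g *ᵥ (mat g *ᵥ w)) y := by
    rw [← a w (mat g *ᵥ y), ← a (mat g *ᵥ w) (mat g *ᵥ (mat g *ᵥ y)), pow_three_mulVec h3]
  have e2 : Cfsg.sympForm 2 F w (mat g *ᵥ (mat g *ᵥ y)) = Cfsg.sympForm 2 F (mat g *ᵥ w) y := by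
    rw [← a w (mat g *ᵥ (mat g *ᵥ y)), pow_three_mulVec h3]
  simp only [proj_apply, ← Classical.sympB_apply, map_add, LinearMap.add_apply]
  simp only [Classical.sympB_apply, e1, e2]
  abel

omit [Fintype F] [CharP F 2] in
theorem eq_zero_of_forall {v : I → F} (h : ∀ y, Cfsg.sympForm 2 F v y = 0) : v = 0 :=
  Classical.sympB_nondeg.1 v fun y => by rw [Classical.sympB_apply]; exact h y

omit [Fintype F] [CharP F 2] in
theorem sympForm_span {u z w : I → F} (hu : u ∈ Submodule.span F {w}) (hz : z ∈ Submodule.span F {w}) :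
    Cfsg.sympForm 2 F u z = 0 := by
  obtain ⟨c, rfl⟩ := Submodule.mem_span_singleton.1 hu
  obtain ⟨d, rfl⟩ := Submodule.mem_span_singleton.1 hz
  rw [← Classical.sympB_apply, map_smul, map_smul, LinearMap.smul_apply, Classical.sympB_apply,
    sympForm_self, smul_zero, smul_zero]

omit [Fintype F] in
/-- A subspace of fixed vectors with a self-adjoint projection is not a line. -/
theorem two_le_finrank {W : Submodule F (I → F)} (π : (I → F) → (I → F)) (hπ : ∀ y, π y ∈ W)
    (hadj : ∀ v ∈ W, ∀ y, Cfsg.sympForm 2 F v (π y) = Cfsg.sympForm 2 F v y) (hW : W ≠ ⊥) :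
    2 ≤ finrank F W := by
  obtain ⟨v, hv, hv0⟩ := (Submodule.ne_bot_iff W).1 hW
  by_contra hlt
  have hle : W ≤ Submodule.span F {v} := by
    refine (Submodule.eq_of_le_of_finrank_le ((Submodule.span_singleton_le_iff_mem _ _).2 hv) ?_).ge
    rw [finrank_span_singleton hv0]
    omega
  refine hv0 (eq_zero_of_forall fun y => ?_)
  rw [← hadj v hv y]
  exact sympForm_span (Submodule.mem_span_singleton_self v) (hle (hπ y))

omit [Fintype F] in
theorem two_le_fix (hg : g ∈ Cfsg.spGL 2 F) (h3 : g * g * g = 1) (hne : fixSpace g ≠ ⊥) :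
    2 ≤ finrank F (fixSpace g) :=
  two_le_finrank (proj g) (proj_mem h3)
    (fun v hv y => by rw [sympForm_adjoint hg h3, proj_of_fixed hv]) hne

omit [Fintype F] in
theorem fix_le_two (hg : g ∈ Cfsg.spGL 2 F) (h3 : g * g * g = 1) (hg1 : g ≠ 1) :
    finrank F (fixSpace g) ≤ 2 := by
  by_contra hlt
  have hr : LinearMap.range (proj g) = fixSpace g :=
    le_antisymm (by rintro _ ⟨y, rfl⟩; exact proj_mem h3 y) fun v hv => ⟨v, proj_of_fixed hv⟩
  have hsum := (proj g).finrank_range_add_finrank_ker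
  rw [hr, Module.finrank_fintype_fun_eq_card] at hsum
  have hI : Fintype.card I = 4 := by simp
  have hk : finrank F (LinearMap.ker (proj g)) ≤ 1 := by omega
  have hk0 : LinearMap.ker (proj g) = ⊥ := by
    rw [Submodule.eq_bot_iff]
    intro w hw
    by_contra hw0
    have hle : LinearMap.ker (proj g) ≤ Submodule.span F {w} := by
      refine (Submodule.eq_of_le_of_finrank_le ((Submodule.span_singleton_le_iff_mem _ _).2 hw) ?_).ge
      rw [finrank_span_singleton hw0]
      exact hk
    refine hw0 (eq_zero_of_forall fun y => ?_)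
    have e1 : y - proj g y ∈ LinearMap.ker (proj g) := by
      rw [LinearMap.mem_ker, map_sub, proj_of_fixed (proj_mem h3 y), sub_self]
    have e2 := sympForm_span (Submodule.mem_span_singleton_self w) (hle e1)
    rw [← Classical.sympB_apply, map_sub, sub_eq_zero, Classical.sympB_apply, Classical.sympB_apply,
      sympForm_adjoint hg h3, LinearMap.mem_ker.1 hw] at e2
    rw [e2, ← Classical.sympB_apply, map_zero, LinearMap.zero_apply]
  apply hg1
  have hfix : ∀ v, mat g *ᵥ v = v := fun v => by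
    have hinj := LinearMap.ker_eq_bot.1 hk0
    apply hinj
    rw [proj_apply, proj_apply, pow_three_mulVec h3]
    abel
  refine Units.ext (Matrix.ext_of_mulVec_single fun i => ?_)
  rw [Units.val_one, Matrix.one_mulVec]
  exact hfix _

omit [Fintype F] in
/-- Of two generators of a nine-group and their product, one is fixed point free. -/
theorem three_elements {e f : GL I F} (he : e ∈ Cfsg.spGL 2 F) (hf : f ∈ Cfsg.spGL 2 F)
    (hc : e * f = f * e) (e3 : e * e * e = 1) (f3 : f * f * f = 1) (e1 : e ≠ 1) (f1 : f ≠ 1)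
    (ef1 : e * f ≠ 1) (hne : e ≠ f) :
    fixSpace e = ⊥ ∨ fixSpace f = ⊥ ∨ fixSpace (e * f) = ⊥ := by
  by_contra hcon
  push Not at hcon
  obtain ⟨h1, h2, h3⟩ := hcon
  have ef3 : e * f * (e * f) * (e * f) = 1 := by
    have hfe : Commute e f := hc
    have : (e * f) ^ 3 = 1 := by rw [hfe.mul_pow, pow_succ, pow_two, pow_succ, pow_two, e3, f3, one_mul]
    rwa [pow_succ, pow_two] at this
  have hcv : ∀ v, mat e *ᵥ (mat f *ᵥ v) = mat f *ᵥ (mat e *ᵥ v) := fun v => by
    rw [← mulVec_mul, hc, mulVec_mul]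
  have stab_e : ∀ v ∈ fixSpace e, mat f *ᵥ v ∈ fixSpace e := fun v hv => by
    rw [mem_fixSpace] at hv ⊢
    rw [hcv, hv]
  have stab_f : ∀ v ∈ fixSpace f, mat e *ᵥ v ∈ fixSpace f := fun v hv => by
    rw [mem_fixSpace] at hv ⊢
    rw [← hcv, hv]
  set W := fixSpace e ⊓ fixSpace f with hW
  by_cases hW0 : W = ⊥
  · have hsum := Submodule.finrank_sup_add_finrank_inf_eq (fixSpace e) (fixSpace f)
    rw [← hW, hW0, finrank_bot, add_zero] at hsum
    have hle : finrank F ↥(fixSpace e ⊔ fixSpace f) ≤ finrank F (I → F) := Submodule.finrank_le _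
    have hI : finrank F (I → F) = 4 := by rw [Module.finrank_fintype_fun_eq_card]; simp
    have := two_le_fix he e3 h1
    have := two_le_fix hf f3 h2
    have htop : fixSpace e ⊔ fixSpace f = ⊤ := Submodule.eq_top_of_finrank_eq (by omega)
    apply h3
    rw [Submodule.eq_bot_iff]
    intro u hu
    obtain ⟨a, ha, b, hb, rfl⟩ := Submodule.mem_sup.1 (htop ▸ Submodule.mem_top : u ∈ fixSpace e ⊔ fixSpace f)
    rw [mem_fixSpace, mulVec_mul, Matrix.mulVec_add, mem_fixSpace.1 hb, Matrix.mulVec_add,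
      mem_fixSpace.1 (stab_e a ha)] at hu
    have hd : mat f *ᵥ a - a = b - mat e *ᵥ b := by
      rw [sub_eq_sub_iff_add_eq_add, hu, add_comm]
    have hmem : mat f *ᵥ a - a ∈ W :=
      ⟨sub_mem (stab_e a ha) ha, by rw [SetLike.mem_coe, hd]; exact sub_mem hb (stab_f b hb)⟩
    rw [hW0, Submodule.mem_bot] at hmem
    have haW : a ∈ W := ⟨ha, mem_fixSpace.2 (sub_eq_zero.1 hmem)⟩
    have hbW : b ∈ W := ⟨mem_fixSpace.2 (sub_eq_zero.1 (hd.symm.trans hmem)).symm, hb⟩
    rw [hW0, Submodule.mem_bot] at haW hbW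
    rw [haW, hbW, add_zero]
  · have hπ : ∀ y, proj e (proj f y) ∈ W := fun y => by
      refine ⟨proj_mem e3 _, ?_⟩
      rw [SetLike.mem_coe, mem_fixSpace, proj_apply e (proj f y)]
      simp only [Matrix.mulVec_add, ← hcv, mem_fixSpace.1 (proj_mem f3 y)]
    have h2W : 2 ≤ finrank F W := two_le_finrank (fun y => proj e (proj f y)) hπ
      (fun v hv y => by
        rw [sympForm_adjoint he e3, proj_of_fixed hv.1, sympForm_adjoint hf f3, proj_of_fixed hv.2]) hW0
    have hWef : W ≤ fixSpace (e * f) := fun v hv => by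
      rw [mem_fixSpace, mulVec_mul, mem_fixSpace.1 hv.2, mem_fixSpace.1 hv.1]
    have eqe : W = fixSpace e :=
      Submodule.eq_of_le_of_finrank_le inf_le_left ((fix_le_two he e3 e1).trans h2W)
    have eqf : W = fixSpace f :=
      Submodule.eq_of_le_of_finrank_le inf_le_right ((fix_le_two hf f3 f1).trans h2W)
    have eqef : W = fixSpace (e * f) :=
      Submodule.eq_of_le_of_finrank_le hWef ((fix_le_two (mul_mem he hf) ef3 ef1).trans h2W)
    have same : ∀ {g h : GL I F}, g * g * g = 1 → h * h * h = 1 → g * h = h * g →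
        fixSpace g = fixSpace h → mat g + mat (g * g) = mat h + mat (h * h) := by
      intro g h g3 h3' hgh hfix
      have hp : proj g = proj h := by
        refine LinearMap.ext fun y => ?_
        have a : proj g (proj h y) = proj h y := proj_of_fixed (hfix ▸ proj_mem h3' y)
        have b : proj h (proj g y) = proj g y := proj_of_fixed (hfix.symm ▸ proj_mem g3 y)
        rw [← a, ← b]
        have hv : ∀ v, mat g *ᵥ (mat h *ᵥ v) = mat h *ᵥ (mat g *ᵥ v) := fun v => by
          rw [← mulVec_mul, hgh, mulVec_mul]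
        simp only [proj_apply, Matrix.mulVec_add, hv]
        abel
      have := Matrix.toLin'.injective hp
      rwa [add_assoc, add_assoc, add_right_inj] at this
    have A := same e3 f3 hc (eqe.symm.trans eqf)
    have h22 : (2 : Matrix I I F) = 0 := by
      rw [← map_ofNat (algebraMap F (Matrix I I F)) 2, CharP.ofNat_eq_zero F 2, map_zero]
    have B := same e3 ef3 (by rw [mul_assoc e f e, ← hc]) (eqe.symm.trans eqef)
    have h11 : (1 : Matrix I I F) + 1 = 0 := one_add_one_eq_two.trans h22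
    -- the product of the two sums
    have hsq : (mat e + mat (e * e)) * (mat e + mat (e * e)) = mat e + mat (e * e) := by
      simp only [mat_mul_gl, add_mul, mul_add]
      have h3m : mat e * mat e * mat e = 1 := by rw [← mat_mul_gl, ← mat_mul_gl, e3]; exact Units.val_one
      calc mat e * mat e + mat e * mat e * mat e + (mat e * (mat e * mat e) + mat e * mat e * (mat e * mat e))
          = mat e * mat e + 1 + (1 + mat e) := by
            rw [← mul_assoc (mat e) (mat e) (mat e), ← mul_assoc (mat e * mat e) (mat e) (mat e), h3m, one_mul]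
        _ = mat e + mat e * mat e + (1 + 1) := by abel
        _ = mat e + mat e * mat e := by rw [h11, add_zero]
    have hprod : mat (e * f) + mat (e * (f * f)) + (mat (e * e * f) + mat (e * e * (f * f))) =
        mat e + mat (e * e) := by
      conv_rhs => rw [← hsq]
      conv_rhs => arg 2; rw [A]
      simp only [mat_mul_gl, add_mul, mul_add]
      abel
    have hsq' : e * f * (e * f) = e * e * (f * f) := by
      rw [mul_assoc, ← mul_assoc f e f, ← hc]; group
    rw [hsq'] at B
    have h0 : mat (e * (f * f)) + mat (e * e * f) = 0 := by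
      rw [B] at hprod
      calc mat (e * (f * f)) + mat (e * e * f)
          = (mat (e * f) + mat (e * (f * f)) + (mat (e * e * f) + mat (e * e * (f * f)))) -
              (mat (e * f) + mat (e * e * (f * f))) := by abel
        _ = 0 := by rw [hprod, sub_self]
    have heq : e * (f * f) = e * e * f := by
      refine Units.ext ?_
      show mat (e * (f * f)) = mat (e * e * f)
      calc mat (e * (f * f)) = mat (e * (f * f)) + 2 * mat (e * e * f) := by rw [h22, zero_mul, add_zero]
        _ = (mat (e * (f * f)) + mat (e * e * f)) + mat (e * e * f) := by rw [two_mul, add_assoc]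
        _ = mat (e * e * f) := by rw [h0, zero_add]
    apply hne
    have := mul_left_cancel (heq.trans (mul_assoc e e f))
    exact (mul_right_cancel this).symm

end Three

section Orbit

variable [CharP F 2] {G : Type*} [Group G]

/-- The six point orbit argument: five-elements are fixed point free when the three-elements are. -/
theorem five_fixed_free (φ : G →* GL I F) {x t b₁ b₂ d : G} (ht : t * t = 1) (hxt : x * t = t * x⁻¹)
    (hd : d = t ∨ d = t * x) (hb : b₂ = b₁ * d) (hb₁ : b₁ * b₁ * b₁ = 1) (hb₂ : b₂ * b₂ * b₂ = 1)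
    (f₁ : fixSpace (φ b₁) = ⊥) (f₂ : fixSpace (φ b₂) = ⊥)
    (fc : fixSpace (φ (x * (b₁ * b₂ * b₂))) = ⊥) : fixSpace (φ x) = ⊥ := by
  rw [Submodule.eq_bot_iff]
  by_contra hcon
  push Not at hcon
  obtain ⟨w, hw, hw0⟩ := hcon
  rw [mem_fixSpace] at hw
  have hm : ∀ a b v, mat (φ (a * b)) *ᵥ v = mat (φ a) *ᵥ (mat (φ b) *ᵥ v) := fun a b v => by
    rw [map_mul, mulVec_mul]
  have h1 : ∀ v, mat (φ 1) *ᵥ v = v := fun v => by rw [map_one, one_mulVec']
  have hxi : mat (φ x⁻¹) *ᵥ w = w := by
    conv_lhs => rw [← hw, ← hm, inv_mul_cancel, h1]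
  have hxtw : mat (φ x) *ᵥ (mat (φ t) *ᵥ w) = mat (φ t) *ᵥ w := by rw [← hm, hxt, hm, hxi]
  obtain ⟨v, hv0, hvx, hvt⟩ : ∃ v, v ≠ 0 ∧ mat (φ x) *ᵥ v = v ∧ mat (φ t) *ᵥ v = v := by
    by_cases h : w + mat (φ t) *ᵥ w = 0
    · refine ⟨w, hw0, hw, ?_⟩
      funext i
      have := congrFun h i
      have h2 : (2 : F) = 0 := CharP.ofNat_eq_zero F 2
      simp only [Pi.add_apply, Pi.zero_apply] at this
      linear_combination this - (w i) * h2
    · refine ⟨_, h, by rw [Matrix.mulVec_add, hw, hxtw], ?_⟩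
      rw [Matrix.mulVec_add, ← hm, ht, h1, add_comm]
  have hvd : mat (φ d) *ᵥ v = v := by
    rcases hd with rfl | rfl
    · exact hvt
    · rw [hm, hvx, hvt]
  have key : ∀ b : G, b * b * b = 1 → fixSpace (φ b) = ⊥ →
      v + mat (φ b) *ᵥ v + mat (φ b) *ᵥ (mat (φ b) *ᵥ v) = 0 := fun b hb3 hfb => by
    have := proj_mem (g := φ b) (by rw [← map_mul, ← map_mul, hb3, map_one]) v
    rw [hfb, Submodule.mem_bot, proj_apply] at this
    exact this
  have e12 : mat (φ b₂) *ᵥ v = mat (φ b₁) *ᵥ v := by rw [hb, hm, hvd]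
  have hsq : mat (φ b₂) *ᵥ (mat (φ b₂) *ᵥ v) = mat (φ b₁) *ᵥ (mat (φ b₁) *ᵥ v) := by
    have k1 := key b₁ hb₁ f₁
    have k2 := key b₂ hb₂ f₂
    rw [e12] at k2
    rw [e12]
    exact add_left_cancel (k2.trans k1.symm)
  have hh : mat (φ (b₁ * b₂ * b₂)) *ᵥ v = v := by
    rw [hm, hm, hsq, ← hm, ← hm, hb₁, h1]
  have : v ∈ fixSpace (φ (x * (b₁ * b₂ * b₂))) := by rw [mem_fixSpace, hm, hh, hvx]
  rw [fc, Submodule.mem_bot] at this
  exact hv0 this

omit [CharP F 2] in
theorem fix_conj (φ : G →* GL I F) {b : G} (hb : fixSpace (φ b) = ⊥) (c : G) :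
    fixSpace (φ (c * b * c⁻¹)) = ⊥ := by
  rw [Submodule.eq_bot_iff] at hb ⊢
  intro v hv
  rw [mem_fixSpace] at hv
  have h0 := hb (mat (φ c⁻¹) *ᵥ v) (by
    rw [mem_fixSpace]
    conv_rhs => rw [← hv]
    rw [← mulVec_mul, ← mulVec_mul, ← map_mul, ← map_mul]
    congr 3
    group)
  have := congrArg (fun u => mat (φ c) *ᵥ u) h0
  simpa [← mulVec_mul, ← map_mul, one_mulVec', Matrix.mulVec_zero] using this

end Orbit

section Alt

/-- An element of the alternating group of degree six. -/
abbrev A (s : Equiv.Perm (Fin 6)) (h : Equiv.Perm.sign s = 1 := by decide +kernel) :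
    alternatingGroup (Fin 6) := ⟨s, Equiv.Perm.mem_alternatingGroup.2 h⟩

abbrev x5 : alternatingGroup (Fin 6) := A c[0, 1, 2, 3, 4]
abbrev t2 : alternatingGroup (Fin 6) := A (c[1, 4] * c[2, 3])
abbrev e3 : alternatingGroup (Fin 6) := A c[0, 1, 2]
abbrev f3 : alternatingGroup (Fin 6) := A c[3, 4, 5]

variable [Fintype F] [CharP F 2]

theorem fix_five (φ : alternatingGroup (Fin 6) →* GL I F) (hinj : Function.Injective φ)
    (hsp : ∀ g, φ g ∈ Cfsg.spGL 2 F) : fixSpace (φ x5) = ⊥ := by
  have case1 : fixSpace (φ e3) = ⊥ → fixSpace (φ x5) = ⊥ := fun h => by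
    refine five_fixed_free φ (t := t2) (b₁ := A c[2, 3, 4]) (b₂ := A c[1, 2, 4]) (d := t2)
      (by decide +kernel) (by decide +kernel) (Or.inl rfl) (by decide +kernel) (by decide +kernel) (by decide +kernel) ?_ ?_ ?_
    · convert fix_conj φ h (A (c[0, 3] * c[1, 4])) using 3; decide +kernel
    · convert fix_conj φ h (A c[0, 4, 3]) using 3; decide +kernel
    · convert fix_conj φ h (A c[2, 3, 4]) using 3; decide +kernel
  have case2 : fixSpace (φ (e3 * f3)) = ⊥ → fixSpace (φ x5) = ⊥ := fun h => by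
    refine five_fixed_free φ (t := t2) (b₁ := A (c[0, 1, 2] * c[3, 5, 4])) (b₂ := A (c[0, 3, 2] * c[1, 5, 4]))
      (d := t2 * x5)
      (by decide +kernel) (by decide +kernel) (Or.inr rfl) (by decide +kernel) (by decide +kernel) (by decide +kernel) ?_ ?_ ?_
    · convert fix_conj φ h (A (c[0, 3] * c[1, 5, 2, 4])) using 3; decide +kernel
    · convert fix_conj φ h (A c[1, 3, 4]) using 3; decide +kernel
    · convert fix_conj φ h (A (c[0, 5] * c[1, 3])) using 3; decide +kernel
  have hne : ∀ {g h : alternatingGroup (Fin 6)}, g ≠ h → φ g ≠ φ h := fun hgh e => hgh (hinj e)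
  have h1 : ∀ {g : alternatingGroup (Fin 6)}, g ≠ 1 → φ g ≠ 1 := fun hg e => hg (hinj (e.trans φ.map_one.symm))
  rcases three_elements (hsp e3) (hsp f3)
    (by rw [← map_mul, ← map_mul]; exact congrArg φ (by decide +kernel))
    (by rw [← map_mul, ← map_mul, ← map_one φ]; exact congrArg φ (by decide +kernel))
    (by rw [← map_mul, ← map_mul, ← map_one φ]; exact congrArg φ (by decide +kernel))
    (h1 (by decide +kernel)) (h1 (by decide +kernel))
    (by rw [← map_mul]; exact h1 (by decide +kernel)) (hne (by decide +kernel)) with h | h | h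
  · exact case1 h
  · refine case1 ?_
    convert fix_conj φ h (A (c[0, 3] * c[1, 4, 2, 5]))⁻¹ using 3
    decide +kernel
  · exact case2 (by rwa [map_mul])

omit [Fintype F] [CharP F 2] in
theorem conj_five {g : alternatingGroup (Fin 6)} (hg : g ^ 5 = 1) (hg1 : g ≠ 1) :
    ∃ (c : alternatingGroup (Fin 6)) (k : ℤ), c * x5 * c⁻¹ = g ^ k := by
  haveI : Fact (Nat.Prime 5) := ⟨by norm_num⟩
  have hA : Nat.card (alternatingGroup (Fin 6)) = 360 := by
    rw [nat_card_alternatingGroup, Nat.card_eq_fintype_card, Fintype.card_fin]; decide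
  have hf : (Nat.card (alternatingGroup (Fin 6))).factorization 5 = 1 := by
    rw [hA, show 360 = 5 * 72 by norm_num, Nat.factorization_mul (by norm_num) (by norm_num),
      Finsupp.add_apply, Nat.Prime.factorization_self (by norm_num),
      Nat.factorization_eq_zero_of_not_dvd (by norm_num)]
  have hc : ∀ a : alternatingGroup (Fin 6), a ^ 5 = 1 → a ≠ 1 →
      Nat.card (Subgroup.zpowers a) = 5 ^ (Nat.card (alternatingGroup (Fin 6))).factorization 5 := fun a h h' => by
    rw [hf, pow_one, Nat.card_zpowers, orderOf_eq_prime h h']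
  let P := Sylow.ofCard _ (hc g hg hg1)
  let Q := Sylow.ofCard (Subgroup.zpowers x5) (hc x5 (by decide +kernel) (by decide +kernel))
  obtain ⟨c, hcQ⟩ := MulAction.exists_smul_eq (alternatingGroup (Fin 6)) Q P
  have hmem : c * x5 * c⁻¹ ∈ (P : Subgroup (alternatingGroup (Fin 6))) := by
    rw [← hcQ, Sylow.coe_subgroup_smul]
    exact ⟨x5, Subgroup.mem_zpowers x5, rfl⟩
  obtain ⟨k, hk⟩ := Subgroup.mem_zpowers_iff.1 hmem
  exact ⟨c, k, hk.symm⟩

omit [Fintype F] [CharP F 2] in
theorem alt_six_pow : ∀ g : alternatingGroup (Fin 6),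
    g * g * (g * g) = 1 ∨ g * g * g = 1 ∨ g * g * (g * g) * g = 1 := by decide +kernel

omit [Fintype F] in
theorem trace_sq (M : Matrix I I F) : (M * M).trace = M.trace ^ 2 := by
  have h2 : (2 : F) = 0 := CharP.ofNat_eq_zero F 2
  simp only [Matrix.trace, Matrix.diag_apply, Matrix.mul_apply, Fintype.sum_sum_type, Fin.sum_univ_two]
  linear_combination (M (Sum.inl 0) (Sum.inl 1) * M (Sum.inl 1) (Sum.inl 0) + M (Sum.inl 0) (Sum.inr 0) * M (Sum.inr 0) (Sum.inl 0) + M (Sum.inl 0) (Sum.inr 1) * M (Sum.inr 1) (Sum.inl 0) + M (Sum.inl 1) (Sum.inr 0) * M (Sum.inr 0) (Sum.inl 1) + M (Sum.inl 1) (Sum.inr 1) * M (Sum.inr 1) (Sum.inl 1) + M (Sum.inr 0) (Sum.inr 1) * M (Sum.inr 1) (Sum.inr 0)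
    - M (Sum.inl 0) (Sum.inl 0) * M (Sum.inl 1) (Sum.inl 1) - M (Sum.inl 0) (Sum.inl 0) * M (Sum.inr 0) (Sum.inr 0) - M (Sum.inl 0) (Sum.inl 0) * M (Sum.inr 1) (Sum.inr 1) - M (Sum.inl 1) (Sum.inl 1) * M (Sum.inr 0) (Sum.inr 0) - M (Sum.inl 1) (Sum.inl 1) * M (Sum.inr 1) (Sum.inr 1) - M (Sum.inr 0) (Sum.inr 0) * M (Sum.inr 1) (Sum.inr 1)) * h2

omit [Fintype F] in
/-- In characteristic two the trace of a fixed point free five-element is a root of `X² + X`. -/
theorem trace_five {g : GL I F} (hg : g ∈ Cfsg.spGL 2 F) (h5 : g ^ 5 = 1) (hfix : fixSpace g = ⊥) :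
    (mat g).trace ^ 2 = (mat g).trace := by
  have h2 : (2 : F) = 0 := CharP.ofNat_eq_zero F 2
  set M := mat g with hM
  have hsum : 1 + M + mat (g ^ 2) + mat (g ^ 3) + mat (g ^ 4) = 0 := by
    apply Matrix.ext_of_mulVec_single
    intro i
    rw [Matrix.zero_mulVec]
    rw [← Submodule.mem_bot F, ← hfix, mem_fixSpace]
    simp only [Matrix.add_mulVec, Matrix.mulVec_add, Matrix.one_mulVec, hM]
    rw [← mulVec_mul g g, ← mulVec_mul g (g ^ 2), ← mulVec_mul g (g ^ 3), ← mulVec_mul g (g ^ 4)]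
    rw [← pow_two, ← pow_succ', ← pow_succ', ← pow_succ', h5, one_mulVec']
    abel
  have h4 : g⁻¹ = g ^ 4 := inv_eq_of_mul_eq_one_right (by rw [← pow_succ']; exact h5)
  have h3 : (g ^ 2)⁻¹ = g ^ 3 := inv_eq_of_mul_eq_one_right (by rw [← pow_add]; exact h5)
  have ht := trace_eq_half hg
  have ht2 := trace_eq_half (pow_mem hg 2)
  rw [h4] at ht
  rw [h3] at ht2
  have hsq : (mat (g ^ 2)).trace = M.trace ^ 2 := by rw [pow_two, mat_mul_gl, trace_sq]
  have hd : ∀ i : Fin 2, (1 : F) + M (Sum.inl i) (Sum.inl i) + mat (g ^ 2) (Sum.inl i) (Sum.inl i) +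
      mat (g ^ 3) (Sum.inl i) (Sum.inl i) + mat (g ^ 4) (Sum.inl i) (Sum.inl i) = 0 := fun i => by
    simpa using congrFun (congrFun hsum (Sum.inl i)) (Sum.inl i)
  simp only [Fin.sum_univ_two, ← hM] at ht ht2
  linear_combination (-1 : F) * hsq + ht2 + ht + hd 0 + hd 1 - (M.trace + 1) * h2

omit [Fintype F] in
theorem trace_three {g : GL I F} (hg : g ∈ Cfsg.spGL 2 F) (h3 : g * g * g = 1) :
    (mat g).trace ^ 2 = (mat g).trace := by
  have hi : g⁻¹ = g * g := inv_eq_of_mul_eq_one_right (by rw [← mul_assoc]; exact h3)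
  rw [← trace_sq, ← mat_mul_gl, ← hi, mat_inv hg, Matrix.mul_assoc, Matrix.trace_mul_comm, Matrix.mul_assoc,
    Matrix.mul_neg, Matrix.J_squared, neg_neg, Matrix.mul_one, Matrix.trace_transpose]

omit [Fintype F] in
theorem trace_four {g : GL I F} (h4 : g * g * (g * g) = 1) : (mat g).trace = 0 := by
  haveI : CharP (Matrix I I F) 2 :=
    charP_of_injective_algebraMap (algebraMap F (Matrix I I F)).injective 2
  have hn : IsNilpotent (mat g - 1) := by
    refine ⟨2 ^ 2, ?_⟩
    rw [sub_pow_char_pow_of_commute _ _ (Commute.one_right _), one_pow]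
    show mat g ^ 4 - 1 = 0
    rw [show (4 : ℕ) = 2 + 2 by rfl, pow_add, pow_two, ← mat_mul_gl, ← mat_mul_gl, h4, sub_eq_zero]
    exact Units.val_one
  have h2 : (2 : F) = 0 := CharP.ofNat_eq_zero F 2
  have := (Matrix.isNilpotent_trace_of_isNilpotent hn).eq_zero
  rw [Matrix.trace_sub, Matrix.trace_one] at this
  simp at this
  linear_combination this + 2 * h2

/-- `A₆` in `Sp₄(q)`, `q ≥ 4` even, is realisable over the prime field. -/
theorem alt_six_traces (φ : alternatingGroup (Fin 6) →* GL I F) (hinj : Function.Injective φ)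
    (hsp : ∀ g, φ g ∈ Cfsg.spGL 2 F) (g : alternatingGroup (Fin 6)) :
    (mat (φ g)).trace ^ 2 = (mat (φ g)).trace := by
  rcases alt_six_pow g with h | h | h
  · rw [trace_four (by simp only [← map_mul]; rw [h, map_one])]; ring
  · exact trace_three (hsp g) (by simp only [← map_mul]; rw [h, map_one])
  · by_cases h1 : g = 1
    · subst h1
      rw [map_one]
      exact trace_three (one_mem _) (by group)
    have h5 : g ^ 5 = 1 := by simpa [pow_succ, mul_assoc] using h
    refine trace_five (hsp g) (by rw [← map_pow, h5, map_one]) ?_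
    obtain ⟨c, k, hk⟩ := conj_five h5 h1
    have hx := fix_conj φ (fix_five φ hinj hsp) c
    rw [hk, Submodule.eq_bot_iff] at hx
    rw [Submodule.eq_bot_iff]
    intro v hv
    refine hx v ?_
    rw [mem_fixSpace] at hv ⊢
    have hiv : mat (φ g)⁻¹ *ᵥ v = v := by
      conv_lhs => rw [← hv, ← mulVec_mul, inv_mul_cancel, one_mulVec']
    rw [map_zpow]
    clear hk hx
    induction k using Int.induction_on with
    | zero => rw [zpow_zero, one_mulVec']
    | succ i ih => rw [_root_.zpow_add_one, mulVec_mul, hv, ih]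
    | pred i ih => rw [_root_.zpow_sub_one, mulVec_mul, hiv, ih]

end Alt

section Spectrum

/-- An element of odd prime order has at most four eigenvalues. -/
theorem too_many_conjugates [CharP F 2] {p : ℕ} [hp : Fact p.Prime] (hp2 : p ≠ 2) {x : GL I F}
    (hxp : x ^ p = 1) (hx1 : x ≠ 1) (f : Fin 5 → ℕ) (hinj : Function.Injective fun i => (f i : ZMod p))
    (hcp : ∀ i, (mat (x ^ f i)).charpoly = (mat x).charpoly) : False := by
  classical
  let L := AlgebraicClosure F
  let ι : F →+* L := algebraMap F L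
  let M : Matrix I I L := (mat x).map ι
  have hMp : M ^ p = 1 := by
    show ((mat x).map ι) ^ p = 1
    rw [← RingHom.mapMatrix_apply, ← map_pow]
    show ι.mapMatrix ((x : Matrix I I F) ^ p) = 1
    rw [← Units.val_pow_eq_pow_val, hxp, Units.val_one, map_one]
  have hdeg : M.charpoly.natDegree = 4 := by rw [Matrix.charpoly_natDegree_eq_dim]; simp
  have hmon := Matrix.charpoly_monic M
  obtain ⟨z, hz, hz1⟩ : ∃ z, z ∈ M.charpoly.roots ∧ z ≠ 1 := by
    by_contra hcon
    push Not at hcon
    have hs : M.charpoly.Splits := IsAlgClosed.splits _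
    have hcard : M.charpoly.roots.card = 4 := by rw [← hs.natDegree_eq_card_roots, hdeg]
    have hrep : M.charpoly.roots = Multiset.replicate 4 1 :=
      Multiset.eq_replicate.2 ⟨hcard, hcon⟩
    have hpoly : M.charpoly = (Polynomial.X - Polynomial.C 1) ^ 4 := by
      rw [hs.eq_prod_roots_of_monic hmon, hrep, Multiset.map_replicate, Multiset.prod_replicate]
    have h4 := Matrix.aeval_self_charpoly M
    rw [hpoly, map_pow, map_sub, Polynomial.aeval_X, Polynomial.aeval_C, map_one] at h4
    haveI : CharP L 2 := charP_of_injective_ringHom ι.injective 2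
    haveI : CharP (Matrix I I L) 2 :=
      charP_of_injective_algebraMap (algebraMap L (Matrix I I L)).injective 2
    rw [show (4 : ℕ) = 2 ^ 2 by rfl, sub_pow_char_pow_of_commute _ _ (Commute.one_right _), one_pow,
      sub_eq_zero] at h4
    have hodd : Nat.Coprime (2 ^ 2) p :=
      Nat.Coprime.pow_left _ ((Nat.coprime_primes Nat.prime_two hp.out).2 (Ne.symm hp2))
    have hM1 : M = 1 := by
      have := (pow_gcd_eq_one (a := M)).2 ⟨h4, hMp⟩
      rwa [Nat.Coprime.gcd_eq_one hodd, pow_one] at this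
    refine hx1 (Units.ext ?_)
    refine Matrix.map_injective ι.injective ?_
    show (mat x).map ι = (1 : Matrix I I F).map ι
    rw [Matrix.map_one _ ι.map_zero ι.map_one]
    exact hM1
  have hzspec : z ∈ spectrum L M := Matrix.mem_spectrum_iff_isRoot_charpoly.2 (Polynomial.isRoot_of_mem_roots hz)
  have hmem : ∀ i, z ^ f i ∈ M.charpoly.roots := fun i => by
    have h1 := Matrix.mem_spectrum_iff_isRoot_charpoly.1 (spectrum.pow_mem_pow M (f i) hzspec)
    have h2 : (M ^ f i).charpoly = M.charpoly := by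
      show ((mat x).map ι ^ f i).charpoly = ((mat x).map ι).charpoly
      rw [← RingHom.mapMatrix_apply, ← map_pow, RingHom.mapMatrix_apply, Matrix.charpoly_map,
        RingHom.mapMatrix_apply, Matrix.charpoly_map, ← hcp i]
      congr 2
    rw [h2] at h1
    exact (Polynomial.mem_roots hmon.ne_zero).2 h1
  have hzp : z ^ p = 1 := by
    have := spectrum.pow_mem_pow M p hzspec
    rw [hMp, spectrum.one_eq, Set.mem_singleton_iff] at this
    exact this
  have hzo : orderOf z = p := orderOf_eq_prime hzp hz1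
  have hz0 : IsOfFinOrder z := isOfFinOrder_iff_pow_eq_one.2 ⟨p, hp.out.pos, hzp⟩
  have hinj' : Function.Injective fun i => z ^ f i := fun i j hij => by
    refine hinj ?_
    have := hz0.pow_eq_pow_iff_modEq.1 hij
    rw [hzo] at this
    exact (ZMod.natCast_eq_natCast_iff _ _ _).2 this
  have h5 : Finset.univ.image (fun i => z ^ f i) ⊆ M.charpoly.roots.toFinset := fun y hy => by
    obtain ⟨i, -, rfl⟩ := Finset.mem_image.1 hy
    exact Multiset.mem_toFinset.2 (hmem i)
  have := (Finset.card_le_card h5).trans ((Multiset.toFinset_card_le _).trans (Polynomial.card_roots' _))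
  rw [Finset.card_image_of_injective _ hinj', Finset.card_univ, Fintype.card_fin, hdeg] at this
  omega

end Spectrum

theorem injective_seven_a : Function.Injective fun i : Fin 5 => ((![1, 4, 9, 6, 24] i : ℕ) : ZMod 7) := by
  decide

theorem injective_seven_b : Function.Injective fun i : Fin 5 => ((![1, 2, 4, 5, 6] i : ℕ) : ZMod 7) := by
  decide

variable [Fintype F] [CharP F 2] {P : Subgroup (GL I F)}

omit [Fintype F] in
theorem not_psl_prime (hP : Core P) {K : Type*} [Field K] [Fintype K] (hp : (Fintype.card K).Prime)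
    (h7 : 7 ≤ Fintype.card K) : IsEmpty (P ≃* Matrix.ProjectiveSpecialLinearGroup (Fin 2) K) := by
  classical
  refine ⟨fun e => ?_⟩
  set p := Fintype.card K with hpdef
  haveI : Fact p.Prime := ⟨hp⟩
  haveI : CharP K p := charP_of_card_eq_prime hpdef.symm
  let ψ : Matrix.SpecialLinearGroup (Fin 2) K →* GL I F :=
    P.subtype.comp (e.symm.toMonoidHom.comp (QuotientGroup.mk' _))
  let u : K → Matrix.SpecialLinearGroup (Fin 2) K := fun c =>
    ⟨!![1, c; 0, 1], by simp [Matrix.det_fin_two]⟩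
  have upow : ∀ k : ℕ, u 1 ^ k = u (k : K) := by
    intro k
    induction k with
    | zero => rw [pow_zero]; apply Subtype.ext; simp [u, Matrix.one_fin_two]
    | succ k ih =>
      rw [pow_succ, ih]
      apply Subtype.ext
      rw [Matrix.SpecialLinearGroup.coe_mul]
      simp [u, Matrix.mul_fin_two, add_comm]
  set x := ψ (u 1) with hx
  have hxp : x ^ p = 1 := by
    rw [hx, ← map_pow, upow, CharP.cast_eq_zero, show u 0 = 1 from Subtype.ext (by simp [u, ← Matrix.one_fin_two]), map_one]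
  have hx1 : x ≠ 1 := by
    intro h
    have h' : QuotientGroup.mk' (Subgroup.center (Matrix.SpecialLinearGroup (Fin 2) K)) (u 1) = 1 := by
      refine e.symm.injective ?_
      refine Subtype.ext ?_
      rw [map_one e.symm]
      exact h
    rw [QuotientGroup.mk'_apply, QuotientGroup.eq_one_iff, Matrix.SpecialLinearGroup.mem_center_iff] at h'
    obtain ⟨r, -, hr⟩ := h'
    have := congrFun (congrFun hr 0) 1
    simp [u] at this
  have hsp : ∀ g, ψ g ∈ Cfsg.spGL 2 F := fun g => hP.le (e.symm _).2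
  have hsq : ∀ a : ℕ, ¬ p ∣ a → (mat (x ^ (a * a))).charpoly = (mat x).charpoly := by
    intro a ha
    have ha0 : (a : K) ≠ 0 := fun h => ha ((CharP.cast_eq_zero_iff K p a).1 h)
    let d : Matrix.SpecialLinearGroup (Fin 2) K :=
      ⟨!![(a : K), 0; 0, (a : K)⁻¹], by simp [Matrix.det_fin_two, ha0]⟩
    have hd : d * u 1 * d⁻¹ = u 1 ^ (a * a) := by
      rw [mul_inv_eq_iff_eq_mul, upow]
      apply Subtype.ext
      rw [Matrix.SpecialLinearGroup.coe_mul, Matrix.SpecialLinearGroup.coe_mul]
      simp [d, u, Matrix.mul_fin_two, ha0]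
    rw [hx, ← map_pow, ← hd, map_mul, map_mul, map_inv, charpoly_conj]
  have hneg : ∀ a : ℕ, ¬ p ∣ a → (mat (x ^ ((p - 1) * (a * a)))).charpoly = (mat x).charpoly := by
    intro a ha
    have hi : x ^ ((p - 1) * (a * a)) = (x ^ (a * a))⁻¹ := by
      refine eq_inv_of_mul_eq_one_left ?_
      rw [← pow_add, ← Nat.succ_mul, Nat.succ_eq_add_one, Nat.sub_add_cancel hp.one_le, pow_mul, hxp, one_pow]
    rw [hi, charpoly_inv (pow_mem (hsp _) _), hsq a ha]
  have hnd : ∀ a : ℕ, 1 ≤ a → a < p → ¬ p ∣ a := fun a h1 h2 hd =>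
    absurd (Nat.le_of_dvd (by omega) hd) (by omega)
  by_cases h11 : 11 ≤ p
  · refine too_many_conjugates (p := p) (by omega) hxp hx1 (fun i => (i.val + 1) * (i.val + 1)) ?_
      fun i => hsq _ (hnd _ (by omega) (by omega))
    intro i j hij
    simp only [Nat.cast_mul] at hij
    rcases mul_self_eq_mul_self_iff.1 hij with h | h
    · rw [ZMod.natCast_eq_natCast_iff, Nat.ModEq, Nat.mod_eq_of_lt (by omega), Nat.mod_eq_of_lt (by omega)] at h
      exact Fin.ext (by omega)
    · rw [eq_neg_iff_add_eq_zero, ← Nat.cast_add, ZMod.natCast_eq_zero_iff] at h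
      exact absurd h (hnd _ (by omega) (by omega))
  · have h7' : p = 7 := by
      interval_cases p <;> first | rfl | (norm_num at hp)
    haveI : Fact (Nat.Prime 7) := ⟨by norm_num⟩
    have hx7 : x ^ 7 = 1 := by rw [← h7']; exact hxp
    refine too_many_conjugates (p := 7) (by norm_num) hx7 hx1 ![1, 4, 9, 6, 24] injective_seven_a fun i => ?_
    fin_cases i
    · exact hsq 1 (hnd _ (by omega) (by omega))
    · exact hsq 2 (hnd _ (by omega) (by omega))
    · exact hsq 3 (hnd _ (by omega) (by omega))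
    · have := hneg 1 (hnd _ (by omega) (by omega))
      rw [h7'] at this
      exact this
    · have := hneg 2 (hnd _ (by omega) (by omega))
      rw [h7'] at this
      exact this

omit [Fintype F] in
theorem not_psl_three_four (hP : Core P) {K : Type*} [Field K] [Fintype K] (hK : Fintype.card K = 4) :
    IsEmpty (P ≃* Matrix.ProjectiveSpecialLinearGroup (Fin 3) K) := by
  classical
  refine ⟨fun e => ?_⟩
  haveI : Fact (Nat.Prime 7) := ⟨by norm_num⟩
  haveI : CharP K 2 := charP_of_card_eq_prime_pow (f := 2) (by rw [hK]; norm_num)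
  let C₀ : Matrix.SpecialLinearGroup (Fin 3) (ZMod 2) := ⟨!![0, 0, 1; 1, 0, 1; 0, 1, 0], by decide⟩
  let g₀ : Matrix.SpecialLinearGroup (Fin 3) (ZMod 2) := ⟨!![1, 0, 0; 0, 0, 1; 0, 1, 1], by decide⟩
  let ψ : Matrix.SpecialLinearGroup (Fin 3) (ZMod 2) →* GL I F :=
    (P.subtype.comp (e.symm.toMonoidHom.comp (QuotientGroup.mk' _))).comp
      (Matrix.SpecialLinearGroup.map (ZMod.castHom dvd_rfl K))
  set x := ψ C₀ with hx
  have hx7 : x ^ 7 = 1 := by
    rw [hx, ← map_pow, show C₀ ^ 7 = 1 by decide +kernel, map_one]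
  have hx1 : x ≠ 1 := by
    intro h
    have h' : QuotientGroup.mk' (Subgroup.center (Matrix.SpecialLinearGroup (Fin 3) K))
        (Matrix.SpecialLinearGroup.map (ZMod.castHom dvd_rfl K) C₀) = 1 := by
      refine e.symm.injective ?_
      refine Subtype.ext ?_
      rw [map_one e.symm]
      exact h
    rw [QuotientGroup.mk'_apply, QuotientGroup.eq_one_iff, Matrix.SpecialLinearGroup.mem_center_iff] at h'
    obtain ⟨r, -, hr⟩ := h'
    have e0 : ((Matrix.SpecialLinearGroup.map (ZMod.castHom dvd_rfl K) C₀ :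
        Matrix.SpecialLinearGroup (Fin 3) K) : Matrix (Fin 3) (Fin 3) K) 1 0 = 1 :=
      map_one (ZMod.castHom dvd_rfl K : ZMod 2 →+* K)
    have := congrFun (congrFun hr 1) 0
    rw [e0] at this
    simp at this
  have hsp : x ∈ Cfsg.spGL 2 F := hP.le (e.symm _).2
  have h2 : (mat (x ^ 2)).charpoly = (mat x).charpoly := by
    rw [hx, ← map_pow, show C₀ ^ 2 = g₀ * C₀ * g₀⁻¹ by decide +kernel, map_mul, map_mul, map_inv, charpoly_conj]
  have h4 : (mat (x ^ 4)).charpoly = (mat x).charpoly := by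
    rw [hx, ← map_pow, show C₀ ^ 4 = (g₀ * g₀) * C₀ * (g₀ * g₀)⁻¹ by decide +kernel, map_mul, map_mul, map_inv, charpoly_conj]
  have h6 : (mat (x ^ 6)).charpoly = (mat x).charpoly := by
    rw [eq_inv_of_mul_eq_one_left (show x ^ 6 * x = 1 by rw [← pow_succ]; exact hx7), charpoly_inv hsp]
  have h5 : (mat (x ^ 5)).charpoly = (mat x).charpoly := by
    rw [eq_inv_of_mul_eq_one_left (show x ^ 5 * x ^ 2 = 1 by rw [← pow_add]; exact hx7),
      charpoly_inv (pow_mem hsp 2), h2]
  refine too_many_conjugates (p := 7) (by norm_num) hx7 hx1 ![1, 2, 4, 5, 6] injective_seven_b fun i => ?_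
  fin_cases i
  · simp
  · exact h2
  · exact h4
  · exact h5
  · exact h6

theorem not_psl_nine (hP : Core P) (h4 : 4 ≤ Fintype.card F) {K : Type*} [Field K] [Fintype K]
    (hK : Fintype.card K = 9) : IsEmpty (P ≃* Matrix.ProjectiveSpecialLinearGroup (Fin 2) K) := by
  classical
  refine ⟨fun e => ?_⟩
  haveI := hP.simple
  have hcard : Nat.card P = 360 := by
    have := CITSolv.card_psl_two (F := K) (q := Fintype.card K) rfl
    rw [hK] at this
    rw [Nat.card_congr e.toEquiv]
    norm_num at this ⊢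
    omega
  haveI : Finite P := Nat.finite_of_card_ne_zero (by omega)
  obtain ⟨f⟩ := SmallOrder.Order360.alt_six hcard
  have key := alt_six_traces (P.subtype.comp f.symm.toMonoidHom)
    (Subtype.val_injective.comp f.symm.injective) fun g => hP.le (f.symm g).2
  let F₀ : Subfield F := (ZMod.castHom dvd_rfl F : ZMod 2 →+* F).fieldRange
  refine hP.no_subfield F₀ ?_ (realisable_of_traces hP.absIrred F₀ fun g hg => ?_)
  · intro h
    have hsur : Function.Surjective (ZMod.castHom dvd_rfl F : ZMod 2 →+* F) := fun y => by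
      have hy : y ∈ F₀ := h ▸ trivial
      exact hy
    have := Fintype.card_le_of_surjective _ hsur
    rw [ZMod.card] at this
    omega
  · have hk := key (f ⟨g, hg⟩)
    simp at hk
    have : (mat g).trace * ((mat g).trace - 1) = 0 := by linear_combination hk
    rcases mul_eq_zero.1 this with h | h
    · rw [h]; exact zero_mem _
    · rw [sub_eq_zero.1 h]; exact one_mem _

end Cfsg.Agent.ResidualFour.Even
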