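import Cfsg.Agent.Suzuki.SubgroupList

/-!
# Frobenius powers of the semisimple elements of a Suzuki group

An element of odd order of `Sz(q)` is conjugate to its `q`-th power.
-/

set_option autoImplicit false
set_option linter.style.haveILetI false

namespace Cfsg.Agent.ResidualFour.Even

open Matrix Cfsg.Agent.Suzuki Cfsg.Agent.RankOne.Ovoid MulAction

universe u

variable {F : Type u} [Field F] [Fintype F] {m : ℕ}

/-- The normaliser of a non-split torus induces the Frobenius automorphism on it. -/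
theorem exists_frobenius (hm : 1 ≤ m) (hF : Fintype.card F = 2 ^ (2 * m + 1)) {x : Cfsg.Sz F m}
    (hx : Fpf x) (hp : (orderOf x).Prime) :
    ∃ w : Cfsg.Sz F m, ∀ g ∈ Subgroup.centralizer {x}, w * g * w⁻¹ = g ^ Nat.card F := by
  classical
  have hG := good_of_card (m := m) hF
  obtain ⟨M⟩ := exists_fieldModel hG hm hF hx hp
  letI := M.field
  letI := M.alg
  haveI := M.fin
  set A := Subgroup.centralizer ({x} : Set (Cfsg.Sz F m)) with hA
  set N := Subgroup.normalizer (A : Set (Cfsg.Sz F m)) with hN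
  have hxA : x ∈ A := Subgroup.mem_centralizer_singleton_iff.mpr rfl
  have hin : ∀ g ∈ A, ∃ a, M.φ a = mat g := fun g hg => M.commutant _
    (by rw [← map_mul, ← map_mul, Subgroup.mem_centralizer_singleton_iff.mp hg])
  obtain ⟨ξ, hξ⟩ := hin x hxA
  have himage : ∀ w ∈ N, ∀ a, ∃ b, M.φ b = mat w * M.φ a * mat w⁻¹ := by
    intro w hw a
    obtain ⟨η, hη⟩ := hin (w⁻¹ * x * w) (((Subgroup.mem_normalizer_iff''.mp hw) x).mp hxA)
    refine M.commutant _ ?_
    have e1 : mat w⁻¹ * mat x = mat (w⁻¹ * x * w) * mat w⁻¹ := by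
      rw [← map_mul, ← map_mul, mul_inv_cancel_right]
    have e2 : mat x * mat w = mat w * mat (w⁻¹ * x * w) := by
      rw [← map_mul, ← map_mul]; group
    calc mat w * M.φ a * mat w⁻¹ * mat x
        = mat w * M.φ a * (mat (w⁻¹ * x * w) * mat w⁻¹) := by rw [mul_assoc, e1]
      _ = mat w * (M.φ a * M.φ η) * mat w⁻¹ := by rw [hη]; noncomm_ring
      _ = mat w * M.φ η * M.φ a * mat w⁻¹ := by rw [← map_mul, mul_comm a η, map_mul]; noncomm_ring
      _ = mat x * (mat w * M.φ a * mat w⁻¹) := by rw [hη, ← e2]; noncomm_ring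
  have key : ∀ w ∈ N, ∃ i : Fin (Module.finrank F M.K), ∀ g ∈ A,
      w * g * w⁻¹ = g ^ Nat.card F ^ (i : ℕ) := by
    intro w hw
    choose σ hσ using himage w hw
    have hinv : mat w⁻¹ * mat w = 1 := by rw [← map_mul, inv_mul_cancel, map_one]
    have hinv' : mat w * mat w⁻¹ = 1 := by rw [← map_mul, mul_inv_cancel, map_one]
    let s : M.K →ₐ[F] M.K :=
      { toFun := σ
        map_one' := M.inj (by rw [hσ, map_one, mul_one, hinv'])
        map_mul' := fun a b => M.inj (by
          rw [map_mul, hσ, hσ, hσ, map_mul]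
          calc mat w * (M.φ a * M.φ b) * mat w⁻¹
              = mat w * M.φ a * (mat w⁻¹ * mat w) * M.φ b * mat w⁻¹ := by
                rw [hinv, mul_one]; noncomm_ring
            _ = _ := by noncomm_ring)
        map_zero' := M.inj (by rw [hσ, map_zero, mul_zero, zero_mul])
        map_add' := fun a b => M.inj (by rw [map_add, hσ, hσ, hσ, map_add, mul_add, add_mul])
        commutes' := fun c => M.inj (by
          rw [hσ, AlgHom.commutes, ← Algebra.commutes c (mat w), mul_assoc, hinv', mul_one]) }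
    letI : Fintype M.K := Fintype.ofFinite _
    haveI : Module.Finite F M.K := Module.Finite.of_finite
    obtain ⟨i, hi⟩ := (FiniteField.bijective_frobeniusAlgEquivOfAlgebraic_pow F M.K).2
      (AlgEquiv.ofBijective s (Finite.injective_iff_bijective.mp s.toRingHom.injective))
    refine ⟨i, fun g hg => mat_injective ?_⟩
    obtain ⟨a, ha⟩ := hin g hg
    rw [map_mul, map_mul, ← ha, ← hσ, map_pow, ← ha, ← map_pow]
    refine congrArg M.φ ?_
    have := DFunLike.congr_fun hi a
    simp only [FiniteField.coe_frobeniusAlgEquivOfAlgebraic, AlgEquiv.coe_pow,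
      pow_iterate, AlgEquiv.coe_ofBijective] at this
    rw [Nat.card_eq_fintype_card]
    exact this.symm
  choose f hf using key
  have hdim : Module.finrank F M.K ≤ 4 := by
    haveI : Module.Finite F M.K := Module.Finite.of_finite
    let ψ : M.K →ₗ[F] (Fin 4 → F) :=
      (LinearMap.applyₗ (Pi.single 0 1 : Fin 4 → F)).comp
        ((Matrix.toLin' : Matrix (Fin 4) (Fin 4) F ≃ₗ[F] _).toLinearMap.comp M.φ.toLinearMap)
    have hψ : Function.Injective ψ := by
      rw [← LinearMap.ker_eq_bot, LinearMap.ker_eq_bot']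
      intro a ha
      by_contra h0
      have h1 : M.φ a *ᵥ (Pi.single 0 1 : Fin 4 → F) = 0 := ha
      have := congrArg (fun v => M.φ a⁻¹ *ᵥ v) h1
      simp only [Matrix.mulVec_mulVec, ← map_mul, inv_mul_cancel₀ h0, map_one, Matrix.one_mulVec,
        Matrix.mulVec_zero] at this
      simpa using congrFun this 0
    simpa using LinearMap.finrank_le_finrank_of_injective hψ
  obtain ⟨-, -, -, -, -, -, -, hcard⟩ := torus_structure hm hF
  have hN4 : Nat.card N = 4 * Nat.card A := hcard x hx
  have hpos : 0 < Nat.card A := Nat.card_pos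
  let B := A.subgroupOf N
  have hAN : A ≤ N := Subgroup.le_normalizer
  have hB : B.index = 4 := by
    have h := B.card_mul_index
    rw [Nat.card_congr (Subgroup.subgroupOfEquivOfLe hAN).toEquiv, hN4, mul_comm 4] at h
    exact Nat.eq_of_mul_eq_mul_left hpos h
  let q : N ⧸ B → Fin (Module.finrank F M.K) := fun c => f (c.out : N) c.out.2
  have hq : Function.Injective q := by
    intro c d e
    have h1 := hf (c.out : N) c.out.2 x hxA
    have h2 := hf (d.out : N) d.out.2 x hxA
    rw [show f ((d.out : N) : Cfsg.Sz F m) d.out.2 = f ((c.out : N) : Cfsg.Sz F m) c.out.2 from e.symm] at h2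
    have e3 : ((c.out : N) : Cfsg.Sz F m) * x * ((c.out : N) : Cfsg.Sz F m)⁻¹ =
        ((d.out : N) : Cfsg.Sz F m) * x * ((d.out : N) : Cfsg.Sz F m)⁻¹ := h1.trans h2.symm
    rw [← QuotientGroup.out_eq' c, ← QuotientGroup.out_eq' d, QuotientGroup.eq, Subgroup.mem_subgroupOf,
      hA, Subgroup.mem_centralizer_singleton_iff, Subgroup.coe_mul, Subgroup.coe_inv]
    generalize ((c.out : N) : Cfsg.Sz F m) = u at e3
    generalize ((d.out : N) : Cfsg.Sz F m) = v at e3
    calc u⁻¹ * v * x = u⁻¹ * (v * x * v⁻¹) * v := by group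
      _ = u⁻¹ * (u * x * u⁻¹) * v := by rw [e3]
      _ = x * (u⁻¹ * v) := by group
  have hq' : Function.Bijective q := by
    refine (Nat.bijective_iff_injective_and_card q).mpr ⟨hq, le_antisymm ?_ ?_⟩
    · exact Nat.card_le_card_of_injective q hq
    · rw [Nat.card_fin, ← Subgroup.index_eq_card, hB]; exact hdim
  have h4 : Module.finrank F M.K = 4 := by
    have := Nat.card_eq_of_bijective q hq'
    rw [← Subgroup.index_eq_card, hB, Nat.card_fin] at this
    exact this.symm
  obtain ⟨c, hc⟩ := hq'.2 ⟨1, by omega⟩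
  refine ⟨(c.out : N), fun g hg => ?_⟩
  have h := hf (c.out : N) c.out.2 g hg
  rw [show f ((c.out : N) : Cfsg.Sz F m) c.out.2 = q c from rfl, hc, pow_one] at h
  exact h

/-- An element of odd order is conjugate to its `q`-th power. -/
theorem isConj_pow_card (hm : 1 ≤ m) (hF : Fintype.card F = 2 ^ (2 * m + 1)) {g : Cfsg.Sz F m}
    (ho : Odd (orderOf g)) : IsConj g (g ^ Nat.card F) := by
  rcases eq_or_ne g 1 with rfl | hg
  · rw [one_pow]
  have hG := good_of_card (m := m) hF
  rcases elt_cases hm hF g with h | ⟨k, hk⟩ | ⟨k, c, hc, hk⟩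
  · obtain ⟨x, hx, hp, hxg⟩ := exists_prime_power hm hF h
    obtain ⟨w, hw⟩ := exists_frobenius hm hF hx hp
    have hgx : g ∈ Subgroup.centralizer {x} := by
      obtain ⟨j, rfl⟩ := Subgroup.mem_zpowers_iff.mp hxg
      exact Subgroup.mem_centralizer_singleton_iff.mpr ((Commute.refl g).zpow_right j).eq
    exact isConj_iff.mpr ⟨w, hw g hgx⟩
  · exact absurd ho (not_odd_and_four hm hF hg (orderOf_dvd_four hF hk))
  · have hd := orderOf_dvd_sub_one hF hk
    have h1 : g ^ (Nat.card F - 1) = 1 := orderOf_dvd_iff_pow_eq_one.mp hd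
    have h2 : g ^ Nat.card F = g := by
      have hc0 : Nat.card F = Nat.card F - 1 + 1 := (Nat.sub_add_cancel Nat.card_pos).symm
      rw [hc0, pow_succ, h1, one_mul]
    rw [h2]

end Cfsg.Agent.ResidualFour.Even
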