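import Cfsg.Agent.ResidualFour.Even.Elements
import Cfsg.Agent.ResidualFour.Even.SzPower
import Cfsg.Agent.LocalStructure.Zsigmondy
import Cfsg.Agent.PrimeGraphCIT.Cases

/-!
# The Suzuki case
-/

set_option autoImplicit false

open scoped MatrixGroups

namespace Cfsg.Agent.ResidualFour.Even

open Matrix Cfsg.Agent.Suzuki

/-- The exponent of a Suzuki group inside a symplectic group of dimension four divides that of the field. -/
theorem dvd_of_card_dvd {n e : ℕ} (hn : 3 ≤ n)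
    (h : (2 ^ n) ^ 2 + 1 ∣ (2 ^ e) ^ 4 * (((2 ^ e) ^ 2 - 1) * ((2 ^ e) ^ 4 - 1))) : n ∣ e := by
  obtain ⟨r, hr, hrd, hprim⟩ := LocalStructure.zsigmondy (a := 2) (n := 4 * n) (by norm_num) (by omega)
    (by omega) (by omega)
  have := Fact.mk hr
  have hr2 : r ≠ 2 := fun e2 => by
    rw [e2] at hrd
    obtain ⟨c, hc⟩ := dvd_pow_self 2 (show 4 * n ≠ 0 by omega)
    obtain ⟨d, hd⟩ := hrd
    have := Nat.two_pow_pos (4 * n)
    omega
  have h2 : (2 : ZMod r) ≠ 0 := fun h2 => hr2 ((Nat.prime_dvd_prime_iff_eq hr Nat.prime_two).1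
    ((ZMod.natCast_eq_zero_iff _ _).1 (by exact_mod_cast h2)))
  have hcast : ∀ k : ℕ, r ∣ 2 ^ k - 1 ↔ (2 : ZMod r) ^ k = 1 := fun k => by
    rw [← ZMod.natCast_eq_zero_iff, Nat.cast_sub Nat.one_le_two_pow, sub_eq_zero]
    norm_num
  have hord : orderOf (2 : ZMod r) = 4 * n := by
    refine orderOf_eq_iff (by omega) |>.2 ⟨(hcast _).1 hrd, fun k hk hk0 => fun e => hprim k hk0 hk ((hcast k).2 e)⟩
  have hrk : r ∣ (2 ^ n) ^ 2 + 1 := by
    rw [← ZMod.natCast_eq_zero_iff]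
    have h1 : ((2 : ZMod r) ^ (2 * n)) ^ 2 = 1 := by
      rw [← pow_mul, show 2 * n * 2 = 4 * n by ring]; exact (hcast _).1 hrd
    have h3 : (2 : ZMod r) ^ (2 * n) ≠ 1 := fun e => hprim (2 * n) (by omega) (by omega) ((hcast _).2 e)
    rcases sq_eq_one_iff.1 h1 with h4 | h4
    · exact absurd h4 h3
    · push_cast
      rw [← pow_mul, mul_comm n 2, h4]
      ring
  have hrm := hrk.trans h
  rw [← pow_mul, ← pow_mul] at hrm
  rcases hr.dvd_mul.1 hrm with hd | hd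
  · exact absurd ((Nat.prime_dvd_prime_iff_eq hr Nat.prime_two).1 (hr.dvd_of_dvd_pow hd)) hr2
  rcases hr.dvd_mul.1 hd with hd | hd
  · have h5 : 4 * n ∣ e * 2 := hord ▸ orderOf_dvd_of_pow_eq_one ((hcast _).1 hd)
    exact Nat.dvd_trans ⟨2, by ring⟩ (Nat.dvd_of_mul_dvd_mul_right two_pos
      (show 2 * n * 2 ∣ e * 2 by rwa [show 2 * n * 2 = 4 * n by ring]))
  · exact Nat.dvd_of_mul_dvd_mul_right (show 0 < 4 by norm_num)
      (show n * 4 ∣ e * 4 by rw [mul_comm n 4]; exact hord ▸ orderOf_dvd_of_pow_eq_one ((hcast _).1 hd))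

variable {F : Type*} [Field F] [Fintype F] [CharP F 2] {P : Subgroup (GL I F)}

/-- A Suzuki group with all involutions of type `c₂` is defined over the whole field. -/
theorem suzuki_of_iso (hP : Core P) (h1 : NoTv P) (h2 : NoShort P) (hiso : Cfsg.Lie.IsoSuzuki P) :
    ∃ m : ℕ, 1 ≤ m ∧ Fintype.card F = 2 ^ (2 * m + 1) ∧ Nonempty (P ≃* Cfsg.Lie.Sz F (2 ^ (m + 1))) := by
  classical
  obtain ⟨K, _, _, m, hm, hK, ⟨f⟩⟩ := hiso
  have hinj := Matrix.SpecialLinearGroup.toGL_injective (n := Fin 4) (R := K)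
  let φ : P ≃* Cfsg.Sz K m := f.trans ((MulEquiv.subgroupCongr (map_toGL hm hK)).symm.trans
    ((Cfsg.Sz K m).equivMapOfInjective Matrix.SpecialLinearGroup.toGL hinj).symm)
  obtain ⟨e, -, he⟩ := FiniteField.card F 2
  set n := 2 * m + 1 with hn
  have hdvd : n ∣ (e : ℕ) := by
    refine dvd_of_card_dvd (by omega) ?_
    have h := card_dvd_symp hP.le he
    rw [Nat.card_congr φ.toEquiv, card_sz hm hK, Nat.card_eq_fintype_card, hK] at h
    exact (dvd_mul_left _ _).trans h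
  have hle : (e : ℕ) ≤ n := by
    refine card_dvd hP h1 h2 (by omega) he fun g hg ho => ?_
    have ho' : Odd (orderOf (φ ⟨g, hg⟩)) := by
      rw [MulEquiv.orderOf_eq, Subgroup.orderOf_mk]; exact ho
    obtain ⟨w, hw⟩ := isConj_iff.1 (isConj_pow_card hm hK ho')
    obtain ⟨u, rfl⟩ := φ.surjective w
    rw [← map_pow, ← map_inv, ← map_mul, ← map_mul, φ.apply_eq_iff_eq, Nat.card_eq_fintype_card, hK] at hw
    have hw' : (u : GL I F) * g * (u : GL I F)⁻¹ = g ^ 2 ^ n := congrArg Subtype.val hw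
    rw [← hw', PrimeDim.mat, PrimeDim.mat, Units.val_mul, Units.val_mul, Matrix.trace_units_conj]
  have hen : (e : ℕ) = n := le_antisymm hle (Nat.le_of_dvd e.2 hdvd)
  rw [hen] at he
  refine ⟨m, hm, he, ?_⟩
  obtain ⟨ψ⟩ := PrimeGraphCIT.sz_congr hm hK (FiniteField.ringEquivOfCardEq (hK.trans he.symm)) he
  exact ⟨(φ.trans ψ).trans (((Cfsg.Sz F m).equivMapOfInjective Matrix.SpecialLinearGroup.toGL
    Matrix.SpecialLinearGroup.toGL_injective).trans (MulEquiv.subgroupCongr (map_toGL hm he)))⟩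

end Cfsg.Agent.ResidualFour.Even
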