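import Cfsg.Agent.ResidualFour.Even.L2Case
import Cfsg.Agent.ResidualFour.Even.SuzCase
import Cfsg.Agent.ResidualFour.Even.CITSmall
import Cfsg.Agent.CITPair.Main
import Cfsg.Agent.Classical.SmallPSL
import Cfsg.Agent.S0144

/-!
# The residual class of `Sp(4, 2^e)` consists of Suzuki groups

All involutions are of type `c₂`, so the centraliser of an involution is a 2-group and the classification of
CIT groups applies.
-/

set_option autoImplicit false

open scoped MatrixGroups

namespace Cfsg.Agent.ResidualFour.Even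

open Matrix Cfsg.Geo Cfsg.Agent.Classical

variable {F : Type*} [Field F] [Fintype F] [CharP F 2] {P : Subgroup (GL I F)}

/-- The centralisers of involutions are 2-groups. -/
theorem cit_of_core (hle : P ≤ Cfsg.spGL 2 F) (h1 : NoTv P) (h2 : NoShort P) (t : P) (ht : orderOf t = 2) :
    IsPGroup 2 (Subgroup.centralizer ({t} : Set P)) := by
  rintro ⟨g, hg⟩
  obtain ⟨hsq, hne⟩ := orderOf_eq_prime_iff.1 ht
  rw [pow_two] at hsq
  have hc : (g : GL I F) * t = (t : GL I F) * g :=
    congrArg Subtype.val (Subgroup.mem_centralizer_iff.1 hg t rfl).symm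
  have hsq' : (t : GL I F) * t = 1 := congrArg Subtype.val hsq
  have hne' : (t : GL I F) ≠ 1 := fun e => hne (Subtype.ext e)
  refine ⟨2, Subtype.ext (Subtype.ext ?_)⟩
  show (g : GL I F) ^ (2 ^ 2) = 1
  exact pow_four_eq_one (hle t.2) hsq' (isCTwo_of_mem hle h1 h2 t.2 hsq' hne') (hle g.2) hc

/-- A group of the residual class without transvections and short root involutions is a Suzuki group. -/
theorem suzuki (h4 : 4 ≤ Fintype.card F) (hP : Core P) (h1 : NoTv P) (h2 : NoShort P)
    (hQ : ¬ ∃ Q : (I → F) → F, Geo.IsNondegenerateQuadraticForm Q ∧ Geo.FixesQuadForm (Geo.matrixSet P) Q) :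
    ∃ m : ℕ, 1 ≤ m ∧ Fintype.card F = 2 ^ (2 * m + 1) ∧ Nonempty (P ≃* Cfsg.Lie.Sz F (2 ^ (m + 1))) := by
  classical
  have := hP.simple
  have hna : ∃ a b : P, a * b ≠ b * a := by
    by_contra hcon
    push Not at hcon
    exact hP.nonab ⟨⟨hcon⟩⟩
  have hnsolv : ¬ Group.IsSolvable P := fun hs => by
    obtain ⟨a, b, hab⟩ := hna
    exact hab (IsSimpleGroup.comm_iff_isSolvable.2 hs a b)
  rcases CITPair.classification hna (cit_of_core hP.le h1 h2) with
    ⟨K, _, _, hcase, ⟨e⟩⟩ | ⟨K, _, _, hK, ⟨e⟩⟩ | hsuz
  · rcases hcase with h9 | ⟨n, hn⟩ | ⟨hp, -⟩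
    · exact ((not_psl_nine hP h4 h9).false e).elim
    · exact absurd (exists_form_of_psl_even hP h1 h2 hn e) hQ
    · rcases Nat.lt_or_ge (Fintype.card K) 7 with hlt | h7
      swap
      · exact ((not_psl_prime hP hp h7).false e).elim
      have hcard : Nat.card P * Nat.gcd 2 (Fintype.card K - 1) =
          Fintype.card K * (Fintype.card K ^ 2 - 1) := by
        rw [Nat.card_congr e.toEquiv, ← Classical.card_sl2, ← Classical.card_psl_mul, Fintype.card_fin, mul_comm]
      have h2le := hp.two_le
      interval_cases h : Fintype.card K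
      · exact absurd (exists_form_of_psl_even hP h1 h2 (n := 1) (by rw [h]; rfl) e) hQ
      · refine (hnsolv (S0144.result (G := P) 2 3 2 1 Nat.prime_two Nat.prime_three ?_)).elim
        norm_num at hcard ⊢
        omega
      · norm_num at hp
      · let _ : Fintype (GaloisField 2 2) := Fintype.ofFinite _
        obtain ⟨e5⟩ := Classical.Small.psl_two_sixty (F := K) (Or.inr h)
        have h4' : Fintype.card (GaloisField 2 2) = 4 := by
          rw [← Nat.card_eq_fintype_card, GaloisField.card 2 2 two_ne_zero]; rfl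
        obtain ⟨e4⟩ := Classical.Small.psl_two_sixty (F := GaloisField 2 2) (Or.inl h4')
        exact absurd (exists_form_of_psl_even hP h1 h2 (K := GaloisField 2 2) (n := 2)
          (by rw [h4']; rfl) (e.trans (e5.trans e4.symm))) hQ
      · norm_num at hp
  · exact ((not_psl_three_four hP hK).false e).elim
  · exact suzuki_of_iso hP h1 h2 hsuz

end Cfsg.Agent.ResidualFour.Even
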