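import Cfsg.Agent.ClassicalMax.Symplectic
import Cfsg.Prelude.Def_GeometricClasses

/-!
Interface for the residual class of Sp_4(q), q even.
-/

set_option autoImplicit false

namespace Cfsg.Agent.ResidualFour.Even

open Cfsg.Geo Cfsg.Agent.Classical Cfsg.Agent.ClassicalMax

/-- The index type. -/
abbrev I := Fin 2 ⊕ Fin 2

variable {F : Type*} [Field F]

/-- The symplectic transvection with centre `v` and parameter one (every transvection of Sp_4(2^e) is of this form). -/
noncomputable def T (v : I → F) : Matrix.GeneralLinearGroup I F :=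
  (glEquiv I F).symm (Alt.tv (sympB_isAlt (F := F) (m := 2)) v 1)

/-- What is used about the perfect socle preimage. -/
structure Core (P : Subgroup (Matrix.GeneralLinearGroup I F)) : Prop where
  le : P ≤ Cfsg.spGL 2 F
  ne_sp : P ≠ Cfsg.spGL 2 F
  simple : IsSimpleGroup P
  nonab : ¬ IsMulCommutative P
  absIrred : ActsAbsolutelyIrreducibly (matrixSet P)
  no_subfield : ∀ F₀ : Subfield F, F₀ ≠ ⊤ → ¬ RealisableOver F₀ (matrixSet P)

/-- No transvection. -/
def NoTv (P : Subgroup (Matrix.GeneralLinearGroup I F)) : Prop := ∀ v : I → F, v ≠ 0 → T v ∉ P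

/-- No short root involution: `x ↦ f(x, g x)` is not identically zero for an involution `g`. -/
def NoShort (P : Subgroup (Matrix.GeneralLinearGroup I F)) : Prop :=
  ∀ g ∈ P, g * g = 1 → g ≠ 1 → ∃ x : I → F, Cfsg.sympForm 2 F x (Matrix.mulVec (g : Matrix I I F) x) ≠ 0

end Cfsg.Agent.ResidualFour.Even
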