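import Cfsg.Agent.ResidualThree.Realise
import Mathlib.RingTheory.LittleWedderburn
import Mathlib.RingTheory.SimpleModule.WedderburnArtin

/-!
# An absolutely irreducible finite group is realisable over its field of traces
-/

set_option autoImplicit false
set_option linter.style.haveILetI false

namespace Cfsg.Agent.ResidualFour.Even

open Matrix Module Cfsg.Geo Cfsg.Agent.PrimeDim Cfsg.Agent.ResidualThree
open scoped MatrixGroups

universe u

variable {ι : Type} [Fintype ι] [DecidableEq ι] {F : Type u} [Field F]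

theorem mat_mul_gl (g h : GL ι F) : mat (g * h) = mat g * mat h := Units.val_mul g h

/-- The elements of the group span a simple algebra over the field of traces, with coefficients there. -/
theorem exists_frame {P : Subgroup (GL ι F)} (hP : ActsAbsolutelyIrreducibly (matrixSet P)) (F₀ : Subfield F)
    (htr : ∀ g ∈ P, (mat g).trace ∈ F₀) :
    ∃ b : Basis (ι × ι) F (Matrix ι ι F), (∀ i, ∃ g ∈ P, b i = mat g) ∧
      ∀ g ∈ P, ∀ i, b.repr (mat g) i ∈ F₀ := by
  classical
  have hspan := span_eq_top hP
  obtain ⟨s, hs, hsp, hli⟩ := exists_linearIndependent F (matrixSet P)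
  rw [hspan] at hsp
  let B := Basis.mk hli (by rw [Subtype.range_coe_subtype, Set.ofPred_mem_eq, hsp])
  haveI : Fintype s := FiniteDimensional.fintypeBasisIndex B
  have hc : Fintype.card s = Fintype.card (ι × ι) := by
    rw [← finrank_eq_card_basis B, finrank_eq_card_basis (Matrix.stdBasis F ι ι)]
  let b := B.reindex (Fintype.equivOfCardEq hc)
  have hb : ∀ i, ∃ g ∈ P, b i = mat g := fun i => by
    obtain ⟨g, hg, e⟩ := hs ((Fintype.equivOfCardEq hc).symm i).2
    exact ⟨g, hg, by rw [Basis.reindex_apply, Basis.mk_apply]; exact e.symm⟩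
  refine ⟨b, hb, fun g hg => ?_⟩
  choose k hk hkb using hb
  let G : Matrix (ι × ι) (ι × ι) F₀ := Matrix.of fun i j => ⟨(mat (k i * k j)).trace, htr _ (mul_mem (hk i) (hk j))⟩
  let r : (ι × ι) → F₀ := fun i => ⟨(mat (k i * g)).trace, htr _ (mul_mem (hk i) hg)⟩
  have hGb : ∀ i j, (G.map F₀.subtype) i j = (b i * b j).trace := fun i j => by
    show (mat (k i * k j)).trace = _
    rw [hkb, hkb, ← mat_mul_gl]
  have hdet : (G.map F₀.subtype).det ≠ 0 := by
    intro e
    obtain ⟨v, hv, hv0⟩ := Matrix.exists_mulVec_eq_zero_iff.2 e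
    apply hv
    set y : Matrix ι ι F := ∑ j, v j • b j with hy
    have h1 : ∀ i, (b i * y).trace = 0 := fun i => by
      have := congrFun hv0 i
      simp only [Matrix.mulVec, dotProduct, hGb, Pi.zero_apply] at this
      rw [hy, Finset.mul_sum, Matrix.trace_sum, ← this]
      exact Finset.sum_congr rfl fun j _ => by rw [Matrix.mul_smul, Matrix.trace_smul, smul_eq_mul, mul_comm]
    have hy0 : y = 0 := eq_zero_of_trace hP fun h hh => by
      rw [← b.sum_repr (mat h), Finset.mul_sum, Matrix.trace_sum]
      exact Finset.sum_eq_zero fun i _ => by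
        rw [Matrix.mul_smul, Matrix.trace_smul, Matrix.trace_mul_comm, h1, smul_zero]
    exact funext (Fintype.linearIndependent_iff.1 b.linearIndependent v hy0)
  have hu : IsUnit G.det := isUnit_iff_ne_zero.2 fun e => hdet (by
    exact ((F₀.subtype).map_det G).symm.trans (by rw [e, map_zero]))
  set c : (ι × ι) → F₀ := G⁻¹ *ᵥ r with hc'
  have hGc : G *ᵥ c = r := by rw [hc', Matrix.mulVec_mulVec, Matrix.mul_nonsing_inv _ hu, Matrix.one_mulVec]
  intro i
  have hsol : (G.map F₀.subtype) *ᵥ (fun j => b.repr (mat g) j) = fun i => (r i : F) := by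
    funext i
    show _ = (mat (k i * g)).trace
    simp only [Matrix.mulVec, dotProduct, hGb]
    rw [mat_mul_gl, ← hkb]
    conv_rhs => rw [← b.sum_repr (mat g), Finset.mul_sum, Matrix.trace_sum]
    exact Finset.sum_congr rfl fun j _ => by rw [Matrix.mul_smul, Matrix.trace_smul, smul_eq_mul, mul_comm]
  have hsol' : (G.map F₀.subtype) *ᵥ (fun j => (c j : F)) = fun i => (r i : F) := by
    funext i
    have := congrArg (F₀.subtype) (congrFun hGc i)
    rw [RingHom.map_mulVec] at this
    exact this
  have := Matrix.mulVec_injective_of_isUnit ((Matrix.isUnit_iff_isUnit_det _).2 (isUnit_iff_ne_zero.2 hdet))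
    (hsol.trans hsol'.symm)
  rw [congrFun this i]
  exact (c i).2

/-- A finite absolutely irreducible group with traces in a subfield is realisable over it. -/
theorem realisable_of_traces [Finite F] [Nonempty ι] {P : Subgroup (GL ι F)}
    (hP : ActsAbsolutelyIrreducibly (matrixSet P)) (F₀ : Subfield F) (htr : ∀ g ∈ P, (mat g).trace ∈ F₀) :
    RealisableOver F₀ (matrixSet P) := by
  classical
  obtain ⟨b, hb, hrepr⟩ := exists_frame hP F₀ htr
  choose k hk hkb using hb
  let A : Subalgebra F₀ (Matrix ι ι F) := Algebra.adjoin F₀ (matrixSet P)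
  have hA : ∀ a : Matrix ι ι F, a ∈ A ↔ ∀ i, b.repr a i ∈ F₀ := by
    intro a
    constructor
    · intro ha
      have hmem : a ∈ Submodule.span F₀ (matrixSet P) := by
        have e : Subalgebra.toSubmodule A = Submodule.span F₀ (matrixSet P) := by
          rw [Algebra.adjoin_eq_span]
          congr 1
          refine le_antisymm ?_ Submonoid.subset_closure
          intro x hx
          induction hx using Submonoid.closure_induction with
          | mem x hx => exact hx
          | one => exact ⟨1, one_mem P, rfl⟩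
          | mul x y _ _ hx hy =>
            obtain ⟨p, hp, rfl⟩ := hx
            obtain ⟨q, hq, rfl⟩ := hy
            exact ⟨p * q, mul_mem hp hq, Units.val_mul p q⟩
        rw [← e]; exact ha
      clear ha
      induction hmem using Submodule.span_induction with
      | mem x hx => obtain ⟨g, hg, rfl⟩ := hx; exact hrepr g hg
      | zero => intro i; simp
      | add x y _ _ hx hy => intro i; rw [map_add, Finsupp.add_apply]; exact add_mem (hx i) (hy i)
      | smul c x _ hx =>
        intro i
        rw [Subfield.smul_def, map_smul, Finsupp.smul_apply, smul_eq_mul]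
        exact mul_mem c.2 (hx i)
    · intro h
      rw [← b.sum_repr a]
      refine sum_mem fun i _ => ?_
      have := A.smul_mem (Algebra.subset_adjoin ⟨k i, hk i, rfl⟩ : mat (k i) ∈ A) (⟨_, h i⟩ : F₀)
      rwa [Subfield.smul_def, ← hkb] at this
  have hmap : ∀ g ∈ P, mat g ∈ A := fun g hg => Algebra.subset_adjoin ⟨g, hg, rfl⟩
  haveI : Nontrivial A := ⟨⟨0, 1, fun e => one_ne_zero (α := Matrix ι ι F) (congrArg Subtype.val e).symm⟩⟩
  haveI : IsSimpleRing A := by
    refine IsSimpleRing.of_eq_bot_or_eq_top fun I => ?_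
    by_cases hI : I = ⊥
    · exact Or.inl hI
    refine Or.inr (TwoSidedIdeal.one_mem_iff _ |>.1 ?_)
    obtain ⟨a, haI, ha0⟩ : ∃ a ∈ I, a ≠ (0 : A) := by
      by_contra hcon
      push Not at hcon
      exact hI (le_antisymm (fun x hx => by rw [hcon x hx]; exact zero_mem _) bot_le)
    let W := Submodule.span F (Subtype.val '' {x : A | x ∈ I})
    have hmulP : ∀ w ∈ W, ∀ g ∈ P, mat g * w ∈ W ∧ w * mat g ∈ W := by
      intro w hw g hg
      induction hw using Submodule.span_induction with
      | mem x hx =>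
        obtain ⟨y, hy, rfl⟩ := hx
        exact ⟨Submodule.subset_span ⟨⟨mat g, hmap g hg⟩ * y, I.mul_mem_left _ _ hy, rfl⟩,
          Submodule.subset_span ⟨y * ⟨mat g, hmap g hg⟩, I.mul_mem_right _ _ hy, rfl⟩⟩
      | zero => simp
      | add x y _ _ hx hy => exact ⟨by rw [mul_add]; exact add_mem hx.1 hy.1, by rw [add_mul]; exact add_mem hx.2 hy.2⟩
      | smul c x _ hx => exact ⟨by rw [Matrix.mul_smul]; exact W.smul_mem c hx.1,
          by rw [Matrix.smul_mul]; exact W.smul_mem c hx.2⟩
    have hideal : ∀ X : Matrix ι ι F, ∀ w ∈ W, X * w ∈ W ∧ w * X ∈ W := by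
      intro X w hw
      have hX : X ∈ Submodule.span F (matrixSet P) := span_eq_top hP ▸ Submodule.mem_top
      induction hX using Submodule.span_induction with
      | mem x hx => obtain ⟨g, hg, rfl⟩ := hx; exact hmulP w hw g hg
      | zero => simp
      | add x y _ _ hx hy => exact ⟨by rw [add_mul]; exact add_mem hx.1 hy.1, by rw [mul_add]; exact add_mem hx.2 hy.2⟩
      | smul c x _ hx => exact ⟨by rw [Matrix.smul_mul]; exact W.smul_mem c hx.1,
          by rw [Matrix.mul_smul]; exact W.smul_mem c hx.2⟩
    have hW : (1 : Matrix ι ι F) ∈ W := by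
      let J : TwoSidedIdeal (Matrix ι ι F) := TwoSidedIdeal.mk' W (zero_mem W) (fun hx hy => add_mem hx hy)
        (fun hx => neg_mem hx) (fun hy => (hideal _ _ hy).1) (fun hx => (hideal _ _ hx).2)
      have hJ : J ≠ ⊥ := fun e => ha0 <| Subtype.ext <| by
        have : (a : Matrix ι ι F) ∈ J := (TwoSidedIdeal.mem_mk' _ _ _ _ _ _ _).2 (Submodule.subset_span ⟨a, haI, rfl⟩)
        rw [e, TwoSidedIdeal.mem_bot] at this
        exact this
      have h1 := (TwoSidedIdeal.one_mem_iff J).2 ((eq_bot_or_eq_top J).resolve_left hJ)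
      exact (TwoSidedIdeal.mem_mk' _ _ _ _ _ _ _).1 h1
    -- coefficients: a combination with coefficients in the subfield
    obtain ⟨π, hπ⟩ : ∃ π : F →ₗ[F₀] F₀, π 1 = 1 := Projective.exists_dual_eq_one F₀ one_ne_zero
    have hlin : ∀ w ∈ W, ∀ c : F, ∃ y : A, y ∈ I ∧ (y : Matrix ι ι F) = ∑ i, (π (c * b.repr w i) : F₀) • b i := by
      intro w hw
      induction hw using Submodule.span_induction with
      | mem x hx =>
        obtain ⟨y, hy, rfl⟩ := hx
        intro c
        refine ⟨π c • y, ?_, ?_⟩
        · rw [Algebra.smul_def]; exact I.mul_mem_left _ _ hy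
        · rw [SetLike.val_smul]
          conv_lhs => rw [← b.sum_repr (y : Matrix ι ι F), Finset.smul_sum]
          refine Finset.sum_congr rfl fun i _ => ?_
          have hi := (hA _).1 y.2 i
          have : c * b.repr (y : Matrix ι ι F) i = (⟨_, hi⟩ : F₀) • c := by rw [Subfield.smul_def, smul_eq_mul, mul_comm]
          rw [this, map_smul, smul_eq_mul, mul_comm, ← smul_smul]
          rfl
      | zero => exact fun c => ⟨0, zero_mem _, by simp⟩
      | add x y _ _ hx hy =>
        intro c
        obtain ⟨u, hu, eu⟩ := hx c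
        obtain ⟨v, hv, ev⟩ := hy c
        refine ⟨u + v, add_mem hu hv, ?_⟩
        rw [AddMemClass.coe_add, eu, ev, ← Finset.sum_add_distrib]
        exact Finset.sum_congr rfl fun i _ => by rw [map_add, Finsupp.add_apply, mul_add, map_add, add_smul]
      | smul d x _ hx =>
        intro c
        obtain ⟨u, hu, eu⟩ := hx (c * d)
        refine ⟨u, hu, eu.trans (Finset.sum_congr rfl fun i _ => ?_)⟩
        rw [map_smul, Finsupp.smul_apply, smul_eq_mul, mul_assoc]
    obtain ⟨y, hy, ey⟩ := hlin 1 hW 1
    have h1A := (hA _).1 (one_mem A)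
    have : (y : Matrix ι ι F) = 1 := by
      rw [ey]
      conv_rhs => rw [← b.sum_repr (1 : Matrix ι ι F)]
      refine Finset.sum_congr rfl fun i _ => ?_
      have : (1 : F) * b.repr 1 i = (⟨_, h1A i⟩ : F₀) • (1 : F) := by rw [Subfield.smul_def, smul_eq_mul, mul_one, one_mul]
      rw [this, map_smul, hπ, smul_eq_mul, mul_one]
      rfl
    rwa [show y = 1 from Subtype.ext this] at hy
  haveI : IsArtinianRing A := inferInstance
  haveI : Module.Finite F₀ A := Module.Finite.of_finite
  obtain ⟨d, hd, D, _, _, _, ⟨e⟩⟩ := IsSimpleRing.exists_algEquiv_matrix_divisionRing_finite F₀ A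
  haveI : Finite D := Module.finite_of_finite F₀
  letI : Field D := littleWedderburn D
  have hcen : ∀ z : A, (∀ x : A, z * x = x * z) → ∃ c : F₀, z = c • (1 : A) := by
    intro z hz
    obtain ⟨c, hc⟩ := (abs_iff.1 hP).2 (z : Matrix ι ι F) fun g hg => congrArg Subtype.val (hz ⟨_, hmap g hg⟩)
    obtain ⟨j, hj⟩ : ∃ j, b.repr 1 j ≠ 0 := by
      by_contra hcon
      push Not at hcon
      exact one_ne_zero (α := Matrix ι ι F) (by rw [← b.sum_repr (1 : Matrix ι ι F)]; simp [hcon])
    have hzj := (hA _).1 z.2 j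
    rw [hc, map_smul, Finsupp.smul_apply, smul_eq_mul] at hzj
    have hcF : c ∈ F₀ := by
      have := mul_mem hzj (inv_mem ((hA _).1 (one_mem A) j))
      rwa [mul_assoc, mul_inv_cancel₀ hj, mul_one] at this
    exact ⟨⟨c, hcF⟩, Subtype.ext hc⟩
  have hdimD : finrank F₀ D = 1 := by
    haveI : Nonempty (Fin d) := ⟨⟨0, Nat.pos_of_ne_zero hd.out⟩⟩
    have hsurj : Function.Surjective (algebraMap F₀ D) := fun x => by
      obtain ⟨c, hc⟩ := hcen (e.symm (Matrix.scalar (Fin d) x)) fun y => e.injective (by
        rw [map_mul, map_mul, e.apply_symm_apply]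
        exact (Matrix.scalar_commute x (fun r => Commute.all x r) (e y)).eq)
      refine ⟨c, ?_⟩
      have h := congrArg e hc
      rw [e.apply_symm_apply, map_smul, map_one, Algebra.smul_def, mul_one] at h
      have h' := congrFun (congrFun h (Classical.arbitrary _)) (Classical.arbitrary _)
      rw [Matrix.scalar_apply, Matrix.diagonal_apply_eq, Matrix.algebraMap_matrix_apply, if_pos rfl] at h'
      exact h'.symm
    exact (LinearEquiv.ofBijective (Algebra.linearMap F₀ D) ⟨(algebraMap F₀ D).injective, hsurj⟩).finrank_eq.symm.trans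
      (finrank_self F₀)
  have hdimA : finrank F₀ A = Fintype.card ι * Fintype.card ι := by
    have hb' : ∀ i, b i ∈ A := fun i => hkb i ▸ hmap _ (hk i)
    let bA : ((ι × ι) → F₀) →ₗ[F₀] A :=
      { toFun := fun v => ∑ i, v i • (⟨b i, hb' i⟩ : A)
        map_add' := fun u v => (Finset.sum_congr rfl fun i _ => add_smul (u i) (v i) _).trans Finset.sum_add_distrib
        map_smul' := fun c v => by simp [Finset.smul_sum, smul_smul] }
    have hbA : Function.Bijective bA := by
      refine ⟨fun u v h => ?_, fun a => ⟨fun i => ⟨_, (hA _).1 a.2 i⟩, Subtype.ext ?_⟩⟩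
      · have h' := congrArg (fun a : A => b.repr (a : Matrix ι ι F)) h
        simp only [bA, LinearMap.coe_mk, AddHom.coe_mk, AddSubmonoidClass.coe_finsetSum, SetLike.val_smul,
          Subfield.smul_def] at h'
        funext i
        refine Subtype.ext ?_
        have := DFunLike.congr_fun h' i
        rwa [Basis.repr_sum_self, Basis.repr_sum_self] at this
      · simp only [bA, LinearMap.coe_mk, AddHom.coe_mk, AddSubmonoidClass.coe_finsetSum, SetLike.val_smul,
          Subfield.smul_def]
        exact b.sum_repr _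
    rw [← (LinearEquiv.ofBijective bA hbA).finrank_eq, finrank_fintype_fun_eq_card, Fintype.card_prod]
  have hd' : d = Fintype.card ι := by
    have := e.toLinearEquiv.finrank_eq
    rw [hdimA, Module.finrank_matrix, hdimD, mul_one, Fintype.card_fin] at this
    nlinarith
  let E : Fin d → Matrix ι ι F := fun i => (e.symm (Matrix.single i i 1) : A)
  have hE0 : ∀ i, E i ≠ 0 := fun i h => by
    have h' : e.symm (Matrix.single i i (1 : D)) = 0 := Subtype.ext h
    rw [← map_zero e.symm] at h'
    simpa using congrFun (congrFun (e.symm.injective h') i) i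
  have hEE : ∀ i j, E i * E j = if i = j then E i else 0 := fun i j => by
    show ((e.symm _ : A) : Matrix ι ι F) * ((e.symm _ : A) : Matrix ι ι F) = _
    rw [← MulMemClass.coe_mul, ← map_mul]
    split_ifs with h
    · subst h; rw [Matrix.single_mul_single_same, one_mul]
    · rw [Matrix.single_mul_single_of_ne (c := (1 : D)) (h := h), map_zero]; rfl
  let i₀ : Fin d := ⟨0, Nat.pos_of_ne_zero hd.out⟩
  have hrank : finrank F (LinearMap.range (Matrix.toLin' (E i₀))) ≤ 1 := by
    have hne : ∀ i, ∃ v, E i *ᵥ v ≠ 0 := fun i => by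
      by_contra hcon
      push Not at hcon
      exact hE0 i (Matrix.mulVec_injective (funext fun v => by rw [hcon v, Matrix.zero_mulVec]))
    choose v hv using hne
    let K : Submodule F (ι → F) := LinearMap.ker (Matrix.toLin' (E i₀))
    have hmem : ∀ j : {i // i ≠ i₀}, E j *ᵥ v j ∈ K := fun j => by
      rw [LinearMap.mem_ker, Matrix.toLin'_apply, Matrix.mulVec_mulVec, hEE, if_neg (Ne.symm j.2), Matrix.zero_mulVec]
    have hind : LinearIndependent F fun j : {i // i ≠ i₀} => (⟨_, hmem j⟩ : K) := by
      rw [Fintype.linearIndependent_iff]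
      intro g hg j
      have h := congrArg (fun x : K => E j *ᵥ (x : ι → F)) hg
      simp only [AddSubmonoidClass.coe_finsetSum, SetLike.val_smul, Matrix.mulVec_sum, Matrix.mulVec_smul,
        Matrix.mulVec_mulVec, hEE, ZeroMemClass.coe_zero, Matrix.mulVec_zero] at h
      rw [Finset.sum_eq_single j (fun x _ hx => by
        rw [if_neg (fun e => hx (Subtype.ext e.symm)), Matrix.zero_mulVec, smul_zero]) (by simp), if_pos rfl] at h
      exact (smul_eq_zero.1 h).resolve_right (hv j)
    have h1 := hind.fintype_card_le_finrank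
    have h2 := LinearMap.finrank_range_add_finrank_ker (Matrix.toLin' (E i₀))
    rw [Fintype.card_subtype_compl, Fintype.card_fin, Fintype.card_subtype_eq] at h1
    rw [finrank_fintype_fun_eq_card] at h2
    have : finrank F K = finrank F (LinearMap.ker (Matrix.toLin' (E i₀))) := rfl
    omega
  obtain ⟨a, ha⟩ : ∃ a, LinearMap.range (Matrix.toLin' (E i₀)) ≤ Submodule.span F {a} := by
    obtain ⟨a, ha⟩ := finrank_le_one_iff.1 hrank
    exact ⟨a, fun x hx => Submodule.mem_span_singleton.2 (by
      obtain ⟨c, hc⟩ := ha ⟨x, hx⟩; exact ⟨c, congrArg Subtype.val hc⟩)⟩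
  have hcol : ∀ j, ∃ c : F, c • a = E i₀ *ᵥ Pi.single j 1 := fun j =>
    Submodule.mem_span_singleton.1 (ha ⟨_, Matrix.toLin'_apply _ _⟩)
  choose α hα using hcol
  have he : E i₀ = vecMulVec a α := by
    ext i j
    have := congrFun (hα j) i
    rw [Matrix.mulVec_single_one, Matrix.col_apply, Pi.smul_apply, smul_eq_mul] at this
    rw [← this, vecMulVec_apply, mul_comm]
  refine realisable_of_rankOne (abs_iff.1 hP).1 F₀ (a := a) (α := α) ?_ ?_ fun g hg => ?_
  · rintro rfl; exact hE0 i₀ (by rw [he, zero_vecMulVec])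
  · rintro rfl; exact hE0 i₀ (by rw [he, vecMulVec_zero])
  rw [← he]
  have hx : E i₀ * mat g ∈ A := mul_mem (e.symm _).2 (hmap g hg)
  rw [← b.sum_repr (E i₀ * mat g), Matrix.trace_sum]
  refine sum_mem fun i _ => ?_
  rw [Matrix.trace_smul, smul_eq_mul, hkb]
  exact mul_mem ((hA _).1 hx i) (htr _ (hk i))

end Cfsg.Agent.ResidualFour.Even
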