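import Cfsg.Prelude.Def_GeometricClasses
import Cfsg.Agent.Classical.SympGroup

/-!
# Involutions of the four-dimensional symplectic group in characteristic two

An involution `t` with two-dimensional commutator space and with `f (x, (t - 1) x)` not identically
zero has a centraliser of exponent dividing four.
-/

set_option autoImplicit false

open Module Matrix Cfsg.Agent.Classical

namespace Cfsg.Agent.ResidualFour.Even

section abstract

variable {F V : Type*} [Field F] [Finite F] [CharP F 2] [AddCommGroup V] [Module F V]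
  [FiniteDimensional F V]

omit [Finite F] in
/-- Squaring is injective in characteristic two. -/
theorem eq_of_sq {a b : F} (h : a ^ 2 = b ^ 2) : a = b := frobenius_inj F 2 h

/-- Every element of a finite field of characteristic two is a square. -/
theorem exists_sq (a : F) : ∃ b : F, b ^ 2 = a := by
  have : PerfectRing F 2 := PerfectRing.ofFiniteOfIsReduced 2 F
  exact surjective_frobenius F 2 a

theorem sub_one_pow_four (B : V →ₗ[F] V →ₗ[F] F) (halt : ∀ x, B x x = 0)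
    (hnd : ∀ x, (∀ y, B x y = 0) → x = 0) (hd : finrank F V = 4) (N : Module.End F V)
    (hN2 : ∀ x, N (N x) = 0) (hadj : ∀ x y, B (N x) y = B x (N y))
    (hr : finrank F (LinearMap.range N) = 2) (hc : ∃ x, B x (N x) ≠ 0)
    (g : Module.End F V) (hg : ∀ x y, B (g x) (g y) = B x y) (hgN : ∀ x, g (N x) = N (g x)) :
    ∀ x, ((g - 1) ^ 4 : Module.End F V) x = 0 := by
  have h2 : (2 : F) = 0 := CharP.ofNat_eq_zero F 2
  have hsym : ∀ x y, B y x = B x y := fun x y => by
    have h := halt (x + y)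
    simp only [map_add, LinearMap.add_apply, halt, add_zero, zero_add] at h
    linear_combination h - B x y * h2
  have hLL : ∀ x y, B (N x) (N y) = 0 := fun x y => by rw [hadj, hN2, map_zero]
  -- the additive square function
  have hq : ∀ (x y : V) (c : F), B (x + c • y) (N (x + c • y)) = B x (N x) + c ^ 2 * B y (N y) := by
    intro x y c
    have e : B y (N x) = B x (N y) := by rw [← hadj, hsym]
    simp only [map_add, map_smul, LinearMap.add_apply, LinearMap.smul_apply, smul_eq_mul, e]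
    linear_combination c * B x (N y) * h2
  obtain ⟨x₀, ha⟩ := hc
  have hl₀ : N x₀ ≠ 0 := fun e => ha (by rw [e, map_zero])
  obtain ⟨y, hy⟩ : ∃ y, N y ∉ Submodule.span F {N x₀} := by
    by_contra hcon
    push Not at hcon
    have hle : LinearMap.range N ≤ Submodule.span F {N x₀} := by
      rintro _ ⟨z, rfl⟩; exact hcon z
    have := Submodule.finrank_mono hle
    rw [hr, finrank_span_singleton hl₀] at this
    omega
  obtain ⟨c, hc⟩ := exists_sq (B y (N y) / B x₀ (N x₀))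
  set x₁ := y + c • x₀ with hx₁
  have hq₁ : B x₁ (N x₁) = 0 := by
    rw [hx₁, hq, hc, div_mul_cancel₀ _ ha]
    linear_combination B y (N y) * h2
  have hl₁ : N x₁ ∉ Submodule.span F {N x₀} := fun h => hy <| by
    have : N y = N x₁ - c • N x₀ := by rw [hx₁, map_add, map_smul, add_sub_cancel_right]
    rw [this]
    exact sub_mem h (Submodule.smul_mem _ _ (Submodule.mem_span_singleton_self _))
  clear_value x₁
  -- the range is spanned by the two vectors
  have hspan : Submodule.span F {N x₀, N x₁} = LinearMap.range N := by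
    refine Submodule.eq_of_le_of_finrank_le ?_ ?_
    · rw [Submodule.span_le, Set.insert_subset_iff, Set.singleton_subset_iff]
      exact ⟨⟨x₀, rfl⟩, ⟨x₁, rfl⟩⟩
    · rw [hr]
      have hlt : Submodule.span F {N x₀} < Submodule.span F {N x₀, N x₁} :=
        lt_of_le_of_ne (Submodule.span_mono (by simp)) fun e => hl₁ (e ▸ Submodule.subset_span (by simp))
      have := Submodule.finrank_lt_finrank_of_lt hlt
      rw [finrank_span_singleton hl₀] at this
      omega
  have hcomb : ∀ z, ∃ u w : F, N z = u • N x₁ + w • N x₀ := fun z => by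
    have : N z ∈ Submodule.span F {N x₀, N x₁} := hspan ▸ ⟨z, rfl⟩
    obtain ⟨w, u, e⟩ := Submodule.mem_span_pair.1 this
    exact ⟨u, w, by rw [← e, add_comm]⟩
  have hker : LinearMap.ker N = LinearMap.range N := by
    refine (Submodule.eq_of_le_of_finrank_le ?_ ?_).symm
    · rintro _ ⟨z, rfl⟩; exact hN2 z
    · have := N.finrank_range_add_finrank_ker
      omega
  have hpair : ∀ (z : V) (u w : F), N z = u • N x₁ + w • N x₀ →
      B z (N z) = w ^ 2 * B x₀ (N x₀) := fun z u w e => by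
    have hk : z - (u • x₁ + w • x₀) ∈ LinearMap.range N := by
      rw [← hker, LinearMap.mem_ker, map_sub, map_add, map_smul, map_smul, e, sub_self]
    obtain ⟨k, hk⟩ := hk
    have hz : z = N k + u • x₁ + w • x₀ := by rw [hk]; abel
    rw [hz, hq]
    have : B (N k + u • x₁) (N (N k + u • x₁)) = 0 := by
      rw [hq, hN2, map_zero, hq₁, mul_zero, add_zero]
    rw [this, zero_add]
  have hd0 : B x₁ (N x₀) ≠ 0 := fun e => by
    have hz : N x₁ = 0 := hnd _ fun z => by
      obtain ⟨u, w, hz⟩ := hcomb z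
      rw [hadj, hz, map_add, map_smul, map_smul, hq₁, e, smul_zero, smul_zero, add_zero]
    exact hl₁ (hz ▸ zero_mem _)
  -- the action of g
  obtain ⟨u₁, w₁, e₁⟩ := hcomb (g x₁)
  obtain ⟨u₀, w₀, e₀⟩ := hcomb (g x₀)
  have hw₁ : w₁ = 0 := by
    have h := hpair (g x₁) u₁ w₁ e₁
    rw [← hgN, hg, hq₁] at h
    exact pow_eq_zero_iff (n := 2) two_ne_zero |>.1 ((mul_eq_zero.1 h.symm).resolve_right ha)
  have hw₀ : w₀ = 1 := eq_of_sq <| by
    have h := hpair (g x₀) u₀ w₀ e₀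
    rw [← hgN, hg] at h
    exact mul_right_cancel₀ ha (by rw [one_pow, one_mul, ← h])
  rw [hw₁, zero_smul, add_zero] at e₁
  rw [hw₀, one_smul] at e₀
  have hu₁ : u₁ = 1 := by
    have h := hg x₀ (N x₁)
    rw [hgN, e₁] at h
    have h' : B (g x₀) (N x₁) = B x₀ (N x₁) := by
      rw [← hadj, e₀, map_add, map_smul, LinearMap.add_apply, LinearMap.smul_apply]
      have h0 : B (N x₁) x₁ = 0 := by rw [hsym, hq₁]
      simp only [h0, smul_eq_mul, mul_zero, zero_add]
      rw [hadj]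
    rw [map_smul, h', smul_eq_mul] at h
    have hne : B x₀ (N x₁) ≠ 0 := by
      rw [← hadj, hsym]; exact hd0
    exact mul_right_cancel₀ hne (by rw [h, one_mul])
  rw [hu₁, one_smul] at e₁
  have key : ∀ z, (g - 1) ((g - 1) (N z)) = 0 := fun z => by
    have f₁ : (g - 1) (N x₁) = 0 := by simp [LinearMap.sub_apply, hgN, e₁]
    have f₀ : (g - 1) (N x₀) = u₀ • N x₁ := by simp [LinearMap.sub_apply, hgN, e₀]
    obtain ⟨u, w, e⟩ := hcomb z
    rw [e, map_add, map_smul, map_smul, f₁, f₀, smul_zero, zero_add, map_smul, map_smul, f₁,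
      smul_zero, smul_zero]
  intro x
  have hx : (g - 1) ((g - 1) x) ∈ LinearMap.range N := by
    rw [← hker, LinearMap.mem_ker]
    have hcm : ∀ z, N ((g - 1) z) = (g - 1) (N z) := fun z => by
      simp [LinearMap.sub_apply, hgN]
    rw [hcm, hcm, key]
  obtain ⟨z, hz⟩ := hx
  show ((g - 1) ^ 4 : Module.End F V) x = 0
  rw [show ((g - 1) ^ 4 : Module.End F V) = (g - 1) * (g - 1) * ((g - 1) * (g - 1)) by noncomm_ring]
  simp only [Module.End.mul_apply]
  rw [← hz, key]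

end abstract

section matrix

variable {F : Type*} [Field F] [Finite F] [CharP F 2]

/-- The difference of a matrix and one, as a linear map. -/
noncomputable def delta (t : GL (Fin 2 ⊕ Fin 2) F) : Module.End F (Fin 2 ⊕ Fin 2 → F) :=
  Matrix.toLin' ((t : Matrix (Fin 2 ⊕ Fin 2) (Fin 2 ⊕ Fin 2) F) - 1)

omit [Finite F] [CharP F 2] in
theorem delta_apply (t : GL (Fin 2 ⊕ Fin 2) F) (x : Fin 2 ⊕ Fin 2 → F) :
    delta t x = (t : Matrix (Fin 2 ⊕ Fin 2) (Fin 2 ⊕ Fin 2) F) *ᵥ x - x := by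
  rw [delta, Matrix.toLin'_apply, Matrix.sub_mulVec, Matrix.one_mulVec]

/-- An involution of symplectic type `c₂`: two-dimensional commutator, form values not all zero. -/
def IsCTwo (t : GL (Fin 2 ⊕ Fin 2) F) : Prop :=
  finrank F (LinearMap.range (delta t)) = 2 ∧ ∃ x, Cfsg.sympForm 2 F x (delta t x) ≠ 0

theorem pow_four_eq_one {t g : GL (Fin 2 ⊕ Fin 2) F} (ht : t ∈ Cfsg.spGL 2 F) (ht2 : t * t = 1)
    (hc : IsCTwo t) (hg : g ∈ Cfsg.spGL 2 F) (hgt : g * t = t * g) : g ^ 4 = 1 := by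
  have h2 : (2 : F) = 0 := CharP.ofNat_eq_zero F 2
  have htt : ∀ x, (t : Matrix (Fin 2 ⊕ Fin 2) (Fin 2 ⊕ Fin 2) F) *ᵥ ((t : Matrix (Fin 2 ⊕ Fin 2) (Fin 2 ⊕ Fin 2) F) *ᵥ x) = x := fun x => by
    rw [Matrix.mulVec_mulVec, ← Units.val_mul, ht2, Units.val_one, Matrix.one_mulVec]
  have hB : ∀ u v, sympB 2 F ((t : Matrix (Fin 2 ⊕ Fin 2) (Fin 2 ⊕ Fin 2) F) *ᵥ u) ((t : Matrix (Fin 2 ⊕ Fin 2) (Fin 2 ⊕ Fin 2) F) *ᵥ v) = sympB 2 F u v :=
    fun u v => by simp only [sympB_apply]; exact ht u v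
  have hcomm : ∀ x, (g : Matrix (Fin 2 ⊕ Fin 2) (Fin 2 ⊕ Fin 2) F) *ᵥ ((t : Matrix (Fin 2 ⊕ Fin 2) (Fin 2 ⊕ Fin 2) F) *ᵥ x) =
      (t : Matrix (Fin 2 ⊕ Fin 2) (Fin 2 ⊕ Fin 2) F) *ᵥ ((g : Matrix (Fin 2 ⊕ Fin 2) (Fin 2 ⊕ Fin 2) F) *ᵥ x) := fun x => by
    rw [Matrix.mulVec_mulVec, Matrix.mulVec_mulVec, ← Units.val_mul, hgt, Units.val_mul]
  have key := sub_one_pow_four (sympB 2 F) sympB_isAlt sympB_nondeg.1 (by simp) (delta t)
    (fun x => ?_) (fun x y => ?_) hc.1 (hc.2.imp fun x hx => by rwa [sympB_apply])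
    (Matrix.toLin' (g : Matrix (Fin 2 ⊕ Fin 2) (Fin 2 ⊕ Fin 2) F)) (fun x y => by simp only [sympB_apply, Matrix.toLin'_apply]; exact hg x y)
    (fun x => by simp only [delta_apply, Matrix.toLin'_apply, Matrix.mulVec_sub, hcomm])
  · have h4 : (Matrix.toLinAlgEquiv' (g : Matrix (Fin 2 ⊕ Fin 2) (Fin 2 ⊕ Fin 2) F) - 1) ^ 4 = 0 := LinearMap.ext key
    have h5 : ((g : Matrix (Fin 2 ⊕ Fin 2) (Fin 2 ⊕ Fin 2) F) - 1) ^ 4 = 0 := by
      apply Matrix.toLinAlgEquiv'.injective
      rw [map_pow, map_sub, map_one, map_zero, h4]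
    refine Units.ext ?_
    have : CharP (Matrix (Fin 2 ⊕ Fin 2) (Fin 2 ⊕ Fin 2) F) 2 :=
      charP_of_injective_algebraMap (algebraMap F (Matrix (Fin 2 ⊕ Fin 2) (Fin 2 ⊕ Fin 2) F)).injective 2
    rw [Units.val_pow_eq_pow_val, Units.val_one]
    have h6 : ((g : Matrix (Fin 2 ⊕ Fin 2) (Fin 2 ⊕ Fin 2) F) - 1) ^ 2 ^ 2 = (g : Matrix (Fin 2 ⊕ Fin 2) (Fin 2 ⊕ Fin 2) F) ^ 2 ^ 2 - 1 ^ 2 ^ 2 :=
      sub_pow_char_pow_of_commute _ _ (Commute.one_right _)
    rw [one_pow, show (2 : ℕ) ^ 2 = 4 by norm_num, h5] at h6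
    exact sub_eq_zero.1 h6.symm
  · simp only [delta_apply, Matrix.mulVec_sub, htt]
    funext i
    simp only [Pi.sub_apply, Pi.zero_apply]
    linear_combination (x i - ((t : Matrix (Fin 2 ⊕ Fin 2) (Fin 2 ⊕ Fin 2) F) *ᵥ x) i) * h2
  · have e := hB x ((t : Matrix (Fin 2 ⊕ Fin 2) (Fin 2 ⊕ Fin 2) F) *ᵥ y)
    rw [htt] at e
    simp only [delta_apply, map_sub, LinearMap.sub_apply, e]

/-- A group of symplectic matrices centralising an involution of type `c₂` is a two-group. -/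
theorem isPGroup_of_centralises {t : GL (Fin 2 ⊕ Fin 2) F} (ht : t ∈ Cfsg.spGL 2 F) (ht2 : t * t = 1)
    (hc : IsCTwo t) (C : Subgroup (GL (Fin 2 ⊕ Fin 2) F)) (hle : C ≤ Cfsg.spGL 2 F)
    (hcent : ∀ g ∈ C, g * t = t * g) : IsPGroup 2 C := fun g =>
  ⟨2, Subtype.ext (by
    rw [SubgroupClass.coe_pow, OneMemClass.coe_one]
    exact pow_four_eq_one ht ht2 hc (hle g.2) (hcent g g.2))⟩

end matrix

end Cfsg.Agent.ResidualFour.Even
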