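import Cfsg.Agent.ResidualFour.Even.Defs
import Cfsg.Agent.ResidualFour.Even.Involution
import Cfsg.Agent.ResidualFour.Even.Descend
import Cfsg.Agent.Classical.SympGroup

/-!
# Elements of a group all of whose involutions are of type `c₂`
-/

set_option autoImplicit false

open scoped MatrixGroups

namespace Cfsg.Agent.ResidualFour.Even

open Matrix Module Cfsg.Geo Cfsg.Agent.Classical Cfsg.Agent.ClassicalMax Cfsg.Agent.PrimeDim

variable {F : Type*} [Field F] [Fintype F] [CharP F 2] {P : Subgroup (GL I F)}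

theorem isCTwo_of_mem (hle : P ≤ Cfsg.spGL 2 F) (h1 : NoTv P) (h2 : NoShort P) {t : GL I F} (ht : t ∈ P)
    (ht2 : t * t = 1) (hne : t ≠ 1) : IsCTwo t := by
  have hsymp : ∀ x, sympB 2 F x x = 0 := sympB_isAlt
  have htt : ∀ x, (t : Matrix I I F) *ᵥ ((t : Matrix I I F) *ᵥ x) = x := fun x => by
    rw [Matrix.mulVec_mulVec, ← Units.val_mul, ht2, Units.val_one, Matrix.one_mulVec]
  have hz : (2 : F) = 0 := CharP.ofNat_eq_zero F 2
  obtain ⟨x, hx⟩ := h2 t ht ht2 hne
  refine ⟨?_, x, ?_⟩
  swap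
  · rw [← sympB_apply] at hx ⊢
    rwa [delta_apply, map_sub, hsymp, sub_zero]
  have hle2 : finrank F (LinearMap.range (delta t)) ≤ 2 := by
    have hker : LinearMap.range (delta t) ≤ LinearMap.ker (delta t) := by
      rintro _ ⟨y, rfl⟩
      rw [LinearMap.mem_ker]
      simp only [delta_apply, Matrix.mulVec_sub, htt]
      funext i
      simp only [Pi.sub_apply, Pi.zero_apply]
      linear_combination (y i - ((t : Matrix I I F) *ᵥ y) i) * hz
    have h3 := Submodule.finrank_mono hker
    have h4 := LinearMap.finrank_range_add_finrank_ker (delta t)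
    have h5 : finrank F (Fin 2 ⊕ Fin 2 → F) = 4 := by simp
    omega
  have h0 : finrank F (LinearMap.range (delta t)) ≠ 0 := fun e => by
    rw [Submodule.finrank_eq_zero, LinearMap.range_eq_bot] at e
    apply hne
    refine Units.ext (Matrix.ext_of_mulVec_single fun i => ?_)
    have := LinearMap.congr_fun e (Pi.single i 1)
    rw [delta_apply, LinearMap.zero_apply, sub_eq_zero] at this
    rw [this, Units.val_one, Matrix.one_mulVec]
  rcases (show finrank F (LinearMap.range (delta t)) = 1 ∨ finrank F (LinearMap.range (delta t)) = 2 by omega)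
    with h | h
  swap
  · exact h
  exfalso
  obtain ⟨⟨v, hv⟩, hv0, hspan⟩ := finrank_eq_one_iff'.1 h
  have hv0' : v ≠ 0 := fun e => hv0 (Subtype.ext e)
  have hcoef : ∀ y, ∃ a : F, delta t y = a • v := fun y => by
    obtain ⟨a, ha⟩ := hspan ⟨delta t y, LinearMap.mem_range_self _ y⟩
    exact ⟨a, (congrArg Subtype.val ha).symm⟩
  choose φ hφ using hcoef
  obtain ⟨y₀, hy₀⟩ : ∃ y, sympB 2 F v y ≠ 0 := by
    by_contra hcon
    push Not at hcon
    exact hv0' (sympB_nondeg.1 v hcon)
  have hadj : ∀ y z, φ y * sympB 2 F v z = φ z * sympB 2 F y v := fun y z => by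
    have e : sympB 2 F ((t : Matrix I I F) *ᵥ y) ((t : Matrix I I F) *ᵥ ((t : Matrix I I F) *ᵥ z)) =
        sympB 2 F y ((t : Matrix I I F) *ᵥ z) := by simp only [sympB_apply]; exact hle ht _ _
    rw [htt] at e
    have e2 : sympB 2 F (delta t y) z = sympB 2 F y (delta t z) := by
      simp only [delta_apply, map_sub, LinearMap.sub_apply, e]
    rw [hφ, hφ] at e2
    simpa [mul_comm] using e2
  set a := φ y₀ / sympB 2 F v y₀ with ha
  obtain ⟨b, hb⟩ := exists_sq a
  have hdelta : ∀ y, delta t y = (a * sympB 2 F y v) • v := fun y => by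
    rw [hφ]
    congr 1
    rw [ha, div_mul_eq_mul_div, eq_div_iff hy₀]
    exact hadj y y₀
  have hb0 : b ≠ 0 := fun e => by
    rw [e, zero_pow two_ne_zero] at hb
    apply h0
    rw [Submodule.finrank_eq_zero, LinearMap.range_eq_bot]
    exact LinearMap.ext fun y => by rw [hdelta, ← hb, zero_mul, zero_smul, LinearMap.zero_apply]
  refine h1 (b • v) (smul_ne_zero hb0 hv0') ?_
  have hT : T (b • v) = t := by
    apply (glEquiv I F).injective
    rw [T, MulEquiv.apply_symm_apply]
    refine LinearEquiv.ext fun y => ?_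
    rw [Alt.tv_apply, one_mul]
    show _ = (t : Matrix I I F) *ᵥ y
    have := hdelta y
    rw [delta_apply, sub_eq_iff_eq_add'] at this
    rw [this, map_smul, smul_eq_mul, smul_smul, ← hb]
    congr 2
    ring
  rwa [hT]

/-- An element has exponent four or odd order. -/
theorem pow_four_or_odd (hle : P ≤ Cfsg.spGL 2 F) (h1 : NoTv P) (h2 : NoShort P) {g : GL I F} (hg : g ∈ P) :
    g ^ 4 = 1 ∨ Odd (orderOf g) := by
  rcases Nat.even_or_odd (orderOf g) with he | ho
  swap
  · exact Or.inr ho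
  left
  obtain ⟨k, hk⟩ := he
  have hpos : 0 < orderOf g := orderOf_pos g
  have ht2 : g ^ k * g ^ k = 1 := by rw [← pow_add, ← hk, pow_orderOf_eq_one]
  have hne : g ^ k ≠ 1 := fun e => by
    have := Nat.le_of_dvd (by omega) (orderOf_dvd_of_pow_eq_one e)
    omega
  exact pow_four_eq_one (hle (pow_mem hg k)) ht2 (isCTwo_of_mem hle h1 h2 (pow_mem hg k) ht2 hne) (hle hg)
    (Commute.self_pow g k).eq

omit [Fintype F] in
theorem trace_mul_self (M : Matrix I I F) : (M * M).trace = M.trace ^ 2 := by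
  have h : (2 : F) = 0 := CharP.ofNat_eq_zero F 2
  simp only [Matrix.trace, Matrix.diag_apply, Matrix.mul_apply, Fintype.sum_sum_type, Fin.sum_univ_two]
  linear_combination (M (Sum.inl 0) (Sum.inl 1) * M (Sum.inl 1) (Sum.inl 0) +
    M (Sum.inl 0) (Sum.inr 0) * M (Sum.inr 0) (Sum.inl 0) + M (Sum.inl 0) (Sum.inr 1) * M (Sum.inr 1) (Sum.inl 0) +
    M (Sum.inl 1) (Sum.inr 0) * M (Sum.inr 0) (Sum.inl 1) + M (Sum.inl 1) (Sum.inr 1) * M (Sum.inr 1) (Sum.inl 1) +
    M (Sum.inr 0) (Sum.inr 1) * M (Sum.inr 1) (Sum.inr 0) -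
    M (Sum.inl 0) (Sum.inl 0) * M (Sum.inl 1) (Sum.inl 1) - M (Sum.inl 0) (Sum.inl 0) * M (Sum.inr 0) (Sum.inr 0) -
    M (Sum.inl 0) (Sum.inl 0) * M (Sum.inr 1) (Sum.inr 1) - M (Sum.inl 1) (Sum.inl 1) * M (Sum.inr 0) (Sum.inr 0) -
    M (Sum.inl 1) (Sum.inl 1) * M (Sum.inr 1) (Sum.inr 1) - M (Sum.inr 0) (Sum.inr 0) * M (Sum.inr 1) (Sum.inr 1)) * h

omit [Fintype F] in
theorem trace_two_pow (g : GL I F) (n : ℕ) : (mat (g ^ 2 ^ n)).trace = (mat g).trace ^ 2 ^ n := by
  induction n with
  | zero => simp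
  | succ n ih =>
    rw [pow_succ, pow_mul, pow_mul, ← ih, ← trace_mul_self, pow_two]
    rfl

theorem trace_eq_zero_of_pow_four {g : GL I F} (h : g ^ 4 = 1) : (mat g).trace = 0 := by
  have e := trace_two_pow g 2
  rw [show (2 : ℕ) ^ 2 = 4 from rfl, h] at e
  have h2 : (2 : F) = 0 := CharP.ofNat_eq_zero F 2
  have h4 : (mat (1 : GL I F)).trace = 0 := by
    show ((1 : GL I F) : Matrix I I F).trace = 0
    rw [Units.val_one, Matrix.trace_one]
    simp only [Fintype.card_sum, Fintype.card_fin, Nat.reduceAdd, Nat.cast_ofNat]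
    linear_combination 2 * h2
  rw [h4] at e
  exact pow_eq_zero_iff (n := 4) (by norm_num) |>.1 e.symm

/-- Traces fixed by the power of Frobenius when the odd elements are conjugate to their powers. -/
theorem trace_fixed (hle : P ≤ Cfsg.spGL 2 F) (h1 : NoTv P) (h2 : NoShort P) (n : ℕ)
    (hconj : ∀ g ∈ P, Odd (orderOf g) → (mat (g ^ 2 ^ n)).trace = (mat g).trace) {g : GL I F} (hg : g ∈ P) :
    (mat g).trace ^ 2 ^ n = (mat g).trace := by
  rcases pow_four_or_odd hle h1 h2 hg with h | h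
  · rw [trace_eq_zero_of_pow_four h, zero_pow (by positivity)]
  · rw [← trace_two_pow, hconj g hg h]

/-- The elements fixed by a power of Frobenius. -/
def frobField (F : Type*) [Field F] [CharP F 2] (n : ℕ) : Subfield F :=
  haveI : ExpChar F 2 := ExpChar.prime Nat.prime_two
  RingHom.eqLocusField (iterateFrobenius F 2 n) (RingHom.id F)

omit [Fintype F] in
theorem mem_frobField {n : ℕ} {x : F} : x ∈ frobField F n ↔ x ^ 2 ^ n = x := by
  show iterateFrobenius F 2 n x = x ↔ _
  rw [iterateFrobenius_def]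

/-- The field is bounded by the field of traces. -/
theorem card_dvd (hP : Core P) (h1 : NoTv P) (h2 : NoShort P) {n : ℕ} (hn : 0 < n) {e : ℕ}
    (he : Fintype.card F = 2 ^ e)
    (hconj : ∀ g ∈ P, Odd (orderOf g) → (mat (g ^ 2 ^ n)).trace = (mat g).trace) : e ≤ n := by
  classical
  have htop : frobField F n = ⊤ := by
    by_contra hne
    exact hP.no_subfield _ hne (realisable_of_traces hP.absIrred _ fun g hg =>
      mem_frobField.2 (trace_fixed hP.le h1 h2 n hconj hg))
  have hall : ∀ x : F, x ^ 2 ^ n = x := fun x => mem_frobField.1 (htop ▸ Subfield.mem_top x)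
  have hsub : (Finset.univ : Finset F) ⊆ (Polynomial.X ^ 2 ^ n - Polynomial.X : Polynomial F).roots.toFinset := by
    intro x _
    have h2n : 1 < 2 ^ n := Nat.one_lt_two_pow hn.ne'
    rw [Multiset.mem_toFinset, Polynomial.mem_roots (FiniteField.X_pow_card_sub_X_ne_zero F h2n)]
    simp [hall x]
  have hc := (Finset.card_le_card hsub).trans ((Multiset.toFinset_card_le _).trans (Polynomial.card_roots' _))
  rw [FiniteField.X_pow_card_sub_X_natDegree_eq F (Nat.one_lt_two_pow hn.ne'), Finset.card_univ, he] at hc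
  exact (Nat.pow_le_pow_iff_right (by norm_num)).1 hc

omit [CharP F 2] in
/-- The order of the symplectic group. -/
theorem card_dvd_symp (hle : P ≤ Cfsg.spGL 2 F) {q : ℕ} (hq : Fintype.card F = q) :
    Nat.card P ∣ q ^ 4 * ((q ^ 2 - 1) * (q ^ 4 - 1)) := by
  let f : P →* Matrix.symplecticGroup (Fin 2) F :=
    { toFun := fun g => ⟨((g : GL I F) : Matrix I I F), (mem_symplectic_iff _).2 fun u v => by
        rw [sympB_apply, sympB_apply]; exact hle g.2 u v⟩
      map_one' := rfl
      map_mul' := fun _ _ => rfl }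
  have hf : Function.Injective f := fun a b e => Subtype.ext (Units.ext (congrArg Subtype.val e))
  have h := Subgroup.card_dvd_of_injective f hf
  rwa [card_symplecticGroup hq 2, Finset.prod_range_succ, Finset.prod_range_one] at h

end Cfsg.Agent.ResidualFour.Even
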