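import Cfsg.Agent.ResidualFour.Even.L2Moving
import Cfsg.Agent.SL2Class.PSL

/-!
# The case `L₂(2ⁿ)`: the group fixes a quadratic form
-/

set_option autoImplicit false

open scoped MatrixGroups

namespace Cfsg.Agent.ResidualFour.Even

open Matrix Cfsg.Geo Cfsg.Agent.Classical Cfsg.Agent.CITPair

variable {F : Type*} [Field F] [Fintype F] [CharP F 2] {P : Subgroup (GL I F)}

/-- A core group isomorphic to `L₂(2ⁿ)` fixes a non-degenerate quadratic form. -/
theorem exists_form_of_psl_even (hP : Core P) (h1 : NoTv P) (h2 : NoShort P) {K : Type*} [Field K] [Fintype K]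
    {n : ℕ} (hK : Fintype.card K = 2 ^ n) (e : P ≃* Matrix.ProjectiveSpecialLinearGroup (Fin 2) K) :
    ∃ Q : (I → F) → F, Geo.IsNondegenerateQuadraticForm Q ∧ Geo.FixesQuadForm (Geo.matrixSet P) Q := by
  have : Fact (Nat.Prime 2) := ⟨Nat.prime_two⟩
  have : CharP K 2 := charP_of_card_eq_prime_pow hK
  let φ : SpecialLinearGroup (Fin 2) K →* GL I F :=
    P.subtype.comp ((e.symm : _ →* P).comp (SL2Class.proj (F := K)))
  have hrange : φ.range = P := by
    have hs : Function.Surjective ((e.symm : _ →* P).comp (SL2Class.proj (F := K))) :=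
      e.symm.surjective.comp SL2Class.proj_surjective
    rw [MonoidHom.range_comp, MonoidHom.range_eq_top.2 hs, ← MonoidHom.range_eq_map, Subgroup.range_subtype]
  have hinj : Function.Injective φ := by
    refine P.subtype_injective.comp (e.symm.injective.comp fun a b h => ?_)
    rcases SL2Class.proj_eq_iff.1 h with h' | h'
    · exact h'.symm
    · refine coe_inj ?_
      rw [h', Matrix.SpecialLinearGroup.coe_neg]
      funext i j
      exact (CharTwo.neg_eq _).symm
  have hmem : ∀ g, φ g ∈ P := fun g => SetLike.coe_mem _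
  let R : Rep K F :=
    { hom := φ
      symp := fun g => hP.le (hmem g)
      ctwo := fun x hx => isCTwo_of_mem hP.le h1 h2 (hmem _)
        (by
          rw [← map_mul, upU_add, CharTwo.add_self_eq_zero,
            show upU (0 : K) = 1 from coe_inj (by simp [one_fin_two]), map_one])
        fun h => hx (upU_injective (hinj (h.trans (by
          rw [show upU (0 : K) = 1 from coe_inj (by simp [one_fin_two]), map_one]))))
      abs := by rw [hrange]; exact hP.absIrred }
  obtain ⟨Q, hQ, hfix⟩ := R.exists_invariant_form
  refine ⟨Q, hQ, ?_⟩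
  rw [← hrange]
  exact hfix

end Cfsg.Agent.ResidualFour.Even
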