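import Cfsg.Agent.ResidualFour.Even.L2Setup

/-!
# A representation of `SL(2, 2^n)` cannot have one commutator space for all upper transvections

If the space is `L`, then `V = L ⊕ wL` and the representation is an extension of the natural one by the
commutative algebra generated by the torus on `L`, so it is not absolutely irreducible.
-/

set_option autoImplicit false

open scoped MatrixGroups

namespace Cfsg.Agent.ResidualFour.Even

open Matrix Module Cfsg.Geo Cfsg.Agent.Classical Cfsg.Agent.CITPair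

variable {K : Type*} [Field K] [CharP K 2]
variable {F : Type*} [Field F] [Fintype F] [CharP F 2]

local notation "V" => (Fin 2 ⊕ Fin 2 → F)

variable (R : Rep K F)

omit [CharP K 2] in
theorem Rep.op_cancel (g : SpecialLinearGroup (Fin 2) K) (v : V) : R.op g⁻¹ (R.op g v) = v := by
  rw [← R.op_mul_apply, inv_mul_cancel, map_one]; rfl

theorem Rep.op_weyl_weyl (v : V) : R.op weyl (R.op weyl v) = v := by
  rw [← R.op_mul_apply, weyl_mul_self, map_one]; rfl

omit [CharP K 2] in
theorem Rep.N_zero (v : V) : R.N 0 v = 0 := by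
  rw [R.N_apply, show upU (0 : K) = 1 from coe_inj (by simp [one_fin_two]), map_one]
  exact sub_self v

/-- A torus element shifts the parameter of a transvection. -/
theorem Rep.diagT_N (u : Kˣ) (x : K) (v : V) :
    R.op (diagT u) (R.N x v) = R.N ((u : K) * u * x) (R.op (diagT u) v) := by
  rw [R.N_apply, R.N_apply, map_sub, ← R.op_mul_apply, ← R.op_mul_apply, ← diagT_conj, inv_mul_cancel_right]

/-- An endomorphism commuting with the generators is scalar. -/
theorem Rep.scalar_of_commute (C : Module.End F (Fin 2 ⊕ Fin 2 → F))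
    (hU : ∀ x : K, ∀ v, C (R.op (upU x) v) = R.op (upU x) (C v))
    (hw : ∀ v, C (R.op weyl v) = R.op weyl (C v)) : ∃ c : F, ∀ v, C v = c • v := by
  let S : Subgroup (SpecialLinearGroup (Fin 2) K) :=
    { carrier := {g | ∀ v, C (R.op g v) = R.op g (C v)}
      one_mem' := fun v => by rw [map_one]; rfl
      mul_mem' := fun {a b} ha hb v => by rw [R.op_mul_apply, ha, hb, ← R.op_mul_apply]
      inv_mem' := fun {a} ha v => by
        have h := ha (R.op a⁻¹ v)
        rw [← R.op_mul_apply, mul_inv_cancel, map_one] at h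
        rw [show C v = R.op a (C (R.op a⁻¹ v)) from h, R.op_cancel] }
  have hS : ∀ g, g ∈ S := fun g => by
    have hle : Subgroup.closure (Set.range (upU (F := K)) ∪ {weyl}) ≤ S := by
      rw [Subgroup.closure_le]
      rintro g (⟨x, rfl⟩ | rfl) v
      · exact hU x v
      · exact hw v
    exact hle (closure_upU_weyl (K := K) ▸ Subgroup.mem_top g)
  obtain ⟨c, hc⟩ := R.abs.2 (LinearMap.toMatrix' C) (by
    rintro _ ⟨_, ⟨g, rfl⟩, rfl⟩
    refine Matrix.toLin'.injective (LinearMap.ext fun v => ?_)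
    rw [Matrix.toLin'_mul, Matrix.toLin'_mul, LinearMap.comp_apply, LinearMap.comp_apply, Matrix.toLin'_toMatrix',
      Matrix.toLin'_apply, Matrix.toLin'_apply, ← R.op_apply, ← R.op_apply]
    exact hS g v)
  refine ⟨c, fun v => ?_⟩
  rw [← Matrix.toLin'_toMatrix' C, hc, map_smul, Matrix.toLin'_one]
  rfl

/-- The commutator spaces of the upper transvections are not all equal. -/
theorem Rep.not_const : ¬ ∀ x : K, x ≠ 0 → LinearMap.range (R.N x) = LinearMap.range (R.N 1) := by
  classical
  intro hall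
  set L := LinearMap.range (R.N 1) with hLdef
  set w := R.op weyl with hwdef
  have hww : ∀ v, w (w v) = v := R.op_weyl_weyl
  have hin : ∀ x v, R.N x v ∈ L := fun x v => by
    by_cases hx : x = 0
    · rw [hx, R.N_zero]; exact L.zero_mem
    · rw [← hall x hx]; exact LinearMap.mem_range_self _ v
  have hkill : ∀ x, ∀ v ∈ L, R.N x v = 0 := fun x v hv => by
    by_cases hx : x = 0
    · rw [hx, R.N_zero]
    · rw [← LinearMap.mem_ker, R.ker_eq hx, hall x hx]; exact hv
  have hfix : ∀ x, ∀ v ∈ L, R.op (upU x) v = v := fun x v hv => by rw [R.op_upU, hkill x v hv, add_zero]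
  have hL2 : finrank F L = 2 := R.finrank_range one_ne_zero
  set L' := L.map w with hL'def
  have hmemL' : ∀ v, v ∈ L' ↔ w v ∈ L := fun v => by
    constructor
    · rintro ⟨l, hl, rfl⟩; rwa [hww]
    · exact fun h => ⟨w v, h, hww v⟩
  have hdisj : L ⊓ L' = ⊥ := by
    rcases R.invariant_cases (L ⊓ L') (fun x v hv => by rw [hfix x v hv.1]; exact hv)
      (fun v hv => ⟨(hmemL' v).1 hv.2, (hmemL' _).2 (by rw [← hwdef, hww]; exact hv.1)⟩) with h | h
    · exact h
    exfalso
    have h1 : L = ⊤ := top_le_iff.1 (h ▸ inf_le_left)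
    rw [h1, finrank_top] at hL2
    simp at hL2
  have hL'2 : finrank F L' = 2 := by
    exact ((Submodule.equivMapOfInjective w (Function.LeftInverse.injective hww) L).finrank_eq).symm.trans hL2
  have hcompl : IsCompl L L' := by
    refine ⟨disjoint_iff.2 hdisj, codisjoint_iff.2 (Submodule.eq_top_of_finrank_eq ?_)⟩
    have h := Submodule.finrank_sup_add_finrank_inf_eq L L'
    rw [hdisj, finrank_bot, hL2, hL'2] at h
    simp only [Module.finrank_fintype_fun_eq_card, Fintype.card_sum, Fintype.card_fin]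
    omega
  have hbot : ∀ v, v ∈ L → v ∈ L' → v = 0 := fun v h1 h2 => by
    have h : v ∈ L ⊓ L' := ⟨h1, h2⟩
    rwa [hdisj, Submodule.mem_bot] at h
  -- the torus preserves both spaces
  have hTL : ∀ u : Kˣ, ∀ v ∈ L, R.op (diagT u) v ∈ L := by
    rintro u _ ⟨z, rfl⟩
    rw [R.diagT_N]
    exact hin _ _
  have hTL' : ∀ u : Kˣ, ∀ v ∈ L', R.op (diagT u) v ∈ L' := fun u v hv => by
    rw [hmemL'] at hv ⊢
    have e : weyl * diagT u = (diagT u)⁻¹ * weyl := by
      rw [← weyl_diagT, mul_assoc, weyl_mul_self, mul_one]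
    rw [hwdef, ← R.op_mul_apply, e, R.op_mul_apply, ← map_inv]
    exact hTL _ _ hv
  -- the torus on `L`
  have htorus : ∀ u : Kˣ, ∀ l ∈ L, R.op (diagT u) l = R.N (u : K) (w l) := by
    intro u l hl
    have hwl : w l ∈ L' := ⟨l, hl, rfl⟩
    set x : K := (u : K)
    set y : K := ((u⁻¹ : Kˣ) : K)
    have e : diagT u * weyl = upU x * (weyl * upU y * weyl) * upU x := by
      apply coe_inj
      simp [x, y, CharTwo.add_self_eq_zero]
    set n := R.N x (w l) with hn
    set m := w (R.N y (w n)) with hm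
    have hnL : n ∈ L := hin x _
    have hmL' : m ∈ L' := ⟨_, hin y _, rfl⟩
    have h1 : R.op (diagT u * weyl) (w l) = R.op (diagT u) l := by
      rw [R.op_mul_apply, ← hwdef, hww]
    have h2 : R.op (diagT u * weyl) (w l) = w l + m + R.N x (w l + m) + n := by
      rw [e, R.op_mul_apply, R.op_mul_apply, R.op_mul_apply, R.op_mul_apply, R.op_upU x (w l), ← hn, ← hwdef]
      simp only [map_add, hww, hfix y l hl, R.op_upU y (w n), R.op_upU x, ← hn, ← hm, hkill x n hnL]
      abel
    have h3 : w l + m ∈ L := by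
      have h := hTL u l hl
      rw [← h1, h2] at h
      have h' := L.sub_mem h (L.add_mem (hin x (w l + m)) hnL)
      rwa [show w l + m + R.N x (w l + m) + n - (R.N x (w l + m) + n) = w l + m by abel] at h'
    rw [← h1, h2, hbot _ h3 (L'.add_mem hwl hmL'), zero_add, map_zero, zero_add]
  -- a nonscalar endomorphism of `L` commuting with the torus
  obtain ⟨A, hAL, hAcomm, hAns⟩ : ∃ A : Module.End F (Fin 2 ⊕ Fin 2 → F), (∀ l ∈ L, A l ∈ L) ∧
      (∀ u : Kˣ, ∀ l ∈ L, A (R.op (diagT u) l) = R.op (diagT u) (A l)) ∧ ¬ ∃ c : F, ∀ l ∈ L, A l = c • l := by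
    by_cases hsc : ∀ u : Kˣ, ∃ c : F, ∀ l ∈ L, R.op (diagT u) l = c • l
    · obtain ⟨v1, hv1, hv10⟩ := L.ne_bot_iff.1 (fun e => by rw [e, finrank_bot] at hL2; omega)
      obtain ⟨φ, hφ⟩ : ∃ φ : (Fin 2 ⊕ Fin 2 → F) →ₗ[F] F, φ v1 = 1 := by
        obtain ⟨i, hi⟩ := Function.ne_iff.1 hv10
        exact ⟨(v1 i)⁻¹ • LinearMap.proj i, by simp [inv_mul_cancel₀ (show v1 i ≠ 0 from hi)]⟩
      refine ⟨φ.smulRight v1, fun l _ => L.smul_mem _ hv1, fun u l hl => ?_, ?_⟩
      · obtain ⟨c, hc⟩ := hsc u
        rw [hc l hl, map_smul]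
        exact (hc _ (L.smul_mem _ hv1)).symm
      rintro ⟨c, hc⟩
      have h1 := hc v1 hv1
      rw [LinearMap.smulRight_apply, hφ, one_smul] at h1
      have hc1 : c = 1 := by
        have h : (c - 1) • v1 = 0 := by rw [sub_smul, one_smul, ← h1, sub_self]
        simpa [sub_eq_zero] using (smul_eq_zero.1 h).resolve_right hv10
      have hle : L ≤ Submodule.span F {v1} := fun l hl => by
        have h := hc l hl
        rw [LinearMap.smulRight_apply, hc1, one_smul] at h
        exact Submodule.mem_span_singleton.2 ⟨φ l, h⟩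
      have := Submodule.finrank_mono hle
      rw [hL2, finrank_span_singleton hv10] at this
      omega
    · push Not at hsc
      obtain ⟨u₀, hu₀⟩ := hsc
      refine ⟨R.op (diagT u₀), hTL u₀, fun u l _ => ?_, fun ⟨c, hc⟩ => ?_⟩
      · rw [← R.op_mul_apply, ← R.op_mul_apply, ← map_mul, ← map_mul, mul_comm]
      · obtain ⟨l, hl, hne⟩ := hu₀ c
        exact hne (hc l hl)
  let C : Module.End F (Fin 2 ⊕ Fin 2 → F) :=
    LinearMap.ofIsCompl hcompl (A.comp L.subtype) ((w.comp (A.comp w)).comp L'.subtype)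
  have hCL : ∀ l ∈ L, C l = A l := fun l hl => LinearMap.ofIsCompl_apply_left hcompl (⟨l, hl⟩ : L)
  have hCL' : ∀ l ∈ L, C (w l) = w (A l) := fun l hl => by
    rw [show C (w l) = _ from LinearMap.ofIsCompl_apply_right hcompl (⟨w l, l, hl, rfl⟩ : L')]
    show w (A (w (w l))) = w (A l)
    rw [hww]
  have hdec : ∀ v, ∃ l ∈ L, ∃ k ∈ L, v = l + w k := fun v => by
    obtain ⟨l, hl, z, hz, e⟩ := Submodule.mem_sup.1
      (show v ∈ L ⊔ L' from hcompl.sup_eq_top.symm ▸ Submodule.mem_top)
    exact ⟨l, hl, w z, (hmemL' z).1 hz, by rw [hww, e]⟩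
  obtain ⟨c, hc⟩ := R.scalar_of_commute C
    (fun x v => by
      obtain ⟨l, hl, k, hk, rfl⟩ := hdec v
      rw [map_add, map_add, map_add, map_add, hfix x l hl, hfix x (C l) (by rw [hCL l hl]; exact hAL l hl),
        R.op_upU, map_add, hCL' k hk, R.op_upU x (w (A k))]
      congr 2
      rw [hCL _ (hin x _)]
      by_cases hx : x = 0
      · rw [hx, R.N_zero, R.N_zero, map_zero]
      · have h := hAcomm (Units.mk0 x hx) k hk
        rwa [htorus _ _ hk, htorus _ _ (hAL k hk)] at h)
    (fun v => by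
      obtain ⟨l, hl, k, hk, rfl⟩ := hdec v
      rw [← hwdef, map_add w, hww, map_add C, map_add C, hCL' l hl, hCL k hk, hCL l hl, hCL' k hk, map_add w, hww])
  exact hAns ⟨c, fun l hl => by rw [← hCL l hl, hc]⟩

end Cfsg.Agent.ResidualFour.Even
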