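import Cfsg.Agent.ResidualFour.Even.L2Const
import Cfsg.Agent.Classical.Linear2

/-!
# A representation of `SL(2, 2^n)` by `c₂` transvection images fixes a quadratic form

When the commutator spaces move, the axes all lie on one line `Fv`; with `w₀` on the line of `weyl v` and
`M = {v, w₀}^⊥`, the transvection of parameter `x` is given by a vector `m x ∈ M` and a scalar `c x`, and `c` is a
quadratic form in `m`. The quadratic form on the whole space fixed by all upper transvections is then averaged.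
-/

set_option autoImplicit false

open scoped MatrixGroups

namespace Cfsg.Agent.ResidualFour.Even

open Matrix Module Cfsg.Geo Cfsg.Agent.Classical Cfsg.Agent.CITPair

variable {K : Type*} [Field K] [CharP K 2]
variable {F : Type*} [Field F] [Fintype F] [CharP F 2]

local notation "V" => (Fin 2 ⊕ Fin 2 → F)

variable (R : Rep K F)

omit [Fintype F] [CharP F 2] in
theorem eq_zero_of_sympB (d : V) (h : ∀ z, sympB 2 F d z = 0) : d = 0 := sympB_nondeg.1 d h

omit [CharP K 2] in
theorem Rep.N_add_apply (x y : K) (z : V) :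
    R.N (x + y) z = R.N x z + R.N y z + R.N x (R.N y z) := by
  have h : R.op (upU (x + y)) z = R.op (upU x) (R.op (upU y) z) := by rw [← R.op_mul_apply, upU_add]
  rw [R.op_upU y, map_add, R.op_upU x z, R.op_upU x (R.N y z), R.op_upU] at h
  rw [← add_left_cancel_iff (a := z), h]
  abel

/-- The upper transvections fix a quadratic form polarising to the symplectic form. -/
theorem Rep.exists_form [Finite K] : ∃ Q : V → F, (∀ (a : F) y, Q (a • y) = a ^ 2 * Q y) ∧
    (∀ y z, Q (y + z) = Q y + Q z + sympB 2 F y z) ∧ ∀ x y, Q (R.op (upU x) y) = Q y := by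
  classical
  have : Fintype K := Fintype.ofFinite K
  have htwo : (2 : F) = 0 := CharP.ofNat_eq_zero F 2
  rcases R.dichotomy with hall | ⟨⟨x₁, hx₁, hne⟩, v, hv0, hv⟩
  · exact absurd hall R.not_const
  set f := sympB 2 F with hf
  have hff : ∀ y, f y y = 0 := sympB_isAlt
  have hsym : ∀ y z, f y z = f z y := sympB_symm
  have hNv : ∀ x, R.N x v = 0 := fun x => by
    obtain ⟨μ, hμ, h⟩ := hv 1 one_ne_zero
    have := R.N_axis h x
    rwa [map_smul, smul_eq_zero, or_iff_right hμ] at this
  -- the torus fixes the line of `v`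
  have hTv : ∀ u : Kˣ, ∃ a : F, R.op (diagT u) v = a • v := fun u => by
    obtain ⟨μ, hμ, hμv⟩ := hv 1 one_ne_zero
    obtain ⟨ν, hν, hνv⟩ := hv ((u : K) * u * 1) (mul_ne_zero (mul_ne_zero u.ne_zero u.ne_zero) one_ne_zero)
    refine ⟨ν / μ, ?_⟩
    have key : ∀ y, f (R.op (diagT u) y) (ν • v) = f y (μ • v) := fun y => by
      refine eq_of_sq ?_
      rw [← hνv, ← hμv, ← R.diagT_N, R.iso]
    have hd : μ • R.op (diagT u) v - ν • v = 0 := eq_zero_of_sympB _ fun z => by
      have e : z = R.op (diagT u) (R.op (diagT u)⁻¹ z) := by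
        rw [← R.op_mul_apply, mul_inv_cancel, map_one]; rfl
      rw [e, hsym, map_sub, sub_eq_zero, key, ← map_smul, R.iso]
    rw [sub_eq_zero] at hd
    rw [div_eq_inv_mul, ← smul_smul, ← hd, inv_smul_smul₀ hμ]
  -- the vector paired with `v`
  have hvw : f v (R.op weyl v) ≠ 0 := by
    intro h0
    have hperp : ∀ x y, f v y = 0 → R.N x y ∈ Submodule.span F {v} := fun x y hy => by
      by_cases hx : x = 0
      · rw [hx, R.N_zero]; exact Submodule.zero_mem _
      by_contra hn
      have hvR : v ∈ LinearMap.range (R.N x) := by rw [← R.ker_eq hx, LinearMap.mem_ker, hNv]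
      have hspan : Submodule.span F {v, R.N x y} = LinearMap.range (R.N x) := by
        refine Submodule.eq_of_le_of_finrank_le ?_ ?_
        · rw [Submodule.span_le, Set.insert_subset_iff, Set.singleton_subset_iff]
          exact ⟨hvR, LinearMap.mem_range_self _ y⟩
        · rw [R.finrank_range hx]
          have hlt : Submodule.span F {v} < Submodule.span F {v, R.N x y} :=
            lt_of_le_of_ne (Submodule.span_mono (by simp)) fun e => hn (e ▸ Submodule.subset_span (by simp))
          have := Submodule.finrank_lt_finrank_of_lt hlt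
          rw [finrank_span_singleton hv0] at this
          omega
      have hyy : f y (R.N x y) = 0 := by
        obtain ⟨μ, -, h⟩ := hv x hx
        rw [h, map_smul, hsym y v, hy, smul_zero, zero_pow two_ne_zero]
      have horth : ∀ z, f v z = 0 → f (R.N x y) z = 0 := fun z hz => by
        obtain ⟨a, b, e⟩ := Submodule.mem_span_pair.1 (hspan ▸ LinearMap.mem_range_self (R.N x) z :
          R.N x z ∈ Submodule.span F {v, R.N x y})
        rw [R.N_adj, ← e, map_add, map_smul, map_smul, hsym y v, hy, hyy, smul_zero, smul_zero, add_zero]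
      obtain ⟨w₁, hw₁⟩ : ∃ w₁, f v w₁ ≠ 0 := by
        by_contra hcon
        push Not at hcon
        exact hv0 (eq_zero_of_sympB v hcon)
      apply hn
      refine Submodule.mem_span_singleton.2 ⟨f (R.N x y) w₁ / f v w₁, ?_⟩
      refine (sub_eq_zero.1 (eq_zero_of_sympB _ fun z => ?_)).symm
      have hz : f v (z - (f v z / f v w₁) • w₁) = 0 := by
        rw [map_sub, map_smul, smul_eq_mul, div_mul_cancel₀ _ hw₁, sub_self]
      have h := horth _ hz
      rw [map_sub, map_smul, sub_eq_zero] at h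
      rw [map_sub, LinearMap.sub_apply, map_smul, LinearMap.smul_apply, h, smul_eq_mul, smul_eq_mul]
      field_simp
      ring
    have hle : finrank F (Submodule.span F {v, R.op weyl v}) ≤ 2 := by
      refine (finrank_span_le_card _).trans ?_
      rw [Set.toFinset_insert, Set.toFinset_singleton]
      exact Finset.card_le_two
    rcases R.invariant_cases (Submodule.span F {v, R.op weyl v}) (fun x z hz => by
        obtain ⟨a, b, rfl⟩ := Submodule.mem_span_pair.1 hz
        rw [R.op_upU]
        refine Submodule.add_mem _ hz ?_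
        rw [map_add, map_smul, map_smul, hNv, smul_zero, zero_add]
        exact Submodule.smul_mem _ _ (Submodule.span_mono (by simp) (hperp x _ h0)))
      (fun z hz => by
        obtain ⟨a, b, rfl⟩ := Submodule.mem_span_pair.1 hz
        rw [map_add, map_smul, map_smul, R.op_weyl_weyl]
        exact Submodule.mem_span_pair.2 ⟨b, a, add_comm _ _⟩) with h | h
    · exact hv0 ((Submodule.mem_bot F).1 (h ▸ Submodule.subset_span (by simp)))
    · rw [h, finrank_top] at hle
      simp at hle
  obtain ⟨w₀, hw₀⟩ : ∃ w₀ : V, w₀ = (f v (R.op weyl v))⁻¹ • R.op weyl v := ⟨_, rfl⟩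
  have hvw₀ : f v w₀ = 1 := by rw [hw₀, map_smul, smul_eq_mul, inv_mul_cancel₀ hvw]
  have hwv₀ : f w₀ v = 1 := by rw [hsym, hvw₀]
  -- the data of a transvection
  set c : K → F := fun x => f w₀ (R.N x w₀) with hc
  set m : K → V := fun x => R.N x w₀ + c x • v with hm
  have hNw : ∀ x, R.N x w₀ = m x + c x • v := fun x => by
    rw [hm]; show _ = R.N x w₀ + c x • v + c x • v
    rw [add_assoc, two_smul_V, add_zero]
  have hvm : ∀ x, f v (m x) = 0 := fun x => by
    rw [hm]; simp only [map_add, map_smul, smul_eq_mul, hff, mul_zero, add_zero]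
    rw [← R.N_adj, hNv, map_zero, LinearMap.zero_apply]
  have hwm : ∀ x, f w₀ (m x) = 0 := fun x => by
    rw [hm]; simp only [map_add, map_smul, smul_eq_mul, hwv₀, mul_one]
    exact CharTwo.add_self_eq_zero (c x)
  -- the action on everything
  have hNM : ∀ x z, f v z = 0 → f w₀ z = 0 → R.N x z = f (m x) z • v := fun x z hz1 hz2 => by
    by_cases hx : x = 0
    · subst hx; simp [hm, R.N_zero, hc]
    have hform : ∀ y, f y (R.N x y) = c x * f v y ^ 2 := fun y => by
      obtain ⟨μ, -, h⟩ := hv x hx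
      rw [hc]; dsimp only
      rw [h, h, map_smul, map_smul, hwv₀, smul_eq_mul, smul_eq_mul, hsym y v]
      ring
    by_cases hn : R.N x z ∈ Submodule.span F {v}
    · obtain ⟨a, ha⟩ := Submodule.mem_span_singleton.1 hn
      rw [← ha]
      congr 1
      have h : f (R.N x w₀) z = f w₀ (a • v) := by rw [R.N_adj, ha]
      rw [hNw, map_add, LinearMap.add_apply, map_smul, LinearMap.smul_apply, hz1, map_smul, hwv₀] at h
      simpa using h.symm
    exfalso
    have hvR : v ∈ LinearMap.range (R.N x) := by rw [← R.ker_eq hx, LinearMap.mem_ker, hNv]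
    have hspan : Submodule.span F {v, R.N x z} = LinearMap.range (R.N x) := by
      refine Submodule.eq_of_le_of_finrank_le ?_ ?_
      · rw [Submodule.span_le, Set.insert_subset_iff, Set.singleton_subset_iff]
        exact ⟨hvR, LinearMap.mem_range_self _ z⟩
      · rw [R.finrank_range hx]
        have hlt : Submodule.span F {v} < Submodule.span F {v, R.N x z} :=
          lt_of_le_of_ne (Submodule.span_mono (by simp)) fun e => hn (e ▸ Submodule.subset_span (by simp))
        have := Submodule.finrank_lt_finrank_of_lt hlt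
        rw [finrank_span_singleton hv0] at this
        omega
    have hzz : f z (R.N x z) = 0 := by rw [hform, hz1, zero_pow two_ne_zero, mul_zero]
    have horth : ∀ y, f v y = 0 → f (R.N x z) y = 0 := fun y hy => by
      obtain ⟨a, b, e⟩ := Submodule.mem_span_pair.1 (hspan ▸ LinearMap.mem_range_self (R.N x) y :
        R.N x y ∈ Submodule.span F {v, R.N x z})
      rw [R.N_adj, ← e, map_add, map_smul, map_smul, hsym z v, hz1, hzz, smul_zero, smul_zero, add_zero]
    apply hn
    refine Submodule.mem_span_singleton.2 ⟨f (R.N x z) w₀, ?_⟩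
    refine (sub_eq_zero.1 (eq_zero_of_sympB _ fun y => ?_)).symm
    have hy : f v (y - f v y • w₀) = 0 := by rw [map_sub, map_smul, smul_eq_mul, hvw₀, mul_one, sub_self]
    have h := horth _ hy
    rw [map_sub, map_smul, sub_eq_zero] at h
    rw [map_sub, LinearMap.sub_apply, map_smul, LinearMap.smul_apply, h, smul_eq_mul, smul_eq_mul]
    ring
  have hNgen : ∀ x y, R.N x y = f v y • m x + (f v y * c x + f (m x) y) • v := fun x y => by
    set z := y - f w₀ y • v - f v y • w₀ with hz
    have hz1 : f v z = 0 := by rw [hz]; simp [hff, hvw₀]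
    have hz2 : f w₀ z = 0 := by rw [hz]; simp [hff, hwv₀]
    have hy : y = f w₀ y • v + f v y • w₀ + z := by rw [hz]; abel
    conv_lhs => rw [hy]
    rw [map_add, map_add, map_smul, map_smul (R.N x) (f v y) w₀, hNv, smul_zero, zero_add, hNw, hNM x z hz1 hz2]
    have e : f (m x) z = f (m x) y := by rw [hz]; simp [hsym (m x) v, hsym (m x) w₀, hvm, hwm]
    rw [e, smul_add, smul_smul, add_smul]
    abel
  have hadd : ∀ x y, c (x + y) = c x + c y + f (m x) (m y) ∧ m (x + y) = m x + m y := fun x y => by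
    have h : R.N (x + y) w₀ = m x + c x • v + (m y + c y • v) + f (m x) (m y) • v := by
      rw [R.N_add_apply, hNw, hNw, hNgen x (m y + c y • v)]
      simp [hvm, hff, hsym (m x) v]
    have hcc : c (x + y) = c x + c y + f (m x) (m y) := by
      show f w₀ (R.N (x + y) w₀) = _
      rw [h]
      simp [hwm, hwv₀]
    refine ⟨hcc, ?_⟩
    show R.N (x + y) w₀ + c (x + y) • v = _
    rw [h, hcc]
    funext i
    simp only [Pi.add_apply, Pi.smul_apply, smul_eq_mul]
    linear_combination ((c x + c y + f (m x) (m y)) * v i) * htwo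
  -- the torus
  have hscale : ∀ y : K, y ≠ 0 → ∃ (B : Module.End F V) (χ : F), (∀ x, m (y * x) = B (m x)) ∧
      (∀ x, c (y * x) = χ * c x) ∧ ∀ z z', f (B z) (B z') = χ * f z z' := fun y hy => by
    obtain ⟨r, hr⟩ := exists_sq y
    have hr0 : r ≠ 0 := fun e => hy (by rw [← hr, e, zero_pow two_ne_zero])
    set u := Units.mk0 r hr0 with hu
    obtain ⟨a, ha⟩ := hTv u
    obtain ⟨b, hb⟩ := hTv u⁻¹
    have hTw : R.op (diagT u) w₀ = b • w₀ := by
      have e : diagT u * weyl = weyl * diagT u⁻¹ := by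
        rw [map_inv, ← weyl_diagT, ← mul_assoc, ← mul_assoc, weyl_mul_self, one_mul]
      rw [hw₀, map_smul, ← R.op_mul_apply, e, R.op_mul_apply, hb, map_smul, smul_comm]
    have hab : a * b = 1 := by
      have h := R.iso (diagT u) v w₀
      simp only [ha, hTw, ← hf, map_smul, LinearMap.smul_apply, hvw₀, smul_eq_mul] at h
      rw [← h]
      ring
    have hyu : ∀ x, y * x = (u : K) * u * x := fun x => by rw [hu, Units.val_mk0, ← sq, hr]
    have hN : ∀ x, R.N (y * x) w₀ = a • R.op (diagT u) (m x) + (a * a * c x) • v := fun x => by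
      have h := R.diagT_N u x w₀
      rw [hTw, map_smul, ← hyu, hNw x, map_add, map_smul, ha] at h
      calc R.N (y * x) w₀ = (a * b) • R.N (y * x) w₀ := by rw [hab, one_smul]
        _ = a • (R.op (diagT u) (m x) + c x • a • v) := by rw [← smul_smul, ← h]
        _ = _ := by rw [smul_add, smul_smul, smul_smul]; congr 2; ring
    have hwT : ∀ x, f w₀ (R.op (diagT u) (m x)) = 0 := fun x => by
      have h := R.iso (diagT u) w₀ (m x)
      simp only [hTw, ← hf, map_smul, LinearMap.smul_apply, hwm, smul_eq_mul, mul_eq_zero] at h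
      exact h.resolve_left (right_ne_zero_of_mul_eq_one hab)
    have hcy : ∀ x, c (y * x) = a * a * c x := fun x => by
      show f w₀ (R.N (y * x) w₀) = _
      rw [hN]
      simp [hwT, hwv₀]
    refine ⟨a • R.op (diagT u), a * a, fun x => ?_, hcy, fun z z' => ?_⟩
    · show R.N (y * x) w₀ + c (y * x) • v = _
      rw [hN, hcy, add_assoc, two_smul_V, add_zero]
      rfl
    · simp [R.iso, hf, mul_assoc]
  have hm0 : m 0 = 0 := by simp [hm, hc, R.N_zero]
  have hc0 : c 0 = 0 := by simp [hc, R.N_zero]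
  have hcne : ∀ x, x ≠ 0 → c x ≠ 0 := fun x hx => by
    obtain ⟨μ, hμ, h⟩ := hv x hx
    rw [hc]; dsimp only
    rw [h, map_smul, hwv₀, smul_eq_mul, mul_one]
    exact pow_ne_zero 2 hμ
  -- two independent values
  obtain ⟨x₀, y₀, hκ⟩ : ∃ x₀ y₀, f (m x₀) (m y₀) ≠ 0 := by
    by_contra hcon
    push Not at hcon
    apply hne
    refine (Submodule.eq_of_le_of_finrank_le ?_ ?_).symm
    · rintro _ ⟨y, rfl⟩
      rw [← R.ker_eq hx₁, LinearMap.mem_ker, hNgen 1 y, map_add, map_smul, map_smul, hNv, smul_zero, add_zero,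
        hNgen x₁ (m 1)]
      simp [hvm, hcon]
    · rw [R.finrank_range hx₁, R.finrank_range one_ne_zero]
  set κ := f (m x₀) (m y₀) with hκdef
  have hdec : ∀ y, y = f w₀ y • v + f v y • w₀ + (f y (m y₀) / κ) • m x₀ + (f (m x₀) y / κ) • m y₀ := by
    intro y
    let e : Fin 4 → V := ![v, w₀, m x₀, m y₀]
    have he : LinearIndependent F e := by
      rw [Fintype.linearIndependent_iff]
      intro g hg
      simp only [Fin.sum_univ_four] at hg
      have h1 := congrArg (f v) hg
      have h2 := congrArg (f w₀) hg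
      have h3 := congrArg (f (m x₀)) hg
      have h4 := congrArg (f (m y₀)) hg
      simp [e, hff, hvm, hwm, hvw₀, hwv₀, hsym (m x₀) v, hsym (m x₀) w₀, hsym (m y₀) v, hsym (m y₀) w₀,
        hsym (m y₀) (m x₀), ← hκdef, hκ] at h1 h2 h3 h4
      intro i
      fin_cases i <;> assumption
    have htop : Submodule.span F (Set.range e) = ⊤ := he.span_eq_top_of_card_eq_finrank (by simp)
    rw [← sub_eq_zero]
    set d := y - (f w₀ y • v + f v y • w₀ + (f y (m y₀) / κ) • m x₀ + (f (m x₀) y / κ) • m y₀) with hd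
    refine eq_zero_of_sympB d fun z => ?_
    have hz : z ∈ Submodule.span F (Set.range e) := htop ▸ Submodule.mem_top
    have hker : Submodule.span F (Set.range e) ≤ LinearMap.ker (f d) := by
      rw [Submodule.span_le]
      rintro _ ⟨i, rfl⟩
      rw [SetLike.mem_coe, LinearMap.mem_ker]
      fin_cases i <;>
        simp [e, hd, hff, hvm, hwm, hvw₀, hwv₀, hsym (m x₀) v, hsym (m x₀) w₀, hsym (m y₀) v, hsym (m y₀) w₀,
          hsym (m y₀) (m x₀), hsym y v, hsym y w₀, hsym y (m x₀), ← hκdef, hκ]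
    exact LinearMap.mem_ker.1 (hker hz)
  set q : V → F := fun y => (f y (m y₀) / κ) ^ 2 * c x₀ + (f (m x₀) y / κ) ^ 2 * c y₀ +
    (f y (m y₀) / κ) * (f (m x₀) y / κ) * κ with hq
  have hmdec : ∀ z, m z = (f (m z) (m y₀) / κ) • m x₀ + (f (m x₀) (m z) / κ) • m y₀ := fun z => by
    conv_lhs => rw [hdec (m z), hvm, hwm, zero_smul, zero_smul, zero_add, zero_add]
  have hcq : ∀ z, c z = q (m z) := fun z => by
    by_cases hz : z = 0
    · subst hz; simp [hc0, hm0, hq]
    have hx0 : x₀ ≠ 0 := fun e => hκ (by rw [hκdef, e, hm0, map_zero, LinearMap.zero_apply])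
    have hy0 : y₀ ≠ 0 := fun e => hκ (by rw [hκdef, e, hm0, map_zero])
    have hc1 : c 1 ≠ 0 := hcne 1 one_ne_zero
    obtain ⟨B, χ, hBm, hBc, hBf⟩ := hscale z hz
    obtain ⟨Bx, χx, hxm, hxc, hxf⟩ := hscale x₀ hx0
    obtain ⟨By, χy, hym, hyc, hyf⟩ := hscale y₀ hy0
    have ex : c x₀ = χx * c 1 := by rw [← hxc, mul_one]
    have ey : c y₀ = χy * c 1 := by rw [← hyc, mul_one]
    have ez : c z = χ * c 1 := by rw [← hBc, mul_one]
    have e11 : f (Bx (m x₀)) (By (m x₀)) = χx * κ := by
      rw [← hxm, ← hym, mul_comm y₀ x₀, hxm, hxm, hxf, ← hκdef]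
    have e22 : f (Bx (m y₀)) (By (m y₀)) = χy * κ := by
      rw [← hxm, ← hym, mul_comm x₀ y₀, hym, hym, hyf, ← hκdef]
    have e21 : f (Bx (m y₀)) (By (m x₀)) = 0 := by
      rw [← hxm, ← hym, mul_comm y₀ x₀, hff]
    have e12 : f (Bx (m x₀)) (By (m y₀)) * c 1 = κ ^ 2 := by
      rw [← hxm, ← hym]
      have hs := (hadd (x₀ * x₀) (y₀ * y₀)).1
      have hxy := (hadd x₀ y₀).1
      rw [← hκdef] at hxy
      have hsq : ∀ t : K, c (t * t) * c 1 = c t ^ 2 := fun t => by
        by_cases ht : t = 0
        · simp [ht, hc0]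
        · obtain ⟨-, χt, -, htc, -⟩ := hscale t ht
          have et : c t = χt * c 1 := by rw [← htc, mul_one]
          rw [htc, et]; ring
      have e : x₀ * x₀ + y₀ * y₀ = (x₀ + y₀) * (x₀ + y₀) := (CharTwo.add_mul_self x₀ y₀).symm
      have h1 := hsq (x₀ + y₀)
      rw [← e, hs, hxy] at h1
      linear_combination h1 - hsq x₀ - hsq y₀ + (c x₀ * c y₀ + c x₀ * κ + c y₀ * κ) * htwo
    have key : χ * κ = f (Bx (m z)) (By (m z)) := by
      rw [← hxm, ← hym, mul_comm x₀ z, mul_comm y₀ z, hBm, hBm, hBf, hκdef]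
    rw [hmdec z] at key
    simp only [map_add, map_smul, LinearMap.add_apply, LinearMap.smul_apply, smul_eq_mul, e11, e22, e21] at key
    show c z = _
    rw [hq]; dsimp only
    refine mul_right_cancel₀ hκ ?_
    rw [ez, ex, ey]
    linear_combination c 1 * key + (f (m z) (m y₀) / κ) * (f (m x₀) (m z) / κ) * e12
  refine ⟨fun y => f v y * f w₀ y + q y, fun a y => ?_, fun y z => ?_, fun x y => ?_⟩
  · simp only [hq, map_smul, LinearMap.smul_apply, smul_eq_mul]
    ring
  · have hfy : f y z = f w₀ y * f v z + f v y * f w₀ z + (f y (m y₀) / κ) * f (m x₀) z +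
        (f (m x₀) y / κ) * f (m y₀) z := by
      conv_lhs => rw [hdec y]
      simp only [map_add, map_smul, LinearMap.add_apply, LinearMap.smul_apply, smul_eq_mul]
    simp only [hq, map_add, LinearMap.add_apply, hfy, hsym (m y₀) z]
    linear_combination ((f y (m y₀) / κ) * (f z (m y₀) / κ) * c x₀ +
      (f (m x₀) y / κ) * (f (m x₀) z / κ) * c y₀) * htwo +
      (f y (m y₀) / κ) * (div_mul_cancel₀ (f (m x₀) z) hκ) + (f (m x₀) y / κ) * (div_mul_cancel₀ (f z (m y₀)) hκ)
  · have h1 : f v (R.op (upU x) y) = f v y := by rw [R.op_upU, hNgen]; simp [hvm, hff]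
    have h2 : f w₀ (R.op (upU x) y) = f w₀ y + (f v y * c x + f (m x) y) := by
      rw [R.op_upU, hNgen]; simp [hwm, hwv₀]
    have h3 : f (R.op (upU x) y) (m y₀) = f y (m y₀) + f v y * f (m x) (m y₀) := by
      rw [R.op_upU, hNgen]; simp [hvm]
    have h4 : f (m x₀) (R.op (upU x) y) = f (m x₀) y + f v y * f (m x₀) (m x) := by
      rw [R.op_upU, hNgen]; simp [hsym (m x₀) v, hvm]
    have hmxy : f (m x) y = (f (m x) (m y₀) / κ) * f (m x₀) y + (f (m x₀) (m x) / κ) * f y (m y₀) := by
      conv_lhs => rw [hmdec x]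
      simp [hsym (m y₀) y]
    have hcx := hcq x
    simp only [hq] at hcx ⊢
    rw [h1, h2, h3, h4, hmxy, hcx]
    field_simp
    linear_combination (f v y ^ 2 * (f (m x) (m y₀) ^ 2 * c x₀ + f (m x₀) (m x) ^ 2 * c y₀ +
      f (m x) (m y₀) * f (m x₀) (m x) * κ) + f v y * f y (m y₀) * f (m x) (m y₀) * c x₀ +
      f v y * f (m x₀) y * f (m x₀) (m x) * c y₀ +
      f v y * κ * (f (m x) (m y₀) * f (m x₀) y + f (m x₀) (m x) * f y (m y₀))) * htwo

/-- The representation fixes a non-degenerate quadratic form. -/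
theorem Rep.exists_invariant_form [Finite K] : ∃ Q : V → F, Geo.IsNondegenerateQuadraticForm Q ∧
    Geo.FixesQuadForm (matrixSet R.hom.range) Q := by
  classical
  have : Fintype K := Fintype.ofFinite K
  obtain ⟨Q, hQs, hQa, hQu⟩ := R.exists_form
  let _ : Fintype (SpecialLinearGroup (Fin 2) K ⧸ upGroup K) := Fintype.ofFinite _
  let Qc : V → SpecialLinearGroup (Fin 2) K ⧸ upGroup K → F := fun y c => Quotient.liftOn' c
    (fun g => Q (R.op g⁻¹ y)) fun a b h => by
      obtain ⟨x, hx⟩ := QuotientGroup.leftRel_apply.1 h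
      have : b⁻¹ = (upU x)⁻¹ * a⁻¹ := by rw [hx]; group
      rw [this, R.op_mul_apply]
      have hi : (upU x : SpecialLinearGroup (Fin 2) K)⁻¹ = upU x := inv_eq_of_mul_eq_one_right (by
        rw [upU_add, CharTwo.add_self_eq_zero]; exact coe_inj (by simp [one_fin_two]))
      rw [hi, hQu]
  have hodd : ((Fintype.card (SpecialLinearGroup (Fin 2) K ⧸ upGroup K) : ℕ) : F) = 1 := by
    have h := Subgroup.card_eq_card_quotient_mul_card_subgroup (upGroup K)
    rw [card_upGroup, card_sl2, Nat.card_eq_fintype_card, Nat.card_eq_fintype_card, mul_comm] at h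
    have hn := Nat.eq_of_mul_eq_mul_right Fintype.card_pos h
    rw [← hn]
    obtain ⟨n, -, hn2⟩ := FiniteField.card K 2
    have he : Even (Fintype.card K ^ 2) := by
      rw [hn2, ← pow_mul]; exact even_two.pow_of_ne_zero (Nat.mul_ne_zero n.ne_zero two_ne_zero)
    rw [Nat.cast_sub (Nat.one_le_pow _ _ Fintype.card_pos), Nat.cast_one, CharTwo.sub_eq_add]
    obtain ⟨k, hk⟩ := he
    rw [hk, Nat.cast_add, CharTwo.add_self_eq_zero, zero_add]
  have hQ' : ∀ y z, (∑ c, Qc (y + z) c) = (∑ c, Qc y c) + (∑ c, Qc z c) + sympB 2 F y z := fun y z => by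
    have h : ∀ c, Qc (y + z) c = Qc y c + Qc z c + sympB 2 F y z := fun c => by
      induction c using QuotientGroup.induction_on with
      | _ g =>
        show Q (R.op g⁻¹ (y + z)) = Q (R.op g⁻¹ y) + Q (R.op g⁻¹ z) + _
        rw [map_add, hQa, R.iso]
    simp_rw [h, Finset.sum_add_distrib]
    rw [Finset.sum_const, Finset.card_univ, nsmul_eq_mul, hodd, one_mul]
  have hpolar : QuadraticMap.polar (fun y => ∑ c, Qc y c) = fun y z => sympB 2 F y z := by
    funext y z
    rw [QuadraticMap.polar, hQ']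
    ring
  refine ⟨fun y => ∑ c, Qc y c, ⟨fun a y => ?_, ?_, ?_⟩, ?_⟩
  · rw [Finset.mul_sum]
    refine Finset.sum_congr rfl fun c _ => ?_
    induction c using QuotientGroup.induction_on with
    | _ g =>
      show Q (R.op g⁻¹ (a • y)) = a ^ 2 * Q (R.op g⁻¹ y)
      rw [map_smul, hQs]
  · rw [hpolar]
    exact ⟨fun x y z => by simp, fun a x y => by simp, fun x y z => by simp, fun a x y => by simp⟩
  · rw [hpolar]
    intro y hy
    obtain ⟨z, hz⟩ : ∃ z, sympB 2 F y z ≠ 0 := by
      by_contra hcon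
      push Not at hcon
      exact hy (eq_zero_of_sympB y hcon)
    exact ⟨⟨z, by show sympB 2 F z y ≠ 0; rwa [sympB_symm]⟩, z, hz⟩
  · rintro _ ⟨_, ⟨g, rfl⟩, rfl⟩ y
    show ∑ c, Qc (((R.hom g : GL I F) : Matrix I I F) *ᵥ y) c = ∑ c, Qc y c
    rw [← R.op_apply]
    refine Fintype.sum_equiv (MulAction.toPerm g⁻¹) _ _ fun c => ?_
    induction c using QuotientGroup.induction_on with
    | _ a =>
      show Q (R.op a⁻¹ (R.op g y)) = Q (R.op (g⁻¹ * a)⁻¹ y)
      rw [← R.op_mul_apply, _root_.mul_inv_rev, inv_inv]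

end Cfsg.Agent.ResidualFour.Even
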