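import Cfsg.Agent.ResidualFour.Even.Elements
import Cfsg.Agent.CITPair.SL2Data

/-!
# Representations of `SL(2, 2^n)` in `Sp(4, q)` with all involutions of type `c₂`: first facts
-/

set_option autoImplicit false

open scoped MatrixGroups

namespace Cfsg.Agent.ResidualFour.Even

open Matrix Module Cfsg.Geo Cfsg.Agent.Classical Cfsg.Agent.CITPair

variable {K : Type*} [Field K] [CharP K 2]

/-- The upper unitriangular matrices and the Weyl element generate. -/
theorem closure_upU_weyl : Subgroup.closure (Set.range (upU (F := K)) ∪ {weyl}) = ⊤ := by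
  set M := Subgroup.closure (Set.range (upU (F := K)) ∪ {weyl}) with hM
  have hU : ∀ x : K, upU x ∈ M := fun x => Subgroup.subset_closure (Or.inl ⟨x, rfl⟩)
  have hW : (weyl : SpecialLinearGroup (Fin 2) K) ∈ M := Subgroup.subset_closure (Or.inr rfl)
  have hT : ∀ u : Kˣ, diagT u ∈ M := fun u => by
    have e : (diagT u : SpecialLinearGroup (Fin 2) K) =
        upU (u : K) * (weyl * upU ((u⁻¹ : Kˣ) : K) * weyl) * upU (u : K) * weyl := by
      apply coe_inj
      simp [CharTwo.add_self_eq_zero]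
    rw [e]
    exact M.mul_mem (M.mul_mem (M.mul_mem (hU _) (M.mul_mem (M.mul_mem hW (hU _)) hW)) (hU _)) hW
  have hB : ∀ g : SpecialLinearGroup (Fin 2) K, g.1 1 0 = 0 → g ∈ M := fun g hg => by
    obtain ⟨u, c, rfl⟩ := eq_of_lower_zero hg
    exact M.mul_mem (hT u) (hU c)
  rw [eq_top_iff]
  intro g _
  by_cases hg : g.1 1 0 = 0
  · exact hB g hg
  set t : K := -(g.1 0 0 / g.1 1 0) with ht
  have h1 : weyl * (upU t * g) ∈ M := hB _ (by
    simp [Matrix.mul_apply, Fin.sum_univ_two, ht, Matrix.vecMul, dotProduct]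
    field_simp
    ring)
  have h2 := M.mul_mem (M.inv_mem (hU t)) (M.mul_mem (M.inv_mem hW) h1)
  rwa [inv_mul_cancel_left, inv_mul_cancel_left] at h2

variable {F : Type*} [Field F] [Fintype F] [CharP F 2]

/-- A representation of `SL(2, K)` by symplectic matrices in which the transvections become involutions of
type `c₂`. -/
structure Rep (K F : Type*) [Field K] [Field F] [Fintype F] [CharP F 2] where
  /-- the homomorphism -/
  hom : SpecialLinearGroup (Fin 2) K →* GL I F
  symp : ∀ g, hom g ∈ Cfsg.spGL 2 F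
  ctwo : ∀ x : K, x ≠ 0 → IsCTwo (hom (upU x))
  abs : ActsAbsolutelyIrreducibly (matrixSet hom.range)

variable (R : Rep K F)

local notation "V" => (Fin 2 ⊕ Fin 2 → F)

/-- The linear map of an element. -/
noncomputable def Rep.op : SpecialLinearGroup (Fin 2) K →* Module.End F (Fin 2 ⊕ Fin 2 → F) where
  toFun g := Matrix.toLin' ((R.hom g : GL I F) : Matrix I I F)
  map_one' := by rw [map_one, Units.val_one, Matrix.toLin'_one]; rfl
  map_mul' g h := by rw [map_mul, Units.val_mul, Matrix.toLin'_mul]; rfl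

omit [CharP K 2] in
theorem Rep.op_apply (g : SpecialLinearGroup (Fin 2) K) (v : V) :
    R.op g v = ((R.hom g : GL I F) : Matrix I I F) *ᵥ v := Matrix.toLin'_apply _ _

omit [CharP K 2] in
theorem Rep.op_mul_apply (g h : SpecialLinearGroup (Fin 2) K) (v : V) : R.op (g * h) v = R.op g (R.op h v) := by
  rw [map_mul]; rfl

/-- The nilpotent part of a transvection. -/
noncomputable def Rep.N (x : K) : Module.End F (Fin 2 ⊕ Fin 2 → F) := delta (R.hom (upU x))

omit [CharP K 2] in
theorem Rep.N_apply (x : K) (v : V) : R.N x v = R.op (upU x) v - v := by rw [Rep.N, delta_apply, R.op_apply]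

omit [CharP K 2] in
theorem Rep.op_upU (x : K) (v : V) : R.op (upU x) v = v + R.N x v := by rw [R.N_apply, add_sub_cancel]

omit [CharP K 2] in
theorem Rep.iso (g : SpecialLinearGroup (Fin 2) K) (u v : V) :
    sympB 2 F (R.op g u) (R.op g v) = sympB 2 F u v := by
  rw [R.op_apply, R.op_apply, sympB_apply, sympB_apply]; exact R.symp g u v

omit [Fintype F] in
theorem two_smul_V (v : V) : v + v = 0 := by
  funext i
  exact CharTwo.add_self_eq_zero (v i)

omit [Fintype F] in
theorem sub_eq_add_V (u v : V) : u - v = u + v := by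
  funext i
  exact CharTwo.sub_eq_add (u i) (v i)

omit [Fintype F] in
theorem sympB_symm (u v : V) : sympB 2 F u v = sympB 2 F v u := by
  rw [← (sympB_isAlt (F := F) (m := 2)).neg_eq v u, CharTwo.neg_eq]

theorem Rep.op_op_upU (x : K) (v : V) : R.op (upU x) (R.op (upU x) v) = v := by
  rw [← R.op_mul_apply, upU_add, CharTwo.add_self_eq_zero,
    show upU (0 : K) = 1 from coe_inj (by simp [one_fin_two]), map_one]
  rfl

theorem Rep.N_N (x : K) (v : V) : R.N x (R.N x v) = 0 := by
  rw [R.N_apply x (R.N x v), R.N_apply, map_sub, R.op_op_upU, sub_eq_add_V, sub_eq_add_V, sub_eq_add_V, add_comm v,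
    two_smul_V]

theorem Rep.N_adj (x : K) (u v : V) : sympB 2 F (R.N x u) v = sympB 2 F u (R.N x v) := by
  have h := R.iso (upU x) u (R.op (upU x) v)
  rw [R.op_op_upU] at h
  rw [R.N_apply, R.N_apply, map_sub, map_sub, LinearMap.sub_apply, h]

omit [CharP K 2] in
theorem Rep.finrank_range {x : K} (hx : x ≠ 0) : finrank F (LinearMap.range (R.N x)) = 2 := (R.ctwo x hx).1

theorem Rep.ker_eq {x : K} (hx : x ≠ 0) : LinearMap.ker (R.N x) = LinearMap.range (R.N x) := by
  refine (Submodule.eq_of_le_of_finrank_le ?_ ?_).symm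
  · rintro _ ⟨z, rfl⟩; exact R.N_N x z
  · have h := (R.N x).finrank_range_add_finrank_ker
    have h4 : finrank F (Fin 2 ⊕ Fin 2 → F) = 4 := by simp
    have := R.finrank_range hx
    omega

theorem Rep.q_add (x : K) (u v : V) :
    sympB 2 F (u + v) (R.N x (u + v)) = sympB 2 F u (R.N x u) + sympB 2 F v (R.N x v) := by
  have e : sympB 2 F v (R.N x u) = sympB 2 F u (R.N x v) := by rw [← R.N_adj, sympB_symm]
  simp only [map_add, LinearMap.add_apply, e]
  linear_combination sympB 2 F u (R.N x v) * (CharP.ofNat_eq_zero F 2)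

/-- The vector reading off the form values of a transvection. -/
theorem Rep.exists_axis {x : K} (hx : x ≠ 0) :
    ∃ a : V, a ≠ 0 ∧ R.N x a = 0 ∧ a ∈ LinearMap.range (R.N x) ∧
      ∀ y, sympB 2 F y (R.N x y) = sympB 2 F y a ^ 2 := by
  classical
  choose r hr using fun y : V => exists_sq (sympB 2 F y (R.N x y))
  let φ : V →ₗ[F] F :=
    { toFun := r
      map_add' := fun u v => eq_of_sq (by rw [hr, R.q_add, add_pow_char, hr, hr])
      map_smul' := fun c u => eq_of_sq (by
        rw [hr, RingHom.id_apply, smul_eq_mul, mul_pow, hr]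
        simp only [map_smul, LinearMap.smul_apply, smul_eq_mul]
        ring) }
  obtain ⟨a, ha⟩ := ((sympB 2 F).toDual sympB_nondeg).surjective φ
  have hay : ∀ y, sympB 2 F y (R.N x y) = sympB 2 F y a ^ 2 := fun y => by
    have e : sympB 2 F a y = φ y := by
      rw [← ha]
      rfl
    rw [sympB_symm y a, e]
    exact (hr y).symm
  have hNa : R.N x a = 0 := sympB_nondeg.1 _ fun z => by
    have h := hay (R.N x z)
    rw [R.N_N, map_zero] at h
    rw [R.N_adj, sympB_symm]
    exact pow_eq_zero_iff (n := 2) two_ne_zero |>.1 h.symm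
  refine ⟨a, fun e => ?_, hNa, by rw [← R.ker_eq hx, LinearMap.mem_ker, hNa], hay⟩
  obtain ⟨y, hy⟩ := (R.ctwo x hx).2
  apply hy
  rw [← sympB_apply]
  show sympB 2 F y (R.N x y) = 0
  rw [hay, e, map_zero, zero_pow two_ne_zero]

omit [CharP K 2] in
theorem Rep.axis_eq {x : K} {a b : V} (ha : ∀ y, sympB 2 F y (R.N x y) = sympB 2 F y a ^ 2)
    (hb : ∀ y, sympB 2 F y (R.N x y) = sympB 2 F y b ^ 2) : a = b := by
  refine sub_eq_zero.1 (sympB_nondeg.1 _ fun y => ?_)
  rw [sympB_symm, map_sub, sub_eq_zero]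
  exact eq_of_sq ((ha y).symm.trans (hb y))

omit [CharP K 2] in
theorem Rep.op_upU_comm (x y : K) (v : V) : R.op (upU x) (R.op (upU y) v) = R.op (upU y) (R.op (upU x) v) := by
  rw [← R.op_mul_apply, ← R.op_mul_apply, upU_add, upU_add, add_comm]

theorem Rep.axis_fixed {x : K} {a : V} (ha : ∀ y, sympB 2 F y (R.N x y) = sympB 2 F y a ^ 2) (y : K) :
    R.op (upU y) a = a := by
  refine R.axis_eq (fun z => ?_) ha
  have hz : z = R.op (upU y) (R.op (upU y) z) := (R.op_op_upU y z).symm
  have h := ha (R.op (upU y) z)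
  rw [R.N_apply, R.op_upU_comm, ← map_sub, R.iso, ← R.N_apply] at h
  rw [h]
  conv_rhs => rw [hz, R.iso]

theorem Rep.N_axis {x : K} {a : V} (ha : ∀ y, sympB 2 F y (R.N x y) = sympB 2 F y a ^ 2) (y : K) : R.N y a = 0 := by
  rw [R.N_apply, R.axis_fixed ha, sub_self]

/-- Either all transvections have the same commutator space, or all axes lie on one line. -/
theorem Rep.dichotomy : (∀ x : K, x ≠ 0 → LinearMap.range (R.N x) = LinearMap.range (R.N 1)) ∨
    (∃ x : K, x ≠ 0 ∧ LinearMap.range (R.N x) ≠ LinearMap.range (R.N 1)) ∧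
      ∃ v : V, v ≠ 0 ∧ ∀ x : K, x ≠ 0 → ∃ μ : F, μ ≠ 0 ∧
        ∀ y, sympB 2 F y (R.N x y) = sympB 2 F y (μ • v) ^ 2 := by
  by_cases hall : ∀ x : K, x ≠ 0 → LinearMap.range (R.N x) = LinearMap.range (R.N 1)
  · exact Or.inl hall
  refine Or.inr ⟨by push Not at hall; exact hall, ?_⟩
  obtain ⟨v, hv0, -, -, hv⟩ := R.exists_axis (one_ne_zero (α := K))
  refine ⟨v, hv0, fun x hx => ?_⟩
  obtain ⟨a, ha0, -, -, ha⟩ := R.exists_axis hx
  by_cases hspan : a ∈ Submodule.span F {v}
  · obtain ⟨μ, rfl⟩ := Submodule.mem_span_singleton.1 hspan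
    exact ⟨μ, fun e => ha0 (by rw [e, zero_smul]), ha⟩
  exfalso
  apply hall
  have key : ∀ z : K, z ≠ 0 → LinearMap.range (R.N z) = Submodule.span F {v, a} := fun z hz => by
    symm
    refine Submodule.eq_of_le_of_finrank_le ?_ ?_
    · rw [Submodule.span_le, Set.insert_subset_iff, Set.singleton_subset_iff, SetLike.mem_coe, SetLike.mem_coe,
        ← R.ker_eq hz, LinearMap.mem_ker, LinearMap.mem_ker]
      exact ⟨R.N_axis hv z, R.N_axis ha z⟩
    · rw [R.finrank_range hz]
      have hlt : Submodule.span F {v} < Submodule.span F {v, a} :=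
        lt_of_le_of_ne (Submodule.span_mono (by simp)) fun e => hspan (e ▸ Submodule.subset_span (by simp))
      have := Submodule.finrank_lt_finrank_of_lt hlt
      rw [finrank_span_singleton hv0] at this
      omega
  exact fun z hz => (key z hz).trans (key 1 one_ne_zero).symm

omit [CharP K 2] in
/-- A subspace invariant under the generators is trivial. -/
theorem Rep.invariant_cases [CharP K 2] (W : Submodule F (Fin 2 ⊕ Fin 2 → F))
    (hU : ∀ x : K, ∀ v ∈ W, R.op (upU x) v ∈ W) (hw : ∀ v ∈ W, R.op weyl v ∈ W) : W = ⊥ ∨ W = ⊤ := by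
  let S : Subgroup (SpecialLinearGroup (Fin 2) K) :=
    { carrier := {g | ∀ v, v ∈ W ↔ R.op g v ∈ W}
      one_mem' := fun v => by rw [map_one]; rfl
      mul_mem' := fun {a b} ha hb v => by rw [R.op_mul_apply]; exact (hb v).trans (ha _)
      inv_mem' := fun {a} ha v => by
        rw [ha (R.op a⁻¹ v), ← R.op_mul_apply, mul_inv_cancel, map_one]; rfl }
  have hS : ∀ g, g ∈ S := fun g => by
    have hle : Subgroup.closure (Set.range (upU (F := K)) ∪ {weyl}) ≤ S := by
      rw [Subgroup.closure_le]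
      rintro g (⟨x, rfl⟩ | rfl) v
      · refine ⟨hU x v, fun h => ?_⟩
        have := hU x _ h
        rwa [R.op_op_upU] at this
      · refine ⟨hw v, fun h => ?_⟩
        have := hw _ h
        rwa [← R.op_mul_apply, weyl_mul_self, map_one] at this
    exact hle (closure_upU_weyl (K := K) ▸ Subgroup.mem_top g)
  refine R.abs.1 W ?_
  rintro _ ⟨_, ⟨g, rfl⟩, rfl⟩ _ ⟨v, hv, rfl⟩
  rw [← R.op_apply g v |>.trans (Matrix.toLin'_apply _ _).symm]
  exact (hS g v).1 hv

end Cfsg.Agent.ResidualFour.Even
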