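import Cfsg.Agent.Classical.Dickson2.Main

/-!
A subgroup of SL_2 in characteristic two with three or more upper translations and a lower one is
defined over the field formed by the upper translations.
-/

set_option autoImplicit false

namespace Cfsg.Agent.ResidualFour.Even

open Cfsg.Agent.Classical Cfsg.Agent.Classical.Dickson2 Cfsg.Agent.RootSub.Dickson Cfsg.Agent.SL2Class Matrix
open scoped MatrixGroups

variable {F : Type*} [Field F] [Fintype F]

local notation "PG" => Matrix.ProjectiveSpecialLinearGroup (Fin 2) F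

theorem translations_field [CharP F 2] (G : Subgroup SL(2, F)) (h1 : upR (1 : F) ∈ G) {c : F} (hc0 : c ≠ 0)
    (hc1 : c ≠ 1) (hc : upR c ∈ G) {b : F} (hb0 : b ≠ 0) (hb : lowR b ∈ G) :
    ∃ K : Subfield F, (∀ r, r ∈ K ↔ upR r ∈ G) ∧ (∀ r ∈ K, lowR r ∈ G) ∧ b ∈ K ∧
      ∀ g ∈ G, ∀ i j, g.1 i j ∈ K := by
  classical
  haveI : Fact (Nat.Prime 2) := ⟨Nat.prime_two⟩
  set H : Subgroup PG := G.map proj with hH
  have hGH : ∀ g : SL(2, F), proj g ∈ H ↔ g ∈ G := fun g => by
    refine ⟨fun h => ?_, Subgroup.mem_map_of_mem _⟩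
    obtain ⟨g', hg', e⟩ := h
    rcases proj_eq_iff.1 e with h' | h'
    · exact h' ▸ hg'
    · rw [h', show -g' = g' from Subtype.ext (Matrix.ext fun i j => CharTwo.neg_eq _)]
      exact hg'
  have hmem : ∀ r : F, proj (upR r) ∈ (rootP : Subgroup PG) := fun r =>
    proj_mem_rootP (by rw [coe_upR]; simp) (by rw [coe_upR]; simp)
  set x : PG := proj (upR (1 : F))
  have hx : x ∈ H := Subgroup.mem_map_of_mem _ h1
  have hx1 : x ≠ 1 := fun e => one_ne_zero (proj_upR_inj (e.trans (by rw [upR_zero, map_one])))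
  have hsq : ∀ r : F, proj (upR r) ^ 2 = (1 : PG) := fun r => by
    rw [← map_pow, pow_two, ← upR_add, CharTwo.add_self_eq_zero, upR_zero, map_one]
  have hxp : x ^ 2 = 1 := hsq 1
  set T : Mem H := memOf x hx hx1 with hTdef
  have hTtor : T.1 = tor x := rfl
  have hroot : tor x = (rootP : Subgroup PG) := by
    obtain ⟨y, hy1, -, hye⟩ := exists_eq_tor_rootP (F := F) 2
    rw [hye]
    exact tor_eq hy1 (hye ▸ hmem 1) hx1
  have hT : Uni 2 T := fun y hy => unip_of_mem 2 hx1 hxp hy
  haveI : Fintype (Cls H) := Fintype.ofFinite _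
  obtain ⟨k, hk, hks, hk1⟩ := uni_data 2 hT
  obtain ⟨j, hj⟩ := uni_orbit_mod 2 hT
  set N := Nat.card (MulAction.orbit H T)
  have hg : Nat.card H = am T * k * N := by rw [← hk, mul_comm, card_orbit_mul]
  have hk0 : 1 ≤ k := Nat.pos_of_ne_zero fun e => by
    rw [e, mul_zero, zero_mul] at hg
    exact Nat.card_pos.ne' hg
  have hN : 2 ≤ N := by
    by_contra hlt
    have hst : st T = Nat.card H := by
      have h1' : N = 1 := by
        have : 0 < N := by
          by_contra h0
          rw [show N = 0 by omega, mul_zero] at hg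
          exact Nat.card_pos.ne' hg
        omega
      rw [hg, h1', mul_one, hk]
    have hle := le_normalizer_of_st hst (Subgroup.mem_map_of_mem proj hb)
    rw [hTtor, hroot, proj_mem_normalizer_rootP, coe_lowR] at hle
    simp at hle
    exact hb0 hle
  set ω0 : Cls H := Quotient.mk'' T with hω0
  have hne : ∀ ω : Cls H, ω ≠ ω0 → ¬ Uni 2 (Quotient.out ω) := fun ω hω hu => hω (by
    rw [← Quotient.out_eq' ω, hω0, mk_eq_iff]
    exact uni_orbit 2 hT hu)
  have he : (1 : ℚ) - 1 / Nat.card H = ((am T : ℚ) - 1) / (am T * k) +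
      ∑ ω : {ω : Cls H // ω ≠ ω0}, ((am (Quotient.out ω.1) : ℚ) - 1) / st (Quotient.out ω.1) := by
    rw [class_identity (H := H), ← Finset.add_sum_erase _ _ (Finset.mem_univ ω0), am_eq_of_mem_orbit (out_mem_orbit T),
      st_eq_of_mem_orbit (out_mem_orbit T), hk, Nat.cast_mul]
    congr 1
    exact Finset.sum_subtype _ (fun ω => by simp) _
  have hNs : N = am T + 1 := by
    rcases arith_dvd (one_lt_am T) hk0 hks hN ⟨j, hj⟩ hg (fun ω : {ω : Cls H // ω ≠ ω0} => am (Quotient.out ω.1))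
      (fun ω => st (Quotient.out ω.1)) (fun ω => one_lt_am _) (fun ω => (semis_am 2 (hne _ ω.2)).2)
      (fun hk2 => by
        obtain ⟨T', hT', hk'⟩ := hk1 hk2
        refine ⟨⟨Quotient.mk'' T', fun e => hT' ?_⟩, ?_⟩
        · obtain ⟨d, hd⟩ := mk_eq_iff.1 e
          exact hd ▸ (uni_smul 2).2 hT
        · rw [am_eq_of_mem_orbit (out_mem_orbit T'), hk'])
      he with ⟨ω, hω⟩ | ⟨hN', -, -⟩ | ⟨-, hs, -, -⟩
    · exfalso
      obtain ⟨y, -, hy, hTy⟩ := semis_rep 2 (hne _ ω.2)
      have hle : H ≤ Subgroup.normalizer (tor y : Set PG) := hTy ▸ le_normalizer_of_st hω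
      obtain ⟨w, -, hw2, -, hwi, hcs⟩ := normalizer_semis 2 hy
      have hw : ∀ r : F, r ≠ 0 → upR r ∈ G → w * proj (upR r) ∈ tor y := fun r hr0 hr => by
        refine (hcs _ (hle (Subgroup.mem_map_of_mem _ hr))).resolve_left fun h => hr0 (proj_upR_inj ?_)
        rw [upR_zero, map_one]
        exact eq_one_of_pow_p 2 (coprime_tor_semis 2 hy) h (hsq r)
      have hab : proj (upR (1 + c)) ∈ tor y := by
        have := mul_mem (inv_mem (hw 1 one_ne_zero h1)) (hw c hc0 hc)
        rw [_root_.mul_inv_rev, mul_assoc, inv_mul_cancel_left, ← map_inv, ← map_mul] at this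
        rwa [upR_inv, CharTwo.neg_eq, ← upR_add] at this
      have h := eq_one_of_pow_p 2 (coprime_tor_semis 2 hy) hab (hsq _)
      rw [← map_one proj, ← upR_zero] at h
      exact hc1 ((CharTwo.add_eq_zero.1 (proj_upR_inj h)).symm)
    · exact hN'
    · exfalso
      have : 2 ∣ am T := by
        rw [← orderOf_eq_prime hxp hx1]
        exact Subgroup.orderOf_dvd_natCard (T.1 ⊓ H) ⟨hTtor ▸ mem_tor x, hx⟩
      rw [hs] at this
      omega
  have hidx : Nat.card H = (Nat.card ((rootP : Subgroup PG) ⊓ H : Subgroup PG) + 1) *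
      Nat.card (Subgroup.normalizer ((rootP : Subgroup PG) : Set PG) ⊓ H : Subgroup PG) := by
    rw [← hroot, ← hTtor]
    change Nat.card H = (am T + 1) * st T
    rw [← hNs, card_orbit_mul]
  obtain ⟨g₀, hg₀, hc₀, hpts⟩ := coset_of_index H hidx
  set z₀ := g₀.1 0 0 / g₀.1 1 0
  set η := coordGL (1 : F) z₀ one_ne_zero
  set G' := G.map (AutPSL.conjSL η).toMonoidHom with hG'
  have hup : ∀ r : F, upR r ∈ G' ↔ upR r ∈ G := fun r => by
    have e : upR r = AutPSL.conjSL η (upR r) := by rw [conj_coord_upR, div_one]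
    conv_lhs => rw [hG', e]
    exact Subgroup.mem_map_iff_mem (AutPSL.conjSL η).injective
  obtain ⟨K, hK, hKlow, hover⟩ := exists_subfield_of_points G' ((hup 1).2 h1)
    (by
      rintro _ ⟨g, hg, rfl⟩ h10
      obtain ⟨e0, e1⟩ := conj_coord (1 : F) z₀ one_ne_zero g
      rw [MulEquiv.coe_toMonoidHom] at h10 ⊢
      rw [e1, one_mul] at h10
      rw [e0, e1, one_mul, hup, ← hGH]
      convert hpts g (Subgroup.mem_map_of_mem _ hg) h10 using 3
      field_simp)
    ⟨AutPSL.conjSL η g₀, Subgroup.mem_map_of_mem _ ((hGH g₀).1 hg₀),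
      by rw [(conj_coord (1 : F) z₀ one_ne_zero g₀).2, one_mul]; exact hc₀⟩
  have hentries : ∀ g ∈ G', ∀ i j, g.1 i j ∈ K := fun g hg i j => by
    obtain ⟨l, hl, M, hM⟩ := hover g hg
    have hd : g.1.det = 1 := g.2
    rw [hM, Matrix.det_smul, Fintype.card_fin, show (M.map K.subtype).det = K.subtype M.det from
      (RingHom.map_det _ _).symm] at hd
    have hl2 : l ^ 2 ∈ K := by
      rw [eq_inv_of_mul_eq_one_left hd]
      exact K.inv_mem M.det.2
    have hlK : l ∈ K := by
      let sq : K →+* K := frobenius K 2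
      obtain ⟨s, hs⟩ := (Finite.injective_iff_surjective.1 (frobenius_inj K 2)) ⟨l ^ 2, hl2⟩
      have hs' : (s : F) ^ 2 = l ^ 2 := by simpa [frobenius_def] using congrArg Subtype.val hs
      rw [← CharTwo.sq_injective.eq_iff.1 hs']
      exact s.2
    rw [hM]
    exact K.mul_mem hlK (M i j).2
  have hz : z₀ * b ∈ K ∧ b ∈ K := by
    have h := hentries _ (Subgroup.mem_map_of_mem _ hb)
    obtain ⟨e0, e1⟩ := conj_coord (1 : F) z₀ one_ne_zero (lowR b)
    have a0 := h 0 0
    have a1 := h 1 0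
    rw [MulEquiv.coe_toMonoidHom] at a0 a1
    rw [e0, coe_lowR] at a0
    rw [e1, coe_lowR] at a1
    simp at a0 a1
    refine ⟨?_, a1⟩
    have := K.sub_mem K.one_mem a0
    simpa [CharTwo.sub_eq_add, ← add_assoc, CharTwo.add_self_eq_zero] using this
  have hz0 : z₀ ∈ K := by
    have := K.mul_mem hz.1 (K.inv_mem hz.2)
    rwa [mul_assoc, mul_inv_cancel₀ hb0, mul_one] at this
  have key : ∀ g : SL(2, F), AutPSL.conjSL η (upR z₀ * g * (upR z₀)⁻¹) = g := fun g => by
    refine Subtype.ext ?_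
    rw [AutPSL.conjSL_coe, Matrix.SpecialLinearGroup.coe_mul, Matrix.SpecialLinearGroup.coe_mul, upR_inv, coe_upR, coe_upR]
    ext i j
    fin_cases i <;> fin_cases j <;>
      simp [η, coordGL, Matrix.mul_apply, Fin.sum_univ_two, Matrix.vecMul, dotProduct] <;> ring
  refine ⟨K, fun r => (hK r).trans (hup r), fun r hr => ?_, hz.2, fun g hg i j => ?_⟩
  · have hzG : upR z₀ ∈ G := (hup z₀).1 ((hK z₀).1 hz0)
    obtain ⟨g, hg, e⟩ := Subgroup.mem_map.1 (hKlow r hr)
    rw [MulEquiv.coe_toMonoidHom, ← key (lowR r)] at e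
    rw [(AutPSL.conjSL η).injective e] at hg
    have := mul_mem (mul_mem (inv_mem hzG) hg) hzG
    simpa [mul_assoc] using this
  · have hzG : upR z₀ ∈ G := (hup z₀).1 ((hK z₀).1 hz0)
    have := hentries _ (Subgroup.mem_map_of_mem _ (mul_mem (mul_mem hzG hg) (inv_mem hzG)))
    rw [MulEquiv.coe_toMonoidHom] at this
    rw [← key g]
    exact this i j

end Cfsg.Agent.ResidualFour.Even
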