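import Cfsg.Agent.ClassicalMax.Symplectic
import Cfsg.Agent.ResidualFour.Even.SLTwo

/-!
Irreducible simple groups of isometries of a four-dimensional alternating space in characteristic two
with transvections: basic closure properties.
-/

set_option autoImplicit false

namespace Cfsg.Agent.ResidualFour.Even

open Module Cfsg.Agent.Classical Cfsg.Agent.ClassicalMax Cfsg.Agent.RootSub.Dickson
open scoped MatrixGroups

variable {F V : Type*} [Field F] [AddCommGroup V] [Module F V] {B : LinearMap.BilinForm F V}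

/-- The hypotheses on the group. -/
structure Setting (hA : B.IsAlt) (G : Subgroup (V ≃ₗ[F] V)) : Prop where
  nondeg : B.Nondegenerate
  dim : finrank F V = 4
  le : G ≤ Alt.isoGroup B
  simple : IsSimpleGroup G
  nonab : ¬ IsMulCommutative G
  irred : ∀ U : Submodule F V, (∀ g ∈ G, ∀ u ∈ U, g u ∈ U) → U = ⊥ ∨ U = ⊤
  norat : ∀ K : Subfield F, K ≠ ⊤ →
    ¬ ∃ b : Basis (Fin 4) F V, ∀ g ∈ G, ∀ i j, b.repr (g (b j)) i ∈ K
  proper : ¬ Alt.isoGroup B ≤ G

variable {hA : B.IsAlt} {G : Subgroup (V ≃ₗ[F] V)}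

/-- The transvection centres of parameter one. -/
def D (hA : B.IsAlt) (G : Subgroup (V ≃ₗ[F] V)) : Set V := {v | v ≠ 0 ∧ Alt.tv hA v 1 ∈ G}

theorem tv1_apply (v x : V) : Alt.tv hA v 1 x = x + B x v • v := by rw [Alt.tv_apply, one_mul]

theorem symm_B [CharP F 2] (hA : B.IsAlt) (x y : V) : B x y = B y x := by
  rw [Alt.neg' hA y x, CharTwo.neg_eq]

theorem exists_pairing (hB : B.Nondegenerate) {v : V} (hv : v ≠ 0) : ∃ x, B x v = 1 := by
  obtain ⟨x, hx⟩ : ∃ x, B x v ≠ 0 := by
    by_contra h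
    push Not at h
    exact hv (hB.2 v h)
  exact ⟨(B x v)⁻¹ • x, by rw [map_smul, LinearMap.smul_apply, smul_eq_mul, inv_mul_cancel₀ hx]⟩

theorem tv1_injective [CharP F 2] (hB : B.Nondegenerate) {u v : V} (hv : v ≠ 0)
    (h : Alt.tv hA u 1 = Alt.tv hA v 1) : u = v := by
  obtain ⟨x, hx⟩ := exists_pairing hB hv
  have e := LinearEquiv.congr_fun h x
  rw [tv1_apply, tv1_apply, hx, one_smul, add_right_inj] at e
  set s := B x u
  have h2 : s ^ 2 = 1 := by
    have := congrArg (B x) e
    rw [map_smul, smul_eq_mul, hx] at this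
    rwa [pow_two]
  rw [← e, show s = 1 from CharTwo.sq_injective (show s ^ 2 = 1 ^ 2 by rw [h2, one_pow]), one_smul]

namespace Setting

theorem map_mem (hS : Setting hA G) {g : V ≃ₗ[F] V} (hg : g ∈ G) {v : V} (hv : v ∈ D hA G) : g v ∈ D hA G :=
  ⟨fun e => hv.1 (g.map_eq_zero_iff.1 e), by
    rw [← Alt.conj_tv hA (hS.le hg)]; exact mul_mem (mul_mem hg hv.2) (inv_mem hg)⟩

theorem move_mem (hS : Setting hA G) {u v : V} (hu : u ∈ D hA G) (hv : v ∈ D hA G) :
    v + B v u • u ∈ D hA G := by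
  have := hS.map_mem hu.2 hv
  rwa [tv1_apply] at this

theorem span_top (hS : Setting hA G) {T : Set V} (hT : ∀ g ∈ G, ∀ v ∈ T, g v ∈ T) {v : V} (hv : v ∈ T) (hv0 : v ≠ 0) :
    Submodule.span F T = ⊤ := by
  refine (hS.irred _ fun g hg u hu => ?_).resolve_left fun h => hv0 ?_
  · have h : Submodule.span F T ≤ (Submodule.span F T).comap g.toLinearMap :=
      Submodule.span_le.2 fun w hw => Submodule.subset_span (hT g hg w hw)
    exact h hu
  · exact (Submodule.mem_bot F).1 (h ▸ Submodule.subset_span hv)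

theorem closure_eq (hS : Setting hA G) {T : Set V} (hT : ∀ g ∈ G, ∀ v ∈ T, g v ∈ T) (hTD : T ⊆ D hA G) {v : V}
    (hv : v ∈ T) : Subgroup.closure ((fun d => Alt.tv hA d 1) '' T) = G := by
  have hle : Subgroup.closure ((fun d => Alt.tv hA d 1) '' T) ≤ G :=
    (Subgroup.closure_le _).2 (by rintro _ ⟨d, hd, rfl⟩; exact (hTD hd).2)
  refine le_antisymm hle ?_
  set N := (Subgroup.closure ((fun d => Alt.tv hA d 1) '' T)).subgroupOf G
  have hN : N.Normal := ⟨fun n hn g => by
    show (g : V ≃ₗ[F] V) * (n : V ≃ₗ[F] V) * (g : V ≃ₗ[F] V)⁻¹ ∈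
      Subgroup.closure ((fun d => Alt.tv hA d 1) '' T)
    have h : Subgroup.closure ((fun d => Alt.tv hA d 1) '' T) ≤
        (Subgroup.closure ((fun d => Alt.tv hA d 1) '' T)).comap (MulAut.conj (g : V ≃ₗ[F] V)).toMonoidHom := by
      refine (Subgroup.closure_le _).2 ?_
      rintro _ ⟨d, hd, rfl⟩
      rw [SetLike.mem_coe, Subgroup.mem_comap, MulEquiv.coe_toMonoidHom, MulAut.conj_apply,
        Alt.conj_tv hA (hS.le g.2)]
      exact Subgroup.subset_closure ⟨_, hT _ g.2 d hd, rfl⟩
    exact h hn⟩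
  rcases hS.simple.eq_bot_or_eq_top_of_normal N hN with h | h
  · exfalso
    have hm : (⟨Alt.tv hA v 1, (hTD hv).2⟩ : G) ∈ N := Subgroup.subset_closure ⟨v, hv, rfl⟩
    rw [h, Subgroup.mem_bot, Subtype.ext_iff] at hm
    obtain ⟨x, hx⟩ := exists_pairing hS.nondeg (hTD hv).1
    have e := LinearEquiv.congr_fun hm x
    rw [tv1_apply, hx, one_smul] at e
    exact (hTD hv).1 (add_left_cancel (e.trans (add_zero x).symm))
  · exact Subgroup.subgroupOf_eq_top.1 h

theorem exists_nonperp (hS : Setting hA G) {T : Set V} (hT : ∀ g ∈ G, ∀ v ∈ T, g v ∈ T) {v : V} (hv : v ∈ T)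
    (hv0 : v ≠ 0) {x : V} (hx : x ≠ 0) : ∃ d ∈ T, B d x ≠ 0 := by
  by_contra h
  push Not at h
  have hle : Submodule.span F T ≤ LinearMap.ker (B.flip x) := Submodule.span_le.2 fun d hd => by simpa using h d hd
  refine hx (hS.nondeg.2 x fun y => ?_)
  have := hle (hS.span_top hT hv hv0 ▸ Submodule.mem_top : y ∈ Submodule.span F T)
  simpa using this

variable [Finite F]

/-- A spanning invariant set of centres with all values in a subfield forces that subfield to be everything. -/
theorem subfield_top (hS : Setting hA G) {T : Set V} (hT : ∀ g ∈ G, ∀ v ∈ T, g v ∈ T) (hTD : T ⊆ D hA G) {v : V}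
    (hv : v ∈ T) (K : Subfield F) (hK : ∀ s ∈ T, ∀ d ∈ T, B s d ∈ K) : K = ⊤ := by
  classical
  by_contra hne
  refine hS.norat K hne ?_
  haveI : FiniteDimensional F V := FiniteDimensional.of_finrank_pos (by rw [hS.dim]; omega)
  obtain ⟨t, htT, hspan, hli⟩ := exists_linearIndependent F T
  haveI : Fintype t := (hli.setFinite).fintype
  have hb : ⊤ ≤ Submodule.span F (Set.range ((↑) : t → V)) := by
    rw [Subtype.range_coe, hspan, hS.span_top hT hv (hTD hv).1]
  let b0 := Basis.mk hli hb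
  have hcard : Fintype.card t = 4 := by rw [← hS.dim, finrank_eq_card_basis b0]
  let e : t ≃ Fin 4 := Fintype.equivFinOfCardEq hcard
  let b := b0.reindex e
  have hbT : ∀ i, b i ∈ T := fun i => by
    rw [Basis.reindex_apply, Basis.mk_apply]; exact htT (e.symm i).2
  let M : Matrix (Fin 4) (Fin 4) K := Matrix.of fun i j => ⟨B (b i) (b j), hK _ (hbT i) _ (hbT j)⟩
  have hM : Function.Injective M.mulVec := by
    intro c c' hcc
    have h0 : ∀ i, B (b i) (∑ j, ((c j : F) - c' j) • b j) = 0 := fun i => by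
      have := congrArg Subtype.val (congrFun hcc i)
      simp only [Matrix.mulVec, dotProduct, M, Matrix.of_apply, AddSubmonoidClass.coe_finset_sum, Subfield.coe_mul] at this
      simp only [map_sum, map_smul, smul_eq_mul, sub_mul, Finset.sum_sub_distrib]
      rw [sub_eq_zero]
      simpa [mul_comm] using this
    have hz : ∑ j, ((c j : F) - c' j) • b j = 0 := hS.nondeg.2 _ fun y => by
      rw [← b.sum_repr y, map_sum B, LinearMap.sum_apply]
      exact Finset.sum_eq_zero fun i _ => by rw [map_smul, LinearMap.smul_apply, h0 i, smul_zero]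
    funext j
    exact Subtype.ext (sub_eq_zero.1 (Fintype.linearIndependent_iff.1 b.linearIndependent _ hz j))
  have hcoord : ∀ d : V, (∀ i, B (b i) d ∈ K) → ∀ j, b.repr d j ∈ K := by
    intro d hd j
    obtain ⟨c, hc⟩ := (Finite.injective_iff_surjective.1 hM) fun i => ⟨_, hd i⟩
    have hd' : d = ∑ k, (c k : F) • b k := by
      refine sub_eq_zero.1 (hS.nondeg.2 _ fun y => ?_)
      rw [← b.sum_repr y, map_sum B, LinearMap.sum_apply]
      refine Finset.sum_eq_zero fun i _ => ?_
      have := congrArg Subtype.val (congrFun hc i)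
      simp only [Matrix.mulVec, dotProduct, M, Matrix.of_apply, AddSubmonoidClass.coe_finset_sum, Subfield.coe_mul] at this
      rw [map_smul, LinearMap.smul_apply, map_sub, map_sum, ← this]
      simp [mul_comm]
    rw [hd', b.repr_sum_self]
    exact (c j).2
  refine ⟨b, fun g hg => ?_⟩
  rw [← hS.closure_eq hT hTD hv] at hg
  have hg' : g ∈ (Subgroup.closure ((fun d => Alt.tv hA d 1) '' T)).toSubmonoid := hg
  haveI : Finite V := Module.finite_of_finite F
  haveI : Finite (V ≃ₗ[F] V) := Finite.of_injective (fun g : V ≃ₗ[F] V => (g : V → V)) DFunLike.coe_injective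
  rw [Subgroup.closure_toSubmonoid_of_finite] at hg'
  clear hg
  induction hg' using Submonoid.closure_induction with
  | mem t ht =>
    obtain ⟨d, hd, rfl⟩ := ht
    intro i j
    rw [tv1_apply, map_add, map_smul, Finsupp.add_apply, Finsupp.smul_apply, smul_eq_mul, b.repr_self]
    refine K.add_mem ?_ (K.mul_mem (hK _ (hbT j) _ hd) (hcoord d (fun i => hK _ (hbT i) _ hd) i))
    rw [Finsupp.single_apply]
    split
    · exact K.one_mem
    · exact K.zero_mem
  | one =>
    intro i j
    show b.repr (b j) i ∈ K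
    rw [b.repr_self, Finsupp.single_apply]
    split
    · exact K.one_mem
    · exact K.zero_mem
  | mul g h _ _ ihg ihh =>
    intro i j
    rw [LinearEquiv.mul_apply, ← b.sum_repr (h (b j)), map_sum, map_sum, Finsupp.finsetSum_apply]
    refine K.sum_mem fun k _ => ?_
    rw [map_smul, map_smul, Finsupp.smul_apply, smul_eq_mul]
    exact K.mul_mem (ihh k j) (ihg i k)

variable [CharP F 2]

/-- A centre sees a value outside the prime field. -/
theorem exists_nonint (hS : Setting hA G) (hF : 4 ≤ Nat.card F) {u : V} (hu : u ∈ D hA G) :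
    ∃ d ∈ D hA G, B d u ≠ 0 ∧ B d u ≠ 1 := by
  by_contra h
  push Not at h
  let T : Set V := {x | x ∈ D hA G ∧ ∀ d ∈ D hA G, B d x ≠ 0 → B d x = 1}
  have hT : ∀ g ∈ G, ∀ x ∈ T, g x ∈ T := fun g hg x hx => ⟨hS.map_mem hg hx.1, fun d hd hne => by
    have e : B d (g x) = B (g⁻¹ d) x := by
      rw [← hS.le hg (g⁻¹ d) x, Alt.apply_inv_self]
    rw [e] at hne ⊢
    exact hx.2 _ (hS.map_mem (inv_mem hg) hd) hne⟩
  have hK : ∀ s ∈ T, ∀ d ∈ T, B s d ∈ (⊥ : Subfield F) := fun s hs d hd => by
    by_cases hz : B s d = 0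
    · rw [hz]; exact zero_mem _
    · rw [hd.2 s hs.1 hz]; exact one_mem _
  have htop := hS.subfield_top hT (fun x hx => hx.1) (show u ∈ T from ⟨hu, h⟩) ⊥ hK
  have h2 : ∀ x : F, x = 0 ∨ x = 1 := fun x => by
    let K2 : Subfield F := RingHom.fieldRange (ZMod.castHom (dvd_refl 2) F)
    have hx : x ∈ K2 := (bot_le : (⊥ : Subfield F) ≤ K2) (htop ▸ Subfield.mem_top x)
    obtain ⟨z, rfl⟩ := hx
    fin_cases z
    · left; exact map_zero _
    · right; exact map_one _
  have : Nat.card F ≤ 2 := by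
    refine (Nat.card_le_card_of_surjective (fun b : Bool => cond b (1 : F) 0) fun x => ?_).trans (by simp)
    rcases h2 x with rfl | rfl
    · exact ⟨false, rfl⟩
    · exact ⟨true, rfl⟩
  omega

end Setting

end Cfsg.Agent.ResidualFour.Even
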