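import Cfsg.Agent.ResidualFour.Even.TvLift

/-!
Two transvections with proportional centres force every transvection.
-/

set_option autoImplicit false

namespace Cfsg.Agent.ResidualFour.Even

open Module Cfsg.Agent.Classical Cfsg.Agent.ClassicalMax Cfsg.Agent.RootSub.Dickson
open scoped MatrixGroups

variable {F V : Type*} [Field F] [AddCommGroup V] [Module F V] {B : LinearMap.BilinForm F V}
variable {hA : B.IsAlt} {G : Subgroup (V ≃ₗ[F] V)}

/-- The pointwise stabiliser of the orthogonal of the plane on `e, f`. -/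
def perpFix (B : LinearMap.BilinForm F V) (e f : V) : Subgroup (V ≃ₗ[F] V) where
  carrier := {g | ∀ x, B x e = 0 → B x f = 0 → g x = x}
  one_mem' := fun _ _ _ => rfl
  mul_mem' := fun ha hb x he hf => by rw [LinearEquiv.mul_apply, hb x he hf, ha x he hf]
  inv_mem' := fun {a} ha x he hf => by
    conv_lhs => rw [← ha x he hf]
    exact Alt.inv_apply_self a x

theorem plane_decomp [CharP F 2] (hA : B.IsAlt) {e f : V} (hef : B e f = 1) (x : V) :
    B (x + (B x f • e + B x e • f)) e = 0 ∧ B (x + (B x f • e + B x e • f)) f = 0 := by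
  have hfe : B f e = 1 := by rw [symm_B hA, hef]
  constructor <;>
    simp [hA e, hA f, hef, hfe, CharTwo.add_self_eq_zero]

namespace Setting

variable [Fintype F] [CharP F 2]

/-- The root group of a centre with two proportional members is a field, and it contains all values at the centre. -/
theorem root_field (hS : Setting hA G) {v d : V} (hv : v ∈ D hA G) {s : F} (hs0 : s ≠ 0) (hs1 : s ≠ 1)
    (hsv : s • v ∈ D hA G) (hd : d ∈ D hA G) (hvd : B d v ≠ 0) :
    ∃ K : Subfield F, (∀ r, r ∈ K ↔ Alt.tv hA v r ∈ G) ∧ B d v ∈ K := by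
  set β := B d v with hβ
  obtain ⟨f, hef, hdf⟩ : ∃ f, B v f = 1 ∧ d = β • f + (0 : V) :=
    ⟨β⁻¹ • d, by rw [map_smul, smul_eq_mul, symm_B hA v d, ← hβ, inv_mul_cancel₀ hvd],
      by rw [add_zero, smul_inv_smul₀ hvd]⟩
  have hR : ∀ r ∈ (⊥ : Submodule F V), B r v = 0 ∧ B r f = 0 ∧ ∀ t ∈ (⊥ : Submodule F V), B r t = 0 := fun r hr => by
    rw [(Submodule.mem_bot F).1 hr]; simp
  set L := lift (G ⊓ perpFix B v f) v f (⊥ : Submodule F V) with hL
  have hperp : ∀ (a c : F), Alt.tv hA (a • v + c • f) 1 ∈ perpFix B v f := fun a c x he hxf => by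
    rw [tv1_apply, map_add, map_smul, map_smul, he, hxf]; simp
  have hup : ∀ a : F, a • v ∈ D hA G → upR (a ^ 2) ∈ L := fun a ha =>
    ⟨_, ⟨by rw [add_zero]; exact ha.2, by have := hperp a 0; rwa [zero_smul] at this⟩,
      acts_tv_upper hef hR a (zero_mem _)⟩
  have hlow : lowR (β ^ 2) ∈ L :=
    ⟨_, ⟨by rw [← hdf]; exact hd.2, by have := hperp 0 β; rwa [zero_smul, zero_add, ← add_zero (β • f)] at this⟩,
      acts_tv_lower hef hR β (zero_mem _)⟩
  have h1 : upR (1 : F) ∈ L := by simpa using hup 1 (by rwa [one_smul])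
  obtain ⟨K, hK, -, hb, -⟩ := translations_field L h1 (pow_ne_zero 2 hs0)
    (fun e => hs1 (CharTwo.sq_injective (show s ^ 2 = 1 ^ 2 by rw [e, one_pow]))) (hup s hsv) (pow_ne_zero 2 hvd) hlow
  refine ⟨K, fun r => (hK r).trans ⟨?_, fun h => ?_⟩, sqrt_mem K hb⟩
  · rintro ⟨g, ⟨hg, hgp⟩, h0, h1', -⟩
    rw [Submodule.mem_bot, sub_eq_zero, coe_upR] at h0 h1'
    simp at h0 h1'
    have hfv : B f v = 1 := by rw [symm_B hA, hef]
    show Alt.tv hA v r ∈ G
    suffices e : Alt.tv hA v r = g from e ▸ hg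
    ext x
    obtain ⟨ha, hb'⟩ := plane_decomp hA hef x
    have hgx := hgp _ ha hb'
    rw [map_add, map_add, map_smul, map_smul, h0, h1'] at hgx
    have e : g x = g x + (B x f • v + B x v • (r • v + f)) + (B x f • v + B x v • (r • v + f)) := by
      rw [add_assoc]
      have : ∀ w : V, w + w = 0 := fun w => by rw [← two_smul F w, CharP.ofNat_eq_zero F 2, zero_smul]
      rw [this, add_zero]
    rw [e, hgx, Alt.tv_apply]
    have h2 : (2 : F) = 0 := CharP.ofNat_eq_zero F 2
    match_scalars <;> grind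
  · refine ⟨_, ⟨h, fun x he hxf => by rw [Alt.tv_apply, he]; simp⟩, ?_⟩
    obtain ⟨t, ht⟩ := (Finite.injective_iff_surjective.1 (frobenius_inj F 2)) r
    rw [frobenius_def] at ht
    rw [← ht, show Alt.tv hA v (t ^ 2) = Alt.tv hA (t • v + 0) 1 by rw [add_zero, Alt.tv_smul, mul_one]]
    exact acts_tv_upper hef hR t (zero_mem _)

/-- Then the centre is a centre of full root groups. -/
theorem centre_of_pair (hS : Setting hA G) {v : V} (hv : v ∈ D hA G) {s : F} (hs0 : s ≠ 0) (hs1 : s ≠ 1)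
    (hsv : s • v ∈ D hA G) : v ∈ centres hA G := by
  obtain ⟨d, hd, hdv⟩ := hS.exists_nonperp (T := D hA G) (fun g hg x hx => hS.map_mem hg hx) hv hv.1 hv.1
  obtain ⟨K, hK, -⟩ := hS.root_field hv hs0 hs1 hsv hd hdv
  let T : Set V := {x | ∃ g ∈ G, g v = x}
  have hKall : ∀ d ∈ D hA G, B v d ∈ K := fun d hd => by
    by_cases h0 : B v d = 0
    · rw [h0]; exact K.zero_mem
    · rw [symm_B hA v d] at h0 ⊢
      obtain ⟨K', hK', hb⟩ := hS.root_field hv hs0 hs1 hsv hd h0
      exact (hK _).2 ((hK' _).1 hb)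
  have htop : K = ⊤ := by
    refine hS.subfield_top (T := T) (fun g hg x ⟨h, hh, e⟩ => ⟨g * h, mul_mem hg hh, by rw [LinearEquiv.mul_apply, e]⟩)
      (fun x ⟨h, hh, e⟩ => e ▸ hS.map_mem hh hv) (show v ∈ T from ⟨1, one_mem G, rfl⟩) K ?_
    rintro _ ⟨g, hg, rfl⟩ d hd'
    obtain ⟨h', hh', rfl⟩ := hd'
    have hd : h' v ∈ D hA G := hS.map_mem hh' hv
    have : B (g v) (h' v) = B v (g⁻¹ (h' v)) := by
      conv_lhs => rw [← Alt.apply_inv_self g (h' v)]
      rw [hS.le hg v]
    rw [this]
    exact hKall _ (hS.map_mem (inv_mem hg) hd)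
  intro c
  exact (hK c).1 (htop ▸ Subfield.mem_top c)

theorem centre_scale {v : V} (hv : v ∈ centres hA G) (hv0 : v ≠ 0) {a : F} (ha : a ≠ 0) : a • v ∈ D hA G :=
  ⟨smul_ne_zero ha hv0, by rw [Alt.tv_smul]; exact hv _⟩

/-- A single full centre gives the whole isometry group, which is excluded. -/
theorem no_centre (hS : Setting hA G) (h4 : 4 ≤ Nat.card F) {v : V} (hv : v ∈ centres hA G) (hv0 : v ≠ 0) : False := by
  haveI : FiniteDimensional F V := FiniteDimensional.of_finrank_pos (by rw [hS.dim]; omega)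
  refine hS.proper (centres_mono_top (hA := hA) hS.nondeg ?_)
  set S := centres hA G with hSdef
  have hmap : ∀ g ∈ G, ∀ x ∈ S, g x ∈ S := fun g hg x hx => map_mem_centres hx hg (hS.le hg)
  have hsm : ∀ (a : F), ∀ x ∈ S, a • x ∈ S := fun a x hx => smul_mem_centres hx a
  have hadd : ∀ x ∈ S, ∀ y ∈ S, B x y ≠ 0 → x + y ∈ S := fun x hx y hy h => by
    simpa using add_smul_mem_centres hx hy h 1
  have hsymm : ∀ x y : V, B x y = B y x := symm_B hA
  obtain ⟨t, ht0, ht1⟩ : ∃ t : F, t ≠ 0 ∧ t ≠ 1 := by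
    classical
    have : ∃ t ∈ (Finset.univ : Finset F), t ∉ ({0, 1} : Finset F) := Finset.exists_mem_notMem_of_card_lt_card
      (lt_of_le_of_lt Finset.card_le_two (by rw [Finset.card_univ, ← Nat.card_eq_fintype_card]; omega))
    obtain ⟨t, -, ht⟩ := this
    simp at ht
    exact ⟨t, ht.1, ht.2⟩
  -- a non-degenerate plane inside S
  obtain ⟨x, hx, hxv⟩ := hS.exists_nonperp hmap hv hv0 hv0
  have hplane : ∀ e ∈ S, ∀ f ∈ S, B e f ≠ 0 → ∀ a b : F, a • e + b • f ∈ S := fun e he f hf h a b => by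
    by_cases ha : a = 0
    · rw [ha, zero_smul, zero_add]; exact hsm b f hf
    by_cases hb : b = 0
    · rw [hb, zero_smul, add_zero]; exact hsm a e he
    exact hadd _ (hsm a e he) _ (hsm b f hf) (by simp [ha, hb, h])
  -- the translate of a plane by an orthogonal vector
  have hshift : ∀ e f b : V, B e f = 1 → e ∈ S → f ∈ S → B b e = 0 → B b f = 0 → ∀ α γ : F, (α ≠ 0 ∨ γ ≠ 0) →
      α • e + γ • f + b ∈ S → ∀ α' γ' : F, (α' ≠ 0 ∨ γ' ≠ 0) → α' • e + γ' • f + b ∈ S := by
    intro e f b hef he hf hbe hbf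
    have hfe : B f e = 1 := by rw [hsymm, hef]
    have step : ∀ α γ α' γ' : F, α • e + γ • f + b ∈ S → α * γ' + γ * α' ≠ 0 → α' • e + γ' • f + b ∈ S := by
      intro α γ α' γ' hz hne
      have h := hadd _ hz _ (hplane e he f hf (by rw [hef]; exact one_ne_zero) (α + α') (γ + γ')) (by
        simp only [map_add, map_smul, LinearMap.add_apply, LinearMap.smul_apply, smul_eq_mul, hA e, hA f, hef, hfe, hbe, hbf]
        intro h0; apply hne
        have h2 : (2 : F) = 0 := CharP.ofNat_eq_zero F 2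
        linear_combination h0 - (α * γ) * h2)
      convert h using 1
      have h2 : (2 : F) = 0 := CharP.ofNat_eq_zero F 2
      match_scalars <;> grind
    intro α γ hne hz α' γ' hne'
    by_cases hd : α * γ' + γ * α' ≠ 0
    · exact step α γ α' γ' hz hd
    push Not at hd
    have hd' : α * γ' = γ * α' := CharTwo.add_eq_zero.1 hd
    by_cases hα : α = 0
    · have hγ : γ ≠ 0 := hne.resolve_left (fun h => h hα)
      have hα' : α' = 0 := by
        rw [hα, zero_mul] at hd'
        exact (mul_eq_zero.1 hd'.symm).resolve_left hγ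
      have hγ' : γ' ≠ 0 := hne'.resolve_left (fun h => h hα')
      refine step 1 0 α' γ' (step α γ 1 0 hz ?_) ?_
      · rw [hα]; simpa using hγ
      · simpa using hγ'
    · have hα' : α' ≠ 0 := fun h => by
        rw [h, mul_zero] at hd'
        rcases hne' with h' | h'
        · exact h' h
        · exact h' ((mul_eq_zero.1 hd').resolve_left hα)
      refine step 0 1 α' γ' (step α γ 0 1 hz ?_) ?_
      · simpa using hα
      · simpa using hα'
  -- the orthogonal component of a member
  have hcomp : ∀ e f b : V, B e f = 1 → e ∈ S → f ∈ S → B b e = 0 → B b f = 0 → ∀ α γ : F, (α ≠ 0 ∨ γ ≠ 0) →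
      α • e + γ • f + b ∈ S → b ∈ S := by
    intro e f b hef he hf hbe hbf α γ hne hz
    have h2 : (2 : F) = 0 := CharP.ofNat_eq_zero F 2
    have hs1 : t + 1 ≠ 0 := fun h => ht1 (CharTwo.add_eq_zero.1 h)
    have hAll := hshift e f b hef he hf hbe hbf α γ hne hz
    have hp1 : e + b ∈ S := by simpa using hAll 1 0 (Or.inl one_ne_zero)
    have hp2 : t⁻¹ • e + b ∈ S := by simpa using hAll t⁻¹ 0 (Or.inl (inv_ne_zero ht0))
    have hp3 : e + t • b ∈ S := by
      have := hsm t _ hp2
      rwa [smul_add, smul_inv_smul₀ ht0] at this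
    intro c
    set k := c / (t + t ^ 2) with hk
    have hne2 : t + t ^ 2 ≠ 0 := by
      rw [show t + t ^ 2 = t * (t + 1) by ring]
      exact mul_ne_zero ht0 hs1
    have heb : B e b = 0 := by rw [hsymm, hbe]
    have key : Alt.tv hA b c =
        Alt.tv hA e (k * (t + 1)) * Alt.tv hA (e + b) (k * t) * Alt.tv hA (e + t • b) k := by
      refine LinearEquiv.ext fun y => ?_
      have hkc : k * (t + t ^ 2) = c := div_mul_cancel₀ c hne2
      simp only [LinearEquiv.mul_apply, Alt.tv_apply, map_add, map_smul, LinearMap.add_apply, LinearMap.smul_apply,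
        smul_eq_mul, hA e, hA b, heb, hbe]
      rw [← hkc]
      match_scalars <;> grind
    rw [key]
    exact mul_mem (mul_mem (he _) (hp1 _)) (hp3 _)
  obtain ⟨f, hfS, hef⟩ : ∃ f ∈ S, B v f = 1 :=
    ⟨(B v x)⁻¹ • x, hsm _ x hx, by rw [map_smul, smul_eq_mul, inv_mul_cancel₀]; rwa [hsymm]⟩
  have hfv : B f v = 1 := by rw [hsymm, hef]
  let pr : V → V := fun y => y + (B y f • v + B y v • f)
  have hpr : ∀ y, B (pr y) v = 0 ∧ B (pr y) f = 0 := plane_decomp hA hef
  have hdec : ∀ y, B y f • v + B y v • f + pr y = y := fun y => by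
    have h2 : (2 : F) = 0 := CharP.ofNat_eq_zero F 2
    simp only [pr]
    match_scalars <;> grind
  -- the orthogonal part of a member is a member
  have hpS : ∀ y ∈ S, pr y ∈ S := fun y hy => by
    by_cases h : B y f = 0 ∧ B y v = 0
    · simp only [pr, h.1, h.2, zero_smul, add_zero]; exact hy
    · exact hcomp v f (pr y) hef hv hfS (hpr y).1 (hpr y).2 (B y f) (B y v)
        (by rwa [not_and_or] at h) (by rwa [hdec])
  obtain ⟨z, hz, hzb, hza⟩ : ∃ z ∈ S, pr z ≠ 0 ∧ (B z f ≠ 0 ∨ B z v ≠ 0) := by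
    by_contra hcon
    push Not at hcon
    let T : Set V := {y | y ∈ D hA G ∧ y ∈ S}
    have hT : ∀ g ∈ G, ∀ y ∈ T, g y ∈ T := fun g hg y hy => ⟨hS.map_mem hg hy.1, hmap g hg y hy.2⟩
    have hvT : (1 : F) • v ∈ T := ⟨centre_scale hv hv0 one_ne_zero, hsm 1 v hv⟩
    set A := Submodule.span F {v, f} with hAdef
    have hinv : ∀ g ∈ G, ∀ u ∈ A, g u ∈ A := by
      intro g hg
      rw [← hS.closure_eq hT (fun y hy => hy.1) hvT] at hg
      induction hg using Subgroup.closure_induction with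
      | mem g hg =>
        obtain ⟨d, ⟨-, hdS⟩, rfl⟩ := hg
        intro u hu
        rw [tv1_apply]
        by_cases hd0 : pr d = 0
        · refine add_mem hu (A.smul_mem _ ?_)
          rw [← hdec d, hd0, add_zero]
          exact add_mem (A.smul_mem _ (Submodule.subset_span (by simp))) (A.smul_mem _ (Submodule.subset_span (by simp)))
        · obtain ⟨h1, h2⟩ := hcon d hdS hd0
          obtain ⟨a, b, rfl⟩ := Submodule.mem_span_pair.1 hu
          rw [hsymm _ d, map_add, map_smul, map_smul, h1, h2, smul_zero, smul_zero, add_zero, zero_smul, add_zero]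
          exact hu
      | one => exact fun u hu => hu
      | mul g h _ _ ihg ihh => exact fun u hu => ihg _ (ihh u hu)
      | inv g _ ih =>
        intro u hu
        have he : A.map (g : V →ₗ[F] V) = A :=
          Submodule.eq_of_le_of_finrank_le (by rintro _ ⟨u, hu, rfl⟩; exact ih u hu)
            (le_of_eq (LinearEquiv.finrank_map_eq g A).symm)
        rw [← he] at hu
        obtain ⟨u', hu', rfl⟩ := hu
        rw [LinearEquiv.coe_coe, Alt.inv_apply_self]
        exact hu'
    rcases hS.irred A hinv with h | h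
    · exact hv0 ((Submodule.mem_bot F).1 (h ▸ Submodule.subset_span (by simp)))
    · classical
      have h1 := finrank_span_le_card (R := F) ({v, f} : Set V)
      rw [← hAdef, h, finrank_top, hS.dim] at h1
      classical
      have : ({v, f} : Set V).toFinset.card ≤ 2 := by
        rw [Set.toFinset_insert, Set.toFinset_singleton]; exact Finset.card_le_two
      omega
  set b := pr z with hb
  have hbS : b ∈ S := hpS z hz
  obtain ⟨y, hy, hyb⟩ := hS.exists_nonperp hmap hv hv0 hzb
  have hvb : B v b = 0 := by rw [hsymm]; exact (hpr z).1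
  have hfb : B f b = 0 := by rw [hsymm]; exact (hpr z).2
  have hpyb : B (pr y) b = B y b := by simp [pr, hvb, hfb]
  obtain ⟨b', hb'b, hb'S, hb'v, hb'f⟩ : ∃ b', B b' b = 1 ∧ b' ∈ S ∧ B b' v = 0 ∧ B b' f = 0 := by
    refine ⟨(B (pr y) b)⁻¹ • pr y, ?_, hsm _ _ (hpS y hy), ?_, ?_⟩
    · rw [map_smul, LinearMap.smul_apply, smul_eq_mul, inv_mul_cancel₀]
      rw [hpyb]; exact hyb
    · rw [map_smul, LinearMap.smul_apply, (hpr y).1, smul_zero]
    · rw [map_smul, LinearMap.smul_apply, (hpr y).2, smul_zero]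
  have hbb' : B b b' = 1 := by rw [hsymm, hb'b]
  have hbv : B b v = 0 := (hpr z).1
  have hbf : B b f = 0 := (hpr z).2
  intro w
  obtain ⟨u, hu, hwu⟩ : ∃ u, (∃ δ ε : F, u = δ • b + ε • b') ∧ w = B w f • v + B w v • f + u := by
    refine ⟨B w b' • b + B w b • b', ⟨_, _, rfl⟩, ?_⟩
    refine sub_eq_zero.1 (hS.nondeg.2 _ fun x => ?_)
    set r := w - (B w f • v + B w v • f + (B w b' • b + B w b • b')) with hr
    have hli : LinearIndependent F ![v, f, b, b'] := by
      refine Fintype.linearIndependent_iff.2 fun g hg => ?_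
      simp [Fin.sum_univ_four] at hg
      have e0 := congrArg (fun x => B x f) hg
      have e1 := congrArg (fun x => B x v) hg
      have e2 := congrArg (fun x => B x b') hg
      have e3 := congrArg (fun x => B x b) hg
      simp [hA v, hA f, hA b, hA b', hef, hfv, hvb, hfb, hb'v, hb'f, hbb', hb'b, hsymm v b', hsymm f b', hbv, hbf] at e0 e1 e2 e3
      intro i
      fin_cases i
      exacts [e0, e1, e2, e3]
    have hspan := hli.span_eq_top_of_card_eq_finrank (by simp [hS.dim])
    have hle : Submodule.span F (Set.range ![v, f, b, b']) ≤ LinearMap.ker (B.flip r) := by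
      refine Submodule.span_le.2 ?_
      rintro _ ⟨i, rfl⟩
      show B (![v, f, b, b'] i) r = 0
      fin_cases i <;>
        simp [hr, hA v, hA f, hA b, hA b', hef, hfv, hvb, hfb, hb'v, hb'f, hbb', hb'b, hsymm v b', hsymm f b',
          hbv, hbf, hsymm v w, hsymm f w, hsymm b w, hsymm b' w]
    rw [hspan] at hle
    simpa using hle (Submodule.mem_top : x ∈ _)
  obtain ⟨δ, ε, rfl⟩ := hu
  rw [hwu]
  have hyS : δ • b + ε • b' ∈ S := hplane b hbS b' hb'S (by rw [hbb']; exact one_ne_zero) δ ε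
  by_cases hy0 : δ = 0 ∧ ε = 0
  · rw [hy0.1, hy0.2, zero_smul, zero_smul, add_zero, add_zero]
    exact hplane v hv f hfS (by rw [hef]; exact one_ne_zero) _ _
  by_cases hw0 : B w f = 0 ∧ B w v = 0
  · rw [hw0.1, hw0.2, zero_smul, zero_smul, add_zero, zero_add]
    exact hyS
  set a0 := B z f • v + B z v • f with ha0
  have hab : B a0 b = 0 := by simp [ha0, hvb, hfb]
  have hab' : B a0 b' = 0 := by simp [ha0, hsymm v b', hsymm f b', hb'v, hb'f]
  have h1 : δ • b + ε • b' + a0 ∈ S :=
    hshift b b' a0 hbb' hbS hb'S hab hab' 1 0 (Or.inl one_ne_zero)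
      (by rw [one_smul, zero_smul, add_zero, add_comm, hdec z]; exact hz) δ ε (by rwa [not_and_or] at hy0)
  exact hshift v f (δ • b + ε • b') hef hv hfS
    (by simp [hbv, hb'v]) (by simp [hbf, hb'f]) (B z f) (B z v) hza
    (by rw [add_comm] at h1; exact h1) _ _ (by rwa [not_and_or] at hw0)

/-- No two transvections have proportional centres. -/
theorem no_pair (hS : Setting hA G) (h4 : 4 ≤ Nat.card F) {v : V} (hv : v ∈ D hA G) {s : F} (hsv : s • v ∈ D hA G) :
    s = 1 := by
  by_contra hs1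
  have hs0 : s ≠ 0 := fun h => hsv.1 (by rw [h, zero_smul])
  exact hS.no_centre h4 (hS.centre_of_pair hv hs0 hs1 hsv) hv.1

end Setting

end Cfsg.Agent.ResidualFour.Even
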