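import Cfsg.Agent.ResidualFour.Even.TvBase

/-!
The group induced on a non-degenerate plane.
-/

set_option autoImplicit false

namespace Cfsg.Agent.ResidualFour.Even

open Module Cfsg.Agent.Classical Cfsg.Agent.RootSub.Dickson
open scoped MatrixGroups

variable {F V : Type*} [Field F] [AddCommGroup V] [Module F V] {B : LinearMap.BilinForm F V}

/-- `g` fixes `R` pointwise and acts as `A` on the pair `e, f` modulo `R`. -/
def Acts (e f : V) (R : Submodule F V) (A : SL(2, F)) (g : V ≃ₗ[F] V) : Prop :=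
  g e - (A.1 0 0 • e + A.1 1 0 • f) ∈ R ∧ g f - (A.1 0 1 • e + A.1 1 1 • f) ∈ R ∧ ∀ r ∈ R, g r = r

theorem acts_one (e f : V) (R : Submodule F V) : Acts e f R (1 : SL(2, F)) 1 :=
  ⟨by simp, by simp, fun r _ => rfl⟩

theorem acts_mul {e f : V} {R : Submodule F V} {A A' : SL(2, F)} {g g' : V ≃ₗ[F] V} (h : Acts e f R A g)
    (h' : Acts e f R A' g') : Acts e f R (A * A') (g * g') := by
  refine ⟨?_, ?_, fun r hr => by rw [LinearEquiv.mul_apply, h'.2.2 r hr, h.2.2 r hr]⟩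
  all_goals
    rw [Matrix.SpecialLinearGroup.coe_mul, LinearEquiv.mul_apply]
    simp only [Matrix.mul_apply, Fin.sum_univ_two]
  · have h1 := h.2.2 _ h'.1
    rw [map_sub, map_add, map_smul, map_smul] at h1
    have := R.add_mem (R.add_mem (show g' e - (A'.1 0 0 • e + A'.1 1 0 • f) ∈ R from h'.1)
      (R.smul_mem (A'.1 0 0) h.1)) (R.smul_mem (A'.1 1 0) h.2.1)
    rw [← h1] at this
    convert this using 1
    module
  · have h1 := h.2.2 _ h'.2.1
    rw [map_sub, map_add, map_smul, map_smul] at h1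
    have := R.add_mem (R.add_mem (show g' f - (A'.1 0 1 • e + A'.1 1 1 • f) ∈ R from h'.2.1)
      (R.smul_mem (A'.1 0 1) h.1)) (R.smul_mem (A'.1 1 1) h.2.1)
    rw [← h1] at this
    convert this using 1
    module

/-- The induced subgroup of SL_2. -/
def lift [Finite F] (G : Subgroup (V ≃ₗ[F] V)) (e f : V) (R : Submodule F V) : Subgroup SL(2, F) where
  carrier := {A | ∃ g ∈ G, Acts e f R A g}
  one_mem' := ⟨1, one_mem G, acts_one e f R⟩
  mul_mem' := fun ⟨g, hg, h⟩ ⟨g', hg', h'⟩ => ⟨g * g', mul_mem hg hg', acts_mul h h'⟩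
  inv_mem' := fun {A} ⟨g, hg, h⟩ => by
    have hp : ∀ n : ℕ, Acts e f R (A ^ n) (g ^ n) := fun n => by
      induction n with
      | zero => rw [pow_zero, pow_zero]; exact acts_one e f R
      | succ n ih => rw [pow_succ, pow_succ]; exact acts_mul ih h
    obtain ⟨n, hn⟩ : ∃ n : ℕ, A⁻¹ = A ^ n := by
      obtain ⟨n, hn⟩ := (mem_powers_iff_mem_zpowers).2 (Subgroup.inv_mem _ (Subgroup.mem_zpowers A))
      exact ⟨n, hn.symm⟩
    exact ⟨g ^ n, pow_mem hg n, hn ▸ hp n⟩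

variable {hA : B.IsAlt} {G : Subgroup (V ≃ₗ[F] V)}

theorem acts_tv_upper {e f : V} {R : Submodule F V} (hef : B e f = 1) (hR : ∀ r ∈ R, B r e = 0 ∧ B r f = 0 ∧ ∀ s ∈ R, B r s = 0)
    [CharP F 2] (a : F) {ρ : V} (hρ : ρ ∈ R) : Acts e f R (upR (a ^ 2)) (Alt.tv hA (a • e + ρ) 1) := by
  have hfe : B f e = 1 := by rw [symm_B hA, hef]
  refine ⟨?_, ?_, fun r hr => ?_⟩
  · rw [coe_upR, tv1_apply, map_add, map_smul, hA e, symm_B hA e ρ, (hR ρ hρ).1]
    simp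
  · rw [coe_upR, tv1_apply, map_add, map_smul, hfe, symm_B hA f ρ, (hR ρ hρ).2.1]
    simp only [smul_eq_mul, mul_one, add_zero]
    have h : f + a • (a • e + ρ) - ((a ^ 2) • e + (1 : F) • f) = a • ρ := by module
    simp [Matrix.of_apply] at h ⊢
    rw [h]
    exact R.smul_mem a hρ
  · rw [tv1_apply, map_add, map_smul, (hR r hr).1, (hR r hr).2.2 ρ hρ]
    simp

theorem acts_tv_lower {e f : V} {R : Submodule F V} (hef : B e f = 1) (hR : ∀ r ∈ R, B r e = 0 ∧ B r f = 0 ∧ ∀ s ∈ R, B r s = 0)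
    [CharP F 2] (a : F) {ρ : V} (hρ : ρ ∈ R) : Acts e f R (lowR (a ^ 2)) (Alt.tv hA (a • f + ρ) 1) := by
  refine ⟨?_, ?_, fun r hr => ?_⟩
  · rw [coe_lowR, tv1_apply, map_add, map_smul, hef, symm_B hA e ρ, (hR ρ hρ).1]
    simp only [smul_eq_mul, mul_one, add_zero]
    have h : e + a • (a • f + ρ) - ((1 : F) • e + (a ^ 2) • f) = a • ρ := by module
    simp [Matrix.of_apply] at h ⊢
    rw [h]
    exact R.smul_mem a hρ
  · rw [coe_lowR, tv1_apply, map_add, map_smul, hA f, symm_B hA f ρ, (hR ρ hρ).2.1]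
    simp
  · rw [tv1_apply, map_add, map_smul, (hR r hr).2.1, (hR r hr).2.2 ρ hρ]
    simp

theorem diag_mem [Fintype F] [CharP F 2] {L : Subgroup SL(2, F)} {K : Subfield F} (hu : ∀ r, r ∈ K → upR r ∈ L)
    (hl : ∀ r ∈ K, lowR r ∈ L) {δ : F} (hδ : δ ∈ K) (h0 : δ ≠ 0) :
    ∃ A ∈ L, A.1 0 0 = δ ∧ A.1 1 0 = 0 ∧ A.1 0 1 = 0 := by
  refine ⟨upR δ * lowR δ⁻¹ * upR δ * (upR 1 * lowR 1 * upR 1), ?_, ?_⟩
  · exact mul_mem (mul_mem (mul_mem (hu _ hδ) (hl _ (K.inv_mem hδ))) (hu _ hδ))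
      (mul_mem (mul_mem (hu _ K.one_mem) (hl _ K.one_mem)) (hu _ K.one_mem))
  · simp only [Matrix.SpecialLinearGroup.coe_mul, coe_upR, coe_lowR]
    have h2 : (2 : F) = 0 := CharP.ofNat_eq_zero F 2
    simp [Matrix.mul_apply, Fin.sum_univ_two, h0, CharTwo.add_self_eq_zero, one_add_one_eq_two, h2]

theorem sqrt_mem [Finite F] [CharP F 2] (K : Subfield F) {a : F} (h : a ^ 2 ∈ K) : a ∈ K := by
  obtain ⟨s, hs⟩ := (Finite.injective_iff_surjective.1 (frobenius_inj K 2)) ⟨a ^ 2, h⟩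
  have hs' : (s : F) ^ 2 = a ^ 2 := by simpa [frobenius_def] using congrArg Subtype.val hs
  rw [← CharTwo.sq_injective.eq_iff.1 hs']
  exact s.2

end Cfsg.Agent.ResidualFour.Even
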