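import Cfsg.Agent.ResidualFour.Even.TvFull

/-!
Three commuting transvections have collinear centres, affinely.
-/

set_option autoImplicit false

namespace Cfsg.Agent.ResidualFour.Even

open Module Cfsg.Agent.Classical Cfsg.Agent.RootSub.Dickson
open scoped MatrixGroups

variable {F V : Type*} [Field F] [AddCommGroup V] [Module F V] {B : LinearMap.BilinForm F V}
variable {hA : B.IsAlt} {G : Subgroup (V ≃ₗ[F] V)}

/-- An element of the unipotent radical of the point `r`. -/
def Ker (G : Subgroup (V ≃ₗ[F] V)) (B : LinearMap.BilinForm F V) (r z : V) (c : F) : Prop :=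
  ∃ g ∈ G, ∀ x, g x = x + B x r • z + (B x z + c * B x r) • r

variable [CharP F 2]

theorem Ker.add (hA : B.IsAlt) {r z z' : V} {c c' : F} (hz : B z r = 0) (hz' : B z' r = 0) (h : Ker G B r z c)
    (h' : Ker G B r z' c') : Ker G B r (z + z') (c + c' + B z' z) := by
  obtain ⟨g, hg, hgx⟩ := h
  obtain ⟨g', hg', hgx'⟩ := h'
  refine ⟨g * g', mul_mem hg hg', fun x => ?_⟩
  have hrz : B r z = 0 := by rw [symm_B hA, hz]
  rw [LinearEquiv.mul_apply, hgx' x, hgx]
  simp only [map_add, map_smul, LinearMap.add_apply, LinearMap.smul_apply, smul_eq_mul, hA r, hz', hrz]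
  match_scalars <;> ring

theorem Ker.conj (hG : G ≤ Alt.isoGroup B) {r z : V} {c : F} (h : Ker G B r z c) {g : V ≃ₗ[F] V} (hg : g ∈ G)
    (hr : g r = r) : Ker G B r (g z) c := by
  obtain ⟨k, hk, hkx⟩ := h
  refine ⟨g * k * g⁻¹, mul_mem (mul_mem hg hk) (inv_mem hg), fun x => ?_⟩
  have h1 : ∀ w, B (g⁻¹ x) w = B x (g w) := fun w => by
    rw [← hG hg (g⁻¹ x) w, Alt.apply_inv_self]
  rw [LinearEquiv.mul_apply, LinearEquiv.mul_apply, hkx, h1 r, h1 z, hr, map_add, map_add, map_smul, map_smul, hr,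
    Alt.apply_inv_self]

theorem Ker.shift {r z : V} {c : F} (γ : F) (h : Ker G B r (z + γ • r) c) : Ker G B r z c := by
  obtain ⟨g, hg, hgx⟩ := h
  refine ⟨g, hg, fun x => ?_⟩
  rw [hgx x, map_add, map_smul, smul_eq_mul]
  have h2 : (2 : F) = 0 := CharP.ofNat_eq_zero F 2
  match_scalars <;> grind

namespace Setting

variable [Fintype F]

theorem ker_zero (hS : Setting hA G) {r : V} (hr : r ≠ 0) {s : F} (hs : s ≠ 0) (h : Ker G B r 0 (s ^ 2)) :
    s • r ∈ D hA G := by
  obtain ⟨g, hg, hgx⟩ := h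
  refine ⟨smul_ne_zero hs hr, ?_⟩
  convert hg using 1
  ext x
  rw [tv1_apply, hgx, map_smul, smul_eq_mul, map_zero, smul_zero, add_zero, zero_add]
  module

/-- The data attached to a centre, a partner and a further perpendicular centre with an irrational ratio. -/
theorem plane_data (hS : Setting hA G) (hC : ∀ v ∈ D hA G, ∀ s : F, s • v ∈ D hA G → s = 1) {u d r : V} {p : F}
    (hu : u ∈ D hA G) (hd : d ∈ D hA G) (h0 : B d u ≠ 0) (hr : r ≠ 0) (hru : B r u = 0) (hrd : B r d = 0)
    (hv : p • u + r ∈ D hA G) (hp0 : p ≠ 0) (hp1 : p ≠ 1) :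
    (∀ s : F, u + s • r ∈ D hA G → s = 0) ∧ (1 + p)⁻¹ • r ∈ D hA G := by
  set β := B d u with hβ
  obtain ⟨f, hef, hdf, hrf⟩ : ∃ f, B u f = 1 ∧ d = β • f + (0 : V) ∧ B r f = 0 :=
    ⟨β⁻¹ • d, by rw [map_smul, smul_eq_mul, symm_B hA u d, ← hβ, inv_mul_cancel₀ h0],
      by rw [add_zero, smul_inv_smul₀ h0], by rw [map_smul, hrd, smul_zero]⟩
  have hur : B u r = 0 := by rw [symm_B hA, hru]
  have hfr : B f r = 0 := by rw [symm_B hA, hrf]
  have hfu : B f u = 1 := by rw [symm_B hA, hef]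
  set R := Submodule.span F {r}
  have hR : ∀ x ∈ R, B x u = 0 ∧ B x f = 0 ∧ ∀ y ∈ R, B x y = 0 := fun x hx => by
    obtain ⟨a, rfl⟩ := Submodule.mem_span_singleton.1 hx
    refine ⟨by simp [hru], by simp [hrf], fun y hy => ?_⟩
    obtain ⟨b, rfl⟩ := Submodule.mem_span_singleton.1 hy
    simp [hA r]
  have hrR : r ∈ R := Submodule.mem_span_singleton_self r
  set L := lift G u f R with hL
  have h1 : upR (1 : F) ∈ L := ⟨_, hu.2, by
    have h := acts_tv_upper (hA := hA) hef hR 1 R.zero_mem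
    rwa [one_pow, one_smul, add_zero] at h⟩
  have hup : upR (p ^ 2) ∈ L := ⟨_, hv.2, acts_tv_upper hef hR p hrR⟩
  have hlow : lowR (β ^ 2) ∈ L := ⟨_, by rw [← hdf]; exact hd.2, acts_tv_lower (hA := hA) hef hR β R.zero_mem⟩
  have hp2 : p ^ 2 ≠ 1 := fun e => hp1 (CharTwo.sq_injective (show p ^ 2 = 1 ^ 2 by rw [e, one_pow]))
  obtain ⟨K, hK, hKl, -, -⟩ := translations_field L h1 (pow_ne_zero 2 hp0) hp2 hup (pow_ne_zero 2 h0) hlow
  have hpK : p ∈ K := sqrt_mem K ((hK _).2 hup)
  -- at most one centre on the line of r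
  have huniq : ∀ c c' : F, Ker G B r 0 c → Ker G B r 0 c' → c ≠ 0 → c' ≠ 0 → c = c' := by
    intro c c' hc hc' n n'
    obtain ⟨s, rfl⟩ := (Finite.injective_iff_surjective.1 (frobenius_inj F 2)) c
    obtain ⟨s', rfl⟩ := (Finite.injective_iff_surjective.1 (frobenius_inj F 2)) c'
    simp only [frobenius_def] at hc hc' n n' ⊢
    have hs : s ≠ 0 := fun e => n (by rw [e]; exact zero_pow two_ne_zero)
    have hs' : s' ≠ 0 := fun e => n' (by rw [e]; exact zero_pow two_ne_zero)
    have := hC _ (hS.ker_zero hr hs hc) (s' / s) (by rw [smul_smul, div_mul_cancel₀ _ hs]; exact hS.ker_zero hr hs' hc')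
    rw [div_eq_one_iff_eq hs] at this
    rw [this]
  -- the radical has trivial component in the plane
  have hz0 : ∀ (a b c : F), Ker G B r (a • u + b • f) c → a = 0 ∧ b = 0 := by
    have hf0 : ∀ (a b c : F), Ker G B r (a • u + b • f) c → b = 0 := by
      intro a b c hk
      by_contra hb
      have hK1 : ∀ η ∈ K, Ker G B r ((η * b) • u) (η * b ^ 2) := by
        intro η hη
        obtain ⟨g, hg, hgu, hgf, hgr⟩ := (hK η).1 hη
        rw [coe_upR] at hgu hgf
        obtain ⟨γ1, hγ1⟩ := Submodule.mem_span_singleton.1 hgu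
        obtain ⟨γ2, hγ2⟩ := Submodule.mem_span_singleton.1 hgf
        simp at hγ1 hγ2
        have hk2 := hk.conj hS.le hg (hgr r hrR)
        have e : g (a • u + b • f) = ((a + η * b) • u + b • f) + (a * γ1 + b * γ2) • r := by
          rw [map_add, map_smul, map_smul, eq_add_of_sub_eq hγ1.symm, eq_add_of_sub_eq hγ2.symm]
          module
        rw [e] at hk2
        have h3 := Ker.add hA (by simp [hur, hfr]) (by simp [hur, hfr]) hk hk2.shift
        convert h3 using 1
        · match_scalars <;> grind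
        · simp only [map_add, map_smul, LinearMap.add_apply, LinearMap.smul_apply, smul_eq_mul, hA u, hA f, hef, hfu]
          grind
      obtain ⟨A, hA', hA0, hA1, hA2⟩ := diag_mem (L := L) (fun x hx => (hK x).1 hx) hKl hpK hp0
      obtain ⟨g, hg, hgu, -, hgr⟩ := hA'
      obtain ⟨γ, hγ⟩ := Submodule.mem_span_singleton.1 hgu
      rw [hA0, hA1, zero_smul, add_zero] at hγ
      have hKd : ∀ η ∈ K, η ≠ 0 → Ker G B r 0 (η * b ^ 2 * (1 + p)) ∧ η * b ^ 2 * (1 + p) ≠ 0 := by
        intro η hη hη0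
        refine ⟨?_, mul_ne_zero (mul_ne_zero hη0 (pow_ne_zero 2 hb)) (fun e => hp1 (CharTwo.add_eq_zero.1 e).symm)⟩
        have hk2 := (hK1 η hη).conj hS.le hg (hgr r hrR)
        rw [map_smul, eq_add_of_sub_eq hγ.symm, smul_add, smul_smul, smul_smul, add_comm] at hk2
        have h3 := Ker.add hA (by simp [hur]) (by simp [hur]) hk2.shift (hK1 (η * p) (K.mul_mem hη hpK))
        convert h3 using 1
        · match_scalars; grind
        · simp [hA u]; ring
      obtain ⟨c1, n1⟩ := hKd 1 K.one_mem one_ne_zero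
      obtain ⟨c2, n2⟩ := hKd p hpK hp0
      have := huniq _ _ c1 c2 n1 n2
      exact hp1 (mul_right_cancel₀ (pow_ne_zero 2 hb) (mul_right_cancel₀
        (fun e => hp1 (CharTwo.add_eq_zero.1 e).symm) this)).symm
    intro a b c hk
    have hb := hf0 a b c hk
    refine ⟨?_, hb⟩
    obtain ⟨g, hg, hgu, hgf, hgr⟩ := hKl 1 K.one_mem
    rw [coe_lowR] at hgu hgf
    obtain ⟨γ1, hγ1⟩ := Submodule.mem_span_singleton.1 hgu
    obtain ⟨γ2, hγ2⟩ := Submodule.mem_span_singleton.1 hgf
    simp at hγ1 hγ2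
    have hk2 := hk.conj hS.le hg (hgr r hrR)
    have e : g (a • u + b • f) = (a • u + (a + b) • f) + (a * γ1 + b * γ2) • r := by
      rw [map_add, map_smul, map_smul, eq_add_of_sub_eq hγ1.symm, eq_add_of_sub_eq hγ2.symm]
      module
    rw [e] at hk2
    have := hf0 _ _ _ hk2.shift
    rwa [hb, add_zero] at this
  -- products of transvections with centres in the line
  have hline : ∀ (a s a' s' : F), a • u + s • r ∈ D hA G → a' • u + s' • r ∈ D hA G →
      ∀ x, (Alt.tv hA (a • u + s • r) 1 * Alt.tv hA (a' • u + s' • r) 1 : V ≃ₗ[F] V) x =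
        x + ((a ^ 2 + a' ^ 2) * B x u) • u + (B x r * (a * s + a' * s')) • u +
          ((a * s + a' * s') * B x u + (s ^ 2 + s' ^ 2) * B x r) • r := by
    intro a s a' s' _ _ x
    simp only [LinearEquiv.mul_apply, tv1_apply, map_add, map_smul, LinearMap.add_apply, LinearMap.smul_apply,
      smul_eq_mul, hA u, hA r, hur, hru]
    match_scalars <;> ring
  have hu' : (1 : F) • u + (0 : F) • r ∈ D hA G := by rw [one_smul, zero_smul, add_zero]; exact hu
  constructor
  · intro s hs
    by_contra hs0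
    have hs' : (1 : F) • u + s • r ∈ D hA G := by rwa [one_smul]
    have hk : Ker G B r (s • u + (0 : F) • f) (s ^ 2) := by
      refine ⟨_, mul_mem hu'.2 hs'.2, fun x => ?_⟩
      rw [hline 1 0 1 s hu' hs' x, map_add, map_smul, map_smul]
      simp only [smul_eq_mul]
      match_scalars <;> grind
    exact hs0 (hz0 _ _ _ hk).1
  · obtain ⟨A, hA', hA0, hA1, -⟩ := diag_mem (L := L) (fun x hx => (hK x).1 hx) hKl (K.add_mem K.one_mem hpK)
      (fun e => hp1 (CharTwo.add_eq_zero.1 e).symm)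
    obtain ⟨g, hg, hgu, -, -⟩ := hA'
    obtain ⟨γ, hγ⟩ := Submodule.mem_span_singleton.1 hgu
    rw [hA0, hA1, zero_smul, add_zero] at hγ
    have hw : (1 + p) • u + γ • r ∈ D hA G := by
      rw [add_comm, hγ, sub_add_cancel]; exact hS.map_mem hg hu
    have hv' : p • u + (1 : F) • r ∈ D hA G := by rwa [one_smul]
    set z := p + (1 + p) * γ
    have hk : Ker G B r (z • u + (0 : F) • f) (1 + γ ^ 2) := by
      refine ⟨_, mul_mem hu'.2 (mul_mem hv'.2 hw.2), fun x => ?_⟩
      rw [LinearEquiv.mul_apply, hline p 1 (1 + p) γ hv' hw x, one_smul, zero_smul, add_zero, tv1_apply]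
      simp only [map_add, map_smul, LinearMap.add_apply, LinearMap.smul_apply, smul_eq_mul, hA u, hru, z]
      match_scalars <;> grind
    obtain ⟨hz, -⟩ := hz0 _ _ _ hk
    have hne : (1 + p) ≠ 0 := fun e => hp1 (CharTwo.add_eq_zero.1 e).symm
    refine hS.ker_zero hr (inv_ne_zero hne) ?_
    rw [hz, zero_smul, zero_smul, add_zero] at hk
    convert hk using 1
    have hγ' : γ = p / (1 + p) := by
      rw [eq_div_iff hne, mul_comm]
      exact ((CharTwo.add_eq_zero.1 hz)).symm
    rw [hγ']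
    field_simp
    grind

end Setting

end Cfsg.Agent.ResidualFour.Even
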